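import Mathlib

/-!
A monic rational polynomial is integral as soon as all its resultants with monic integer polynomials are integers,
the resultants being given by a polynomial rule on split polynomials.
-/

set_option autoImplicit false

noncomputable section

open Polynomial

namespace Groth.Agent.AVDeg

variable {K : Type*} [Field K]

/-- Outside a valuation ring, products with units stay outside. -/
theorem notMem_mul {V : ValuationSubring K} {x y : K} (hx : x ∉ V) (hy : y ∉ V ∨ (y ∈ V ∧ y⁻¹ ∈ V ∧ y ≠ 0)) :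
    x * y ∉ V := by
  intro h
  rcases hy with hy | ⟨-, hy, hy0⟩
  · have hx0 : x ≠ 0 := fun h0 => hx (h0 ▸ zero_mem V)
    exact hy (by
      have h' := mul_mem h ((V.mem_or_inv_mem x).resolve_left hx)
      rwa [mul_comm x y, mul_inv_cancel_right₀ hx0] at h')
  · exact hx (by
      have h' := mul_mem h hy
      rwa [mul_inv_cancel_right₀ hy0] at h')

theorem aeval_mem {V : ValuationSubring K} (F : ℤ[X]) {x : K} (hx : x ∈ V) : aeval x F ∈ V := by
  induction F using Polynomial.induction_on' with
  | add p q hp hq => rw [map_add]; exact add_mem hp hq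
  | monomial n c => rw [aeval_monomial]; exact mul_mem (intCast_mem V c) (pow_mem hx n)

/-- A monic integral polynomial sends the outside of a valuation ring outside. -/
theorem aeval_notMem {V : ValuationSubring K} {F : ℤ[X]} (hF : F.Monic) (hd : 0 < F.natDegree) {x : K} (hx : x ∉ V) :
    aeval x F ∉ V := by
  intro h
  refine hx ?_
  have hi : IsIntegral V x := by
    refine ⟨F.map (algebraMap ℤ V) - C ⟨_, h⟩, (hF.map _).sub_of_left ?_, ?_⟩
    · rw [degree_eq_natDegree (hF.map _).ne_zero, hF.natDegree_map]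
      exact lt_of_le_of_lt degree_C_le (by exact_mod_cast hd)
    · rw [eval₂_sub, eval₂_map, eval₂_C, Subsingleton.elim ((algebraMap V K).comp (algebraMap ℤ V)) (algebraMap ℤ K)]
      exact sub_self _
  obtain ⟨y, hy⟩ := (IsIntegrallyClosed.isIntegral_iff (R := V) (K := K)).1 hi
  exact hy ▸ y.2

/-- A monic integral polynomial whose values at given residues are nonzero. -/
theorem exists_residue_test {κ : Type*} [Field κ] (S : Finset κ) :
    ∃ F : ℤ[X], F.Monic ∧ 0 < F.natDegree ∧ ∀ a ∈ S, aeval a F ≠ 0 := by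
  classical
  let g : κ → ℤ[X] := fun a => if h : IsIntegral ℤ a then h.choose else 1
  have hg : ∀ a, (g a).Monic := fun a => by
    by_cases h : IsIntegral ℤ a
    · simp only [g, dif_pos h]; exact h.choose_spec.1
    · simp only [g, dif_neg h]; exact monic_one
  let G := X * ∏ a ∈ S, g a
  have hG : G.Monic := monic_X.mul (monic_prod_of_monic _ _ fun a _ => hg a)
  have hGd : 0 < G.natDegree := by
    rw [show G = X * ∏ a ∈ S, g a from rfl,
      monic_X.natDegree_mul (monic_prod_of_monic _ _ fun a _ => hg a), natDegree_X]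
    omega
  have hlt : (1 : ℤ[X]).degree < G.degree := by
    rw [degree_one, degree_eq_natDegree hG.ne_zero]; exact_mod_cast hGd
  refine ⟨G + 1, hG.add_of_left hlt, ?_, fun a ha h => ?_⟩
  · rwa [natDegree_add_eq_left_of_degree_lt hlt]
  · by_cases hi : IsIntegral ℤ a
    · have h0 : aeval a (g a) = 0 := by
        simp only [g, dif_pos hi]; rw [aeval_def]; exact hi.choose_spec.2
      simp only [G, map_add, map_mul, map_prod, map_one, Finset.prod_eq_zero (f := fun x => aeval a (g x)) ha h0, mul_zero, zero_add] at h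
      exact one_ne_zero h
    · exact hi ⟨G + 1, hG.add_of_left hlt, by rwa [← aeval_def]⟩

/-- The rule on split polynomials extends to all monic polynomials. -/
theorem eval_rule [IsAlgClosed K] [CharZero K] {s : ℕ} {P : ℚ[X]} (R : MvPolynomial (Fin (s + 1)) ℚ)
    (hR : ∀ θ : Fin s → ℤ,
      MvPolynomial.eval (fun j : Fin (s + 1) => (((∏ i, (X - C (θ i))).coeff j : ℤ) : ℚ)) R = ∏ i, P.eval (θ i : ℚ))
    (F : ℤ[X]) (hF : F.Monic) (hs : F.natDegree = s) (β : Fin s → K)
    (hβ : F.map (algebraMap ℤ K) = ∏ i, (X - C (β i))) :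
    ((MvPolynomial.eval (fun j : Fin (s + 1) => ((F.coeff j : ℤ) : ℚ)) R : ℚ) : K) = ∏ i, aeval (β i) P := by
  let Q : Fin (s + 1) → MvPolynomial (Fin s) K := fun j => ((∏ i, (X - C (MvPolynomial.X i))) : (MvPolynomial (Fin s) K)[X]).coeff (j : ℕ)
  let G : MvPolynomial (Fin s) K := MvPolynomial.aeval Q R - ∏ i, Polynomial.aeval (MvPolynomial.X i) P
  have hQ : ∀ (v : Fin s → K) (j : Fin (s + 1)),
      MvPolynomial.eval v (Q j) = (∏ i, (X - C (v i))).coeff j := fun v j => by
    have : (∏ i, (X - C (v i))) = (∏ i, (X - C (MvPolynomial.X i : MvPolynomial (Fin s) K))).map (MvPolynomial.eval v) := by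
      rw [Polynomial.map_prod]; simp
    rw [this, coeff_map]
  have hA : ∀ v : Fin s → K, MvPolynomial.eval v G =
      MvPolynomial.aeval (fun j : Fin (s + 1) => (∏ i, (X - C (v i))).coeff (j : ℕ)) R - ∏ i, aeval (v i) P := fun v => by
    simp only [G, map_sub, map_prod]
    congr 1
    · show ((MvPolynomial.aeval (R := K) v).restrictScalars ℚ) (MvPolynomial.aeval Q R) = _
      rw [← AlgHom.comp_apply, MvPolynomial.comp_aeval]
      exact congrArg (fun w => MvPolynomial.aeval w R) (funext fun j => hQ v j)
    · refine Finset.prod_congr rfl fun i _ => ?_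
      show ((MvPolynomial.aeval (R := K) v).restrictScalars ℚ) (Polynomial.aeval _ P) = _
      rw [← Polynomial.aeval_algHom_apply]
      simp
  have hG : G = 0 := by
    refine MvPolynomial.funext_set (fun _ : Fin s => Set.range ((↑) : ℤ → K))
      (fun _ => Set.infinite_range_of_injective Int.cast_injective) fun v hv => ?_
    choose θ hθ using fun i => hv i (Set.mem_univ i)
    obtain rfl : (fun i => ((θ i : ℤ) : K)) = v := funext hθ
    rw [hA, map_zero, sub_eq_zero]
    have e : ∀ j : Fin (s + 1), (∏ i, (X - C ((θ i : ℤ) : K))).coeff (j : ℕ) =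
        algebraMap ℚ K (((∏ i, (X - C (θ i))).coeff j : ℤ) : ℚ) := fun j => by
      rw [map_intCast, show (∏ i, (X - C ((θ i : ℤ) : K))) = (∏ i, (X - C (θ i))).map (Int.castRingHom K) by
        rw [Polynomial.map_prod]; simp, coeff_map]
      rfl
    simp only [e]
    rw [← Function.comp_def (algebraMap ℚ K), MvPolynomial.aeval_algebraMap_apply, MvPolynomial.aeval_eq_eval, hR, map_prod]
    exact Finset.prod_congr rfl fun i _ => by
      rw [← Polynomial.aeval_algebraMap_apply_eq_algebraMap_eval, map_intCast]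
  have h := hA β
  rw [hG, map_zero, eq_comm, sub_eq_zero, ← hβ] at h
  rw [← h, show (fun j : Fin (s + 1) => (F.map (algebraMap ℤ K)).coeff (j : ℕ)) =
    algebraMap ℚ K ∘ fun j : Fin (s + 1) => ((F.coeff j : ℤ) : ℚ) by funext j; simp,
    MvPolynomial.aeval_algebraMap_apply, MvPolynomial.aeval_eq_eval]
  exact (eq_ratCast (algebraMap ℚ K) _).symm

/-- A monic rational polynomial all of whose such rules take integral values has integral coefficients. -/
theorem isIntegral_of_rules {P : ℚ[X]} (hP : P.Monic)
    (hrule : ∀ s : ℕ, ∃ R : MvPolynomial (Fin (s + 1)) ℚ,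
      (∀ c : Fin (s + 1) → ℤ, ∃ z : ℤ, MvPolynomial.eval (fun j => (c j : ℚ)) R = z) ∧
      ∀ θ : Fin s → ℤ,
        MvPolynomial.eval (fun j : Fin (s + 1) => (((∏ i, (X - C (θ i))).coeff j : ℤ) : ℚ)) R = ∏ i, P.eval (θ i : ℚ)) :
    ∃ P₀ : ℤ[X], P₀.Monic ∧ P₀.map (Int.castRingHom ℚ) = P := by
  classical
  let L := AlgebraicClosure ℚ
  let PL := P.map (algebraMap ℚ L)
  have hPL : PL.Monic := hP.map _
  have hsplit : PL.Splits := IsAlgClosed.splits PL
  have hprod : PL = (PL.roots.map fun a => X - C a).prod := hsplit.eq_prod_roots_of_monic hPL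
  have hroot : ∀ α ∈ PL.roots, IsIntegral ℤ α := by
    by_contra hcon
    push Not at hcon
    obtain ⟨α₀, hα₀, hint⟩ := hcon
    obtain ⟨V, hV⟩ : ∃ V : ValuationSubring L, α₀ ∉ V := by
      by_contra hall
      push Not at hall
      refine hint ?_
      haveI : Algebra.IsIntegral ℤ (Subring.closure (∅ : Set L)) := ⟨fun x => by
        obtain ⟨z, hz⟩ := Subring.mem_bot.1 (Subring.closure_empty (R := L) ▸ x.2 : (x : L) ∈ (⊥ : Subring L))
        rw [show x = algebraMap ℤ _ z from Subtype.ext (by simp [hz])]
        exact isIntegral_algebraMap⟩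
      have h2 : α₀ ∈ (integralClosure (Subring.closure (∅ : Set L)) L).toSubring := by
        rw [← iInf_valuationSubring_superset]
        exact Subring.mem_iInf.2 fun V => hall V.1
      exact isIntegral_trans (A := Subring.closure (∅ : Set L)) α₀ h2
    let S : Finset (IsLocalRing.ResidueField V) := PL.roots.toFinset.image fun a =>
      if h : a ∈ V then IsLocalRing.residue V ⟨a, h⟩ else 0
    obtain ⟨F, hF, hFd, hFS⟩ := exists_residue_test S
    obtain ⟨R, hRint, hR⟩ := hrule F.natDegree
    let FL := F.map (algebraMap ℤ L)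
    have hFL : FL.Monic := hF.map _
    have hFs : FL.Splits := IsAlgClosed.splits FL
    have hlen : FL.roots.toList.length = F.natDegree := by
      rw [Multiset.length_toList, ← hFs.natDegree_eq_card_roots, hF.natDegree_map]
    let β : Fin F.natDegree → L := fun i => FL.roots.toList.get (i.cast hlen.symm)
    have hβ : FL = ∏ i, (X - C (β i)) := by
      conv_lhs => rw [hFs.eq_prod_roots_of_monic hFL, ← Multiset.coe_toList FL.roots, Multiset.map_coe,
        Multiset.prod_coe, ← List.ofFn_get FL.roots.toList, List.map_ofFn, List.prod_ofFn]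
      exact (Equiv.prod_comp (finCongr hlen.symm) _).symm
    obtain ⟨z, hz⟩ := hRint fun j => F.coeff j
    have h := eval_rule (K := L) R hR F hF rfl β hβ
    rw [hz, Rat.cast_intCast] at h
    have hev : ∀ x, aeval x P = (PL.roots.map fun a => x - a).prod := fun x => by
      rw [aeval_def, ← eval_map, show P.map (algebraMap ℚ L) = PL from rfl]
      conv_lhs => rw [hprod]
      simp [eval_multiset_prod, Multiset.map_map]
    have hevF : ∀ a, aeval a F = ∏ i, (a - β i) := fun a => by
      rw [aeval_def, ← eval_map, show F.map (algebraMap ℤ L) = FL from rfl, hβ]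
      simp [eval_prod]
    have hswap : (∏ i, aeval (β i) P) =
        (-1) ^ (PL.roots.card * F.natDegree) * (PL.roots.map fun a => aeval a F).prod := by
      simp only [hev, hevF]
      calc (∏ i, (PL.roots.map fun a => β i - a).prod)
          = ∏ i, ((-1) ^ PL.roots.card * (PL.roots.map fun a => a - β i).prod) := by
            refine Finset.prod_congr rfl fun i _ => ?_
            rw [← Multiset.card_map (fun a => a - β i) PL.roots, ← Multiset.prod_map_neg, Multiset.map_map]
            simp [Function.comp_def]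
        _ = _ := by
            rw [Finset.prod_mul_distrib, Finset.prod_const, Finset.card_univ, Fintype.card_fin, ← pow_mul,
              Multiset.prod_map_prod]
    rw [hswap] at h
    have hmem : (PL.roots.map fun a => aeval a F).prod ∈ V := by
      have h1 : ((-1 : L) ^ (PL.roots.card * F.natDegree) * (z : L)) = (PL.roots.map fun a => aeval a F).prod := by
        rw [h, ← mul_assoc, ← mul_pow, neg_mul_neg, one_mul, one_pow, one_mul]
      rw [← h1]
      exact mul_mem (pow_mem (neg_mem (one_mem V)) _) (intCast_mem V z)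
    rw [← Multiset.cons_erase hα₀, Multiset.map_cons, Multiset.prod_cons] at hmem
    refine notMem_mul (aeval_notMem hF hFd hV) ?_ hmem
    -- each factor is a unit of `V` or outside
    refine Multiset.prod_induction (fun y => y ∉ V ∨ (y ∈ V ∧ y⁻¹ ∈ V ∧ y ≠ 0)) _ (fun x y hx hy => ?_) ?_ fun y hy => ?_
    · rcases hx with hx | ⟨hx, hx', hx0⟩
      · exact Or.inl (notMem_mul hx hy)
      rcases hy with hy | ⟨hy, hy', hy0⟩
      · exact Or.inl (mul_comm x y ▸ notMem_mul hy (Or.inr ⟨hx, hx', hx0⟩))
      · exact Or.inr ⟨mul_mem hx hy, by rw [mul_inv]; exact mul_mem hx' hy', mul_ne_zero hx0 hy0⟩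
    · exact Or.inr ⟨one_mem V, by rw [inv_one]; exact one_mem V, one_ne_zero⟩
    obtain ⟨a, ha, rfl⟩ := Multiset.mem_map.1 hy
    by_cases haV : a ∈ V
    · refine Or.inr ⟨aeval_mem F haV, ?_⟩
      have hres : IsLocalRing.residue V ⟨aeval a F, aeval_mem F haV⟩ ≠ 0 := by
        have e : (⟨aeval a F, aeval_mem F haV⟩ : V) = aeval (⟨a, haV⟩ : V) F :=
          Subtype.ext (by simpa using (aeval_algebraMap_apply L (⟨a, haV⟩ : V) F))
        rw [e, show IsLocalRing.residue V (aeval (⟨a, haV⟩ : V) F) = aeval (IsLocalRing.residue V ⟨a, haV⟩) F from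
          (aeval_algHom_apply (IsLocalRing.residue V).toIntAlgHom _ _).symm]
        refine hFS _ (Finset.mem_image.2 ⟨a, Multiset.mem_toFinset.2 (Multiset.mem_of_mem_erase ha), ?_⟩)
        rw [dif_pos haV]
      have hu := (IsLocalRing.residue_ne_zero_iff_isUnit _).1 hres
      obtain ⟨w, hw⟩ := hu.exists_right_inv
      have hw' : aeval a F * (w : L) = 1 := congrArg Subtype.val hw
      exact ⟨by rw [← eq_inv_of_mul_eq_one_right hw']; exact w.2, left_ne_zero_of_mul_eq_one hw'⟩
    · exact Or.inl (aeval_notMem hF hFd haV)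
  -- coefficients
  have hlift : P ∈ Polynomial.lifts (Int.castRingHom ℚ) := by
    refine (lifts_iff_coeff_lifts P).2 fun n => ?_
    have hint : IsIntegral ℤ (algebraMap ℚ L (P.coeff n)) := by
      rw [← coeff_map, show P.map (algebraMap ℚ L) = PL from rfl, hprod]
      let OL := (integralClosure ℤ L).toSubring
      have : (PL.roots.map fun a => X - C a).prod ∈ Polynomial.lifts OL.subtype := by
        refine multiset_prod_mem _ fun q hq => ?_
        obtain ⟨a, ha, rfl⟩ := Multiset.mem_map.1 hq
        exact ⟨X - C ⟨a, hroot a ha⟩, by simp⟩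
      obtain ⟨⟨w, hw⟩, e⟩ := (lifts_iff_coeff_lifts _).1 this n
      rw [← e]
      exact hw
    rw [isIntegral_algebraMap_iff (algebraMap ℚ L).injective] at hint
    obtain ⟨z, hz⟩ := (IsIntegrallyClosed.isIntegral_iff (R := ℤ) (K := ℚ)).1 hint
    exact ⟨z, hz⟩
  obtain ⟨P₀, hP₀, -, hP₀m⟩ := lifts_and_degree_eq_and_monic hlift hP
  exact ⟨P₀, hP₀m, hP₀⟩

end Groth.Agent.AVDeg
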