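import Groth.Agent.AVDeg.Deg
import Groth.Agent.AVDeg.IntegralPoly

/-!
The characteristic polynomial of an endomorphism of an abelian variety.
-/

set_option autoImplicit false
set_option backward.isDefEq.respectTransparency false
set_option backward.isDefEq.respectTransparency.types false
set_option linter.style.haveILetI false
set_option linter.unusedSectionVars false

universe u

open CategoryTheory CategoryTheory.Limits MonoidalCategory CartesianMonoidalCategory MonObj AlgebraicGeometry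
open TopologicalSpace

noncomputable section

namespace Groth.Agent.AVDeg

attribute [local instance] W7Cube.law
attribute [local instance] overInst

variable {k : Type u} [Field k] {A : Over (Spec (CommRingCat.of k))} [GrpObj A] [IsProper A.hom]
  [GeometricallyIntegral A.hom]

/-- The degree, zero outside finite maps. -/
def deg (φ : A ⟶ A) : ℕ :=
  haveI := isIntegral_av A
  open Classical in if IsFinite φ.left then φ.left.finrank (genericPoint A.left) else 0

theorem top_pc {r : ℕ} (hA : topologicalKrullDim A.left = (r : WithBot ℕ∞)) (φ : A ⟶ A) [IsMonHom φ]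
    (c : Fin r → PicLoc.PicSet A.left) :
    top k (fun i => W7Cube.pc (c i) φ) = (deg φ : ℚ) * top k c := by
  haveI := isIntegral_av A
  rw [deg]
  split
  · next h => exact top_pc_finite hA hA φ h _ c
  · next h => rw [top_pc_eq_zero hA hA φ h c, Nat.cast_zero, zero_mul]

theorem exists_top_ne_zero {r : ℕ} (hA : topologicalKrullDim A.left = (r : WithBot ℕ∞)) :
    ∃ c : Fin r → PicLoc.PicSet A.left, top k c ≠ 0 := by
  obtain ⟨H, hH, -⟩ := Groth.Agent.S8121.result k A
  exact ⟨_, (top_pos hA hH).ne'⟩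

theorem deg_comp {r : ℕ} (hA : topologicalKrullDim A.left = (r : WithBot ℕ∞)) (φ ψ : A ⟶ A) [IsMonHom φ]
    [IsMonHom ψ] : deg (φ ≫ ψ) = deg φ * deg ψ := by
  obtain ⟨c, hc⟩ := exists_top_ne_zero hA
  have h := top_pc hA (φ ≫ ψ) c
  have h1 : (fun i => W7Cube.pc (c i) (φ ≫ ψ)) = fun i => W7Cube.pc (W7Cube.pc (c i) ψ) φ :=
    funext fun i => (W7Cube.pull_pc (c i) φ ψ).symm
  rw [h1, top_pc hA φ, top_pc hA ψ, ← _root_.mul_assoc] at h
  exact_mod_cast (mul_right_cancel₀ hc h).symm

theorem deg_id {r : ℕ} (hA : topologicalKrullDim A.left = (r : WithBot ℕ∞)) : deg (𝟙 A) = 1 := by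
  obtain ⟨c, hc⟩ := exists_top_ne_zero hA
  have h := top_pc hA (𝟙 A) c
  simp only [W7Cube.pc_id] at h
  exact_mod_cast (mul_right_cancel₀ hc ((_root_.one_mul (top k c)).trans h)).symm

theorem finrank_eq_deg {r : ℕ} (hA : topologicalKrullDim A.left = (r : WithBot ℕ∞)) (φ : A ⟶ A) [IsMonHom φ]
    (h : IsFinite φ.left) (a : A.left) : φ.left.finrank a = deg φ := by
  haveI := isIntegral_av A
  haveI : IsFinite φ.left := h
  haveI : Surjective φ.left := GrpField.surjective_of_isFinite φ rfl
  haveI : Flat φ.left := GrpField.flat_of_surjective φ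
  haveI : IsLocallyNoetherian A.left := LocallyOfFiniteType.isLocallyNoetherian A.hom
  rw [deg, if_pos h]
  exact φ.left.isLocallyConstant_finrank.apply_eq_of_preconnectedSpace a _

theorem deg_eq_zero_of_not_isFinite {φ : A ⟶ A} (h : ¬ IsFinite φ.left) : deg φ = 0 := by
  rw [deg, if_neg h]

variable [IsCommMonObj A]

theorem exists_deg_poly' {r : ℕ} (hA : topologicalKrullDim A.left = (r : WithBot ℕ∞)) {m : ℕ}
    (f : Fin m → (A ⟶ A)) [∀ i, IsMonHom (f i)] :
    ∃ P : MvPolynomial (Fin m) ℚ, P.IsHomogeneous (2 * r) ∧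
      ∀ a : Fin m → ℤ, MvPolynomial.eval (fun i => (a i : ℚ)) P = deg (∏ i, f i ^ a i) := by
  haveI := isIntegral_av A
  obtain ⟨P, hP, h⟩ := exists_deg_poly hA hA f
  refine ⟨P, hP, fun a => ?_⟩
  rw [deg]
  split
  · next hf => exact ((h a).1 hf _).symm
  · next hf => rw [(h a).2 hf, Nat.cast_zero]

/-- Evaluation at the point `(0, 1)` picks the coefficient of the pure power. -/
theorem aeval_line {P : MvPolynomial (Fin 2) ℚ} {n : ℕ} (hP : P.IsHomogeneous n) :
    (MvPolynomial.aeval ![(1 : Polynomial ℚ), Polynomial.X] P).natDegree ≤ n ∧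
      (MvPolynomial.aeval ![(1 : Polynomial ℚ), Polynomial.X] P).coeff n = MvPolynomial.eval ![(0 : ℚ), 1] P := by
  have hdeg : ∀ d ∈ P.support, d 0 + d 1 = n := fun d hd => by
    have := hP (MvPolynomial.mem_support_iff.1 hd)
    rw [Finsupp.weight_apply, Finsupp.sum_fintype _ _ (fun _ => by simp)] at this
    simpa [Fin.sum_univ_two] using this
  have hexp : MvPolynomial.aeval ![(1 : Polynomial ℚ), Polynomial.X] P =
      ∑ d ∈ P.support, Polynomial.C (P.coeff d) * Polynomial.X ^ d 1 := by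
    conv_lhs => rw [P.as_sum]
    rw [map_sum]
    refine Finset.sum_congr rfl fun d _ => ?_
    rw [MvPolynomial.aeval_monomial, Finsupp.prod_fintype _ _ (fun _ => pow_zero _), Fin.prod_univ_two,
      Polynomial.algebraMap_eq]
    simp
  refine ⟨hexp ▸ Polynomial.natDegree_sum_le_of_forall_le _ _ fun d hd =>
    (Polynomial.natDegree_C_mul_X_pow_le _ _).trans (by have := hdeg d hd; omega), ?_⟩
  rw [hexp, Polynomial.finset_sum_coeff, MvPolynomial.eval_eq']
  refine Finset.sum_congr rfl fun d hd => ?_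
  rw [Polynomial.coeff_C_mul_X_pow, Fin.prod_univ_two]
  have := hdeg d hd
  by_cases h : d 0 = 0
  · simp [h, show n = d 1 by omega]
  · simp [zero_pow h, show n ≠ d 1 by omega]

/-- The degree of `α + n`. -/
theorem exists_monic_deg {r : ℕ} (hA : topologicalKrullDim A.left = (r : WithBot ℕ∞)) (α : A ⟶ A) [IsMonHom α] :
    ∃ P : Polynomial ℚ, P.Monic ∧ P.natDegree = 2 * r ∧ ∀ n : ℤ, P.eval (n : ℚ) = deg (α * 𝟙 A ^ n) := by
  haveI : ∀ i, IsMonHom (![α, 𝟙 A] i) := fun i => by
    fin_cases i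
    · exact ‹IsMonHom α›
    · exact inferInstanceAs (IsMonHom (𝟙 A))
  obtain ⟨P, hP, h⟩ := exists_deg_poly' hA ![α, 𝟙 A]
  obtain ⟨hle, hco⟩ := aeval_line hP
  let Q := MvPolynomial.aeval ![(1 : Polynomial ℚ), Polynomial.X] P
  have htop : Q.coeff (2 * r) = 1 := by
    rw [hco]
    have h01 := h ![0, 1]
    simp only [Fin.prod_univ_two] at h01
    rw [show (fun i => ((![(0 : ℤ), 1] i : ℤ) : ℚ)) = ![(0 : ℚ), 1] by funext i; fin_cases i <;> simp] at h01
    rw [h01]
    simp [deg_id hA]
  have hQ : Q.Monic := Polynomial.monic_of_natDegree_le_of_coeff_eq_one (2 * r) hle htop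
  refine ⟨Q, hQ, le_antisymm hle (Polynomial.le_natDegree_of_ne_zero (htop ▸ one_ne_zero)), fun n => ?_⟩
  have h1 := h ![1, n]
  simp only [Fin.prod_univ_two] at h1
  rw [show (fun i => ((![(1 : ℤ), n] i : ℤ) : ℚ)) = ![(1 : ℚ), (n : ℚ)] by funext i; fin_cases i <;> simp] at h1
  simp only [Matrix.cons_val_zero, Matrix.cons_val_one, zpow_one] at h1
  rw [← h1]
  show Polynomial.aeval (n : ℚ) Q = _
  rw [← AlgHom.comp_apply, MvPolynomial.comp_aeval]
  exact congrArg (fun w => MvPolynomial.eval w P) (funext fun i => by fin_cases i <;> simp)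

/-- Powers of an endomorphism under composition. -/
def iter (α : A ⟶ A) : ℕ → (A ⟶ A)
  | 0 => 𝟙 A
  | n + 1 => iter α n ≫ α

theorem isMonHom_iter (α : A ⟶ A) [IsMonHom α] : ∀ n, IsMonHom (iter α n)
  | 0 => inferInstanceAs (IsMonHom (𝟙 A))
  | n + 1 => by
    haveI := isMonHom_iter α n
    exact inferInstanceAs (IsMonHom (iter α n ≫ α))

/-- Substitution of an endomorphism in an integral polynomial. -/
def polyEnd (α : A ⟶ A) : Polynomial ℤ →ₗ[ℤ] Additive (A ⟶ A) :=
  Polynomial.lsum fun j => LinearMap.toSpanSingleton ℤ _ (Additive.ofMul (iter α j))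

theorem polyEnd_monomial (α : A ⟶ A) (j : ℕ) (c : ℤ) :
    polyEnd α (Polynomial.monomial j c) = c • Additive.ofMul (iter α j) := by
  simp [polyEnd, Polynomial.lsum_apply]

theorem polyEnd_mul_X (α : A ⟶ A) [IsMonHom α] (G : Polynomial ℤ) :
    Additive.toMul (polyEnd α (G * Polynomial.X)) = Additive.toMul (polyEnd α G) ≫ α := by
  induction G using Polynomial.induction_on' with
  | add p q hp hq => rw [add_mul, LinearMap.map_add, LinearMap.map_add, toMul_add, toMul_add, hp, hq, MonObj.mul_comp]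
  | monomial j c =>
    rw [Polynomial.monomial_mul_X, polyEnd_monomial, polyEnd_monomial, toMul_zsmul, toMul_zsmul, GrpObj.zpow_comp]
    rfl

theorem polyEnd_mul_linear (α : A ⟶ A) [IsMonHom α] (G : Polynomial ℤ) (θ : ℤ) :
    Additive.toMul (polyEnd α (G * (Polynomial.X - Polynomial.C θ))) =
      Additive.toMul (polyEnd α G) ≫ (α * 𝟙 A ^ (-θ)) := by
  rw [mul_sub, map_sub, mul_comm G (Polynomial.C θ), ← Polynomial.smul_eq_C_mul, map_smul, toMul_sub, toMul_zsmul,
    polyEnd_mul_X, MonObj.comp_mul, GrpObj.comp_zpow, Category.comp_id, zpow_neg, div_eq_mul_inv]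

theorem polyEnd_one (α : A ⟶ A) : Additive.toMul (polyEnd α 1) = 𝟙 A := by
  rw [← Polynomial.monomial_zero_one, polyEnd_monomial, toMul_zsmul, zpow_one]
  rfl

/-- The characteristic polynomial has integral coefficients. -/
theorem exists_int_charpoly {r : ℕ} (hA : topologicalKrullDim A.left = (r : WithBot ℕ∞)) (α : A ⟶ A) [IsMonHom α] :
    ∃ P : Polynomial ℤ, P.Monic ∧ P.natDegree = 2 * r ∧ ∀ n : ℤ, (P.eval n : ℤ) = deg (α * 𝟙 A ^ (-n)) := by
  obtain ⟨Q₀, hQ₀, hQ₀d, hQ₀v⟩ := exists_monic_deg hA α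
  let Q : Polynomial ℚ := Q₀.comp (-Polynomial.X)
  have hQv : ∀ n : ℤ, Q.eval (n : ℚ) = deg (α * 𝟙 A ^ (-n)) := fun n => by
    rw [← hQ₀v]; simp [Q]
  have hQd : Q.natDegree = 2 * r := by rw [Polynomial.natDegree_comp, Polynomial.natDegree_neg, Polynomial.natDegree_X, _root_.mul_one, hQ₀d]
  have hQm : Q.Monic := by
    rw [Polynomial.Monic, Polynomial.leadingCoeff_comp (by simp), hQ₀.leadingCoeff, hQ₀d]
    simp
  obtain ⟨P, hPm, hP⟩ := isIntegral_of_rules hQm fun s => by
    haveI : ∀ j : Fin (s + 1), IsMonHom (iter α j) := fun j => isMonHom_iter α j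
    obtain ⟨R, -, hR⟩ := exists_deg_poly' hA fun j : Fin (s + 1) => iter α j
    refine ⟨R, fun c => ⟨deg (∏ j : Fin (s + 1), iter α j ^ c j), by rw [hR]; norm_cast⟩, fun θ => ?_⟩
    let F : Polynomial ℤ := ∏ i, (Polynomial.X - Polynomial.C (θ i))
    have hFd : F.natDegree < s + 1 := by
      rw [Polynomial.natDegree_finsetProd_X_sub_C_eq_card, Finset.card_univ, Fintype.card_fin]; omega
    have hF : (∏ j : Fin (s + 1), iter α j ^ F.coeff j) = Additive.toMul (polyEnd α F) := by
      rw [polyEnd, Polynomial.lsum_apply, Polynomial.sum_over_range' _ (fun j => map_zero _) (s + 1) hFd,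
        ← Fin.sum_univ_eq_sum_range, toMul_sum]
      simp [toMul_zsmul]
    rw [hR, hF]
    simp only [F]
    have key : ∀ S : Finset (Fin s), IsMonHom (Additive.toMul (polyEnd α (∏ i ∈ S, (Polynomial.X - Polynomial.C (θ i))))) ∧
        (deg (Additive.toMul (polyEnd α (∏ i ∈ S, (Polynomial.X - Polynomial.C (θ i))))) : ℚ) =
          ∏ i ∈ S, Q.eval (θ i : ℚ) := by
      intro S
      induction S using Finset.induction with
      | empty =>
        simp only [Finset.prod_empty, polyEnd_one, deg_id hA, Nat.cast_one]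
        exact ⟨inferInstance, trivial⟩
      | insert i S hi ih =>
        obtain ⟨hm, he⟩ := ih
        haveI := hm
        haveI : IsMonHom (α * 𝟙 A ^ (-θ i)) := by
          haveI := isMonHom_zpow (𝟙 A) (-θ i)
          rw [Hom.mul_def]; infer_instance
        rw [Finset.prod_insert hi, Finset.prod_insert hi, mul_comm (Polynomial.X - Polynomial.C (θ i)), polyEnd_mul_linear]
        refine ⟨inferInstance, ?_⟩
        rw [deg_comp hA, Nat.cast_mul, he, hQv, mul_comm]
    exact (key Finset.univ).2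
  refine ⟨P, hPm, ?_, fun n => ?_⟩
  · rw [← hQd, ← hP, hPm.natDegree_map]
  · have h := hQv n
    rw [← hP, Polynomial.eval_map, Polynomial.eval₂_at_intCast] at h
    simp only [eq_intCast, Int.cast_id] at h
    exact_mod_cast h

end Groth.Agent.AVDeg
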