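import Groth.Agent.AVDeg.IntegralPoly

/-!
A homogeneous rule on split polynomials is a resultant on all polynomials.
-/

set_option autoImplicit false

noncomputable section

open Polynomial

namespace Groth.Agent.AVDeg

variable {K : Type*} [Field K]

theorem eval_smul_of_isHomogeneous {σ : Type*} [Fintype σ] {n : ℕ} {R : MvPolynomial σ K} (hR : R.IsHomogeneous n)
    (t : K) (v : σ → K) : MvPolynomial.eval (fun i => t * v i) R = t ^ n * MvPolynomial.eval v R := by
  rw [MvPolynomial.eval_eq', MvPolynomial.eval_eq', Finset.mul_sum]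
  refine Finset.sum_congr rfl fun d hd => ?_
  have hsum : ∑ i, d i = n := by
    have := hR (MvPolynomial.mem_support_iff.1 hd)
    rw [Finsupp.weight_apply, Finsupp.sum_fintype _ _ (fun _ => by simp)] at this
    simpa using this
  simp only [mul_pow, Finset.prod_mul_distrib, Finset.prod_pow_eq_pow_sum, hsum]
  ring

/-- Rules given on split polynomials by a polynomial of even degree. -/
theorem eval_rule_all [IsAlgClosed K] [CharZero K] {s n : ℕ} {P : ℚ[X]} (hP : P.Monic) (hPd : P.natDegree = n)
    (hn : Even n) (R : MvPolynomial (Fin (s + 1)) ℚ) (hhom : R.IsHomogeneous n)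
    (hR : ∀ θ : Fin s → ℤ,
      MvPolynomial.eval (fun j : Fin (s + 1) => (((∏ i, (X - C (θ i))).coeff j : ℤ) : ℚ)) R = ∏ i, P.eval (θ i : ℚ))
    (c : Fin (s + 1) → K) :
    MvPolynomial.aeval c R = (((P.map (algebraMap ℚ K)).roots).map fun ω => ∑ j, c j * ω ^ (j : ℕ)).prod := by
  classical
  let PL := P.map (algebraMap ℚ K)
  have hPL : PL.Monic := hP.map _
  have hsplit : PL.Splits := IsAlgClosed.splits PL
  have hcard : PL.roots.card = n := by rw [← hsplit.natDegree_eq_card_roots, hP.natDegree_map, hPd]
  let RK : MvPolynomial (Fin (s + 1)) K := MvPolynomial.map (algebraMap ℚ K) R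
  have hRK : ∀ v, MvPolynomial.eval v RK = MvPolynomial.aeval v R := fun v => by
    rw [MvPolynomial.eval_map]; rfl
  let L : MvPolynomial (Fin (s + 1)) K :=
    (PL.roots.map fun ω => ∑ j : Fin (s + 1), MvPolynomial.C (ω ^ (j : ℕ)) * MvPolynomial.X j).prod
  have hL : ∀ v, MvPolynomial.eval v L = (PL.roots.map fun ω => ∑ j, v j * ω ^ (j : ℕ)).prod := fun v => by
    rw [map_multiset_prod, Multiset.map_map]
    refine congrArg Multiset.prod (Multiset.map_congr rfl fun ω _ => ?_)
    simp [mul_comm]
  let D := RK - L
  -- monic integral polynomials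
  have h1 : ∀ v : Fin s → ℤ, MvPolynomial.eval (fun j => ((Fin.snoc v 1 : Fin (s + 1) → ℤ) j : K)) D = 0 := by
    intro v
    set w : Fin (s + 1) → ℤ := Fin.snoc v 1
    let F : ℤ[X] := ∑ j : Fin (s + 1), C (w j) * X ^ (j : ℕ)
    have hco : ∀ j : Fin (s + 1), F.coeff j = w j := fun j => by
      simp [F, coeff_X_pow, Fin.val_inj, Finset.sum_ite_eq]
    have hle : F.natDegree ≤ s :=
      natDegree_sum_le_of_forall_le _ _ fun j _ => (natDegree_C_mul_X_pow_le _ _).trans (Nat.lt_succ_iff.1 j.2)
    have htop : F.coeff s = 1 := by
      have := hco (Fin.last s)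
      rw [Fin.val_last] at this
      rw [this]
      simp [w]
    have hF : F.Monic := monic_of_natDegree_le_of_coeff_eq_one s hle htop
    have hFd : F.natDegree = s := le_antisymm hle (le_natDegree_of_ne_zero (by rw [htop]; exact one_ne_zero))
    let FL := F.map (algebraMap ℤ K)
    have hFs : FL.Splits := IsAlgClosed.splits FL
    have hlen : FL.roots.toList.length = s := by
      rw [Multiset.length_toList, ← hFs.natDegree_eq_card_roots, hF.natDegree_map, hFd]
    let β : Fin s → K := fun i => FL.roots.toList.get (i.cast hlen.symm)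
    have hβ : FL = ∏ i, (X - C (β i)) := by
      conv_lhs => rw [hFs.eq_prod_roots_of_monic (hF.map _), ← Multiset.coe_toList FL.roots, Multiset.map_coe,
        Multiset.prod_coe, ← List.ofFn_get FL.roots.toList, List.map_ofFn, List.prod_ofFn]
      exact (Equiv.prod_comp (finCongr hlen.symm) _).symm
    have h := eval_rule (K := K) R hR F hF hFd β hβ
    rw [map_sub, sub_eq_zero, hRK, hL]
    rw [show (fun j => ((w j : ℤ) : K)) = algebraMap ℚ K ∘ fun j : Fin (s + 1) => ((F.coeff j : ℤ) : ℚ) by
      funext j; simp [hco], MvPolynomial.aeval_algebraMap_apply, MvPolynomial.aeval_eq_eval, eq_ratCast, h]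
    have hev : ∀ x, aeval x P = (PL.roots.map fun a => x - a).prod := fun x => by
      rw [aeval_def, ← eval_map, show P.map (algebraMap ℚ K) = PL from rfl]
      conv_lhs => rw [hsplit.eq_prod_roots_of_monic hPL]
      simp [eval_multiset_prod, Multiset.map_map]
    have hevF : ∀ a : K, ∑ j : Fin (s + 1), ((w j : ℤ) : K) * a ^ (j : ℕ) = ∏ i, (a - β i) := fun a => by
      have : eval a FL = ∏ i, (a - β i) := by rw [hβ]; simp [eval_prod]
      rw [← this, show FL = ∑ j : Fin (s + 1), C ((w j : ℤ) : K) * X ^ (j : ℕ) by simp [FL, F, Polynomial.map_sum],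
        eval_finsetSum]
      simp
    simp only [Function.comp_apply, eq_ratCast, Rat.cast_intCast, hco, hevF, hev]
    calc (∏ i, (PL.roots.map fun a => β i - a).prod)
        = ∏ i, ((-1) ^ PL.roots.card * (PL.roots.map fun a => a - β i).prod) := by
          refine Finset.prod_congr rfl fun i _ => ?_
          rw [← Multiset.card_map (fun a => a - β i) PL.roots, ← Multiset.prod_map_neg, Multiset.map_map]
          simp [Function.comp_def]
      _ = _ := by
          rw [hcard, hn.neg_one_pow]
          simp only [one_mul]
          rw [Multiset.prod_map_prod]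
  -- all monic polynomials
  have h2 : ∀ v : Fin s → K, MvPolynomial.eval (Fin.snoc v 1) D = 0 := by
    let D' : MvPolynomial (Fin s) K := MvPolynomial.aeval (Fin.snoc MvPolynomial.X 1) D
    have hD' : ∀ v, MvPolynomial.eval v D' = MvPolynomial.eval (Fin.snoc v 1) D := fun v => by
      show MvPolynomial.aeval v (MvPolynomial.aeval _ D) = _
      rw [← AlgHom.comp_apply, MvPolynomial.comp_aeval]
      refine congrArg (fun w => MvPolynomial.eval w D) (funext fun j => ?_)
      induction j using Fin.lastCases <;> simp
    have h0 : D' = 0 := by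
      refine MvPolynomial.funext_set (fun _ : Fin s => Set.range ((↑) : ℤ → K))
        (fun _ => Set.infinite_range_of_injective Int.cast_injective) fun v hv => ?_
      choose θ hθ using fun i => hv i (Set.mem_univ i)
      obtain rfl : (fun i => ((θ i : ℤ) : K)) = v := funext hθ
      rw [map_zero, hD', ← h1 θ]
      refine congrArg (fun w => MvPolynomial.eval w D) (funext fun j => ?_)
      induction j using Fin.lastCases <;> simp
    intro v
    rw [← hD', h0, map_zero]
  -- rescaling
  have h3 : D = 0 := by
    refine MvPolynomial.funext_set (fun j : Fin (s + 1) => if j = Fin.last s then {x : K | x ≠ 0} else Set.univ)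
      (fun j => ?_) fun v hv => ?_
    · split
      · exact (Set.infinite_univ (α := K)).sdiff (Set.finite_singleton 0) |>.mono fun x hx => hx.2
      · exact Set.infinite_univ
    · have ht : v (Fin.last s) ≠ 0 := by simpa using hv (Fin.last s) (Set.mem_univ _)
      set t := v (Fin.last s)
      let u : Fin s → K := fun i => v i.castSucc / t
      have hvu : v = fun j => t * (Fin.snoc u 1 : Fin (s + 1) → K) j := funext fun j => by
        induction j using Fin.lastCases with
        | last => simp [t]
        | cast i => simp [u, mul_div_cancel₀ _ ht]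
      have := h2 u
      rw [map_sub, sub_eq_zero] at this
      rw [map_zero, map_sub, sub_eq_zero, hvu, eval_smul_of_isHomogeneous (hhom.map _) t, this, hL, hL]
      simp only [mul_assoc, ← Finset.mul_sum]
      rw [Multiset.prod_map_mul, Multiset.map_const', Multiset.prod_replicate, hcard]
  have := congrArg (MvPolynomial.eval c) h3
  rwa [map_sub, map_zero, sub_eq_zero, hRK, hL] at this

end Groth.Agent.AVDeg
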