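import Groth.Agent.AVDeg.Char
import Groth.Agent.AVDeg.EvalRule
import Groth.Prelude.Def_EndRing

/-!
The degree of `F(φ)` is the product of `F` over the roots of the characteristic polynomial.
-/

set_option autoImplicit false
set_option backward.isDefEq.respectTransparency false
set_option backward.isDefEq.respectTransparency.types false
set_option linter.style.haveILetI false
set_option linter.unusedSectionVars false
set_option synthInstance.maxHeartbeats 400000

universe u

open CategoryTheory CategoryTheory.Limits MonoidalCategory CartesianMonoidalCategory MonObj AlgebraicGeometry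
open TopologicalSpace

noncomputable section

namespace Groth.Agent.AVDeg

attribute [local instance] overInst

variable {k : Type u} [Field k] {A : Over (Spec (CommRingCat.of k))} [GrpObj A] [IsProper A.hom]
  [GeometricallyIntegral A.hom] [IsCommMonObj A]

theorem toHom_sum {σ : Type*} (s : Finset σ) (f : σ → EndAV.End A) :
    EndAV.End.toHom (∑ i ∈ s, f i) = ∏ i ∈ s, EndAV.End.toHom (f i) := by
  classical
  induction s using Finset.induction_on with
  | empty => rfl
  | insert a s ha ih => rw [Finset.sum_insert ha, Finset.prod_insert ha, EndAV.End.toHom_add, ih]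

theorem toHom_intCast_mul (c : ℤ) (ψ : EndAV.End A) :
    EndAV.End.toHom ((c : EndAV.End A) * ψ) = EndAV.End.toHom ψ ^ c := by
  rw [EndAV.End.toHom_mul, EndAV.End.toHom_intCast, GrpObj.comp_zpow, Category.comp_id]

theorem toHom_sub_intCast (φ : EndAV.End A) (n : ℤ) :
    EndAV.End.toHom (φ - (n : EndAV.End A)) = EndAV.End.toHom φ * 𝟙 A ^ (-n) := by
  rw [EndAV.End.toHom_sub, EndAV.End.toHom_intCast, div_eq_mul_inv, zpow_neg]

theorem toHom_aeval (φ : EndAV.End A) (F : Polynomial ℤ) {s : ℕ} (hs : F.natDegree < s) :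
    EndAV.End.toHom (Polynomial.aeval φ F) = ∏ j : Fin s, EndAV.End.toHom (φ ^ (j : ℕ)) ^ F.coeff j := by
  rw [Polynomial.aeval_eq_sum_range' hs, toHom_sum,
    Fin.prod_univ_eq_prod_range (fun j => EndAV.End.toHom (φ ^ j) ^ F.coeff j) s]
  refine Finset.prod_congr rfl fun j _ => ?_
  rw [Algebra.smul_def, eq_intCast, toHom_intCast_mul]

/-- The characteristic polynomial. -/
theorem exists_charpoly {r : ℕ} (hA : topologicalKrullDim A.left = (r : WithBot ℕ∞)) (φ : EndAV.End A) :
    ∃ P : Polynomial ℤ, P.Monic ∧ P.natDegree = 2 * r ∧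
      ∀ n : ℤ, P.eval n = deg (EndAV.End.toHom (φ - (n : EndAV.End A))) := by
  obtain ⟨P, hP, hd, hv⟩ := exists_int_charpoly hA (EndAV.End.toHom φ)
  exact ⟨P, hP, hd, fun n => by rw [toHom_sub_intCast]; exact hv n⟩

/-- `deg F(φ) = ∏ F(ω)`. -/
theorem deg_aeval {r : ℕ} (hA : topologicalKrullDim A.left = (r : WithBot ℕ∞)) (φ : EndAV.End A)
    {P : Polynomial ℤ} (hP : P.Monic) (hPd : P.natDegree = 2 * r)
    (hPv : ∀ n : ℤ, P.eval n = deg (EndAV.End.toHom (φ - (n : EndAV.End A))))
    (K : Type*) [Field K] [IsAlgClosed K] [CharZero K] (F : Polynomial ℤ) :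
    (deg (EndAV.End.toHom (Polynomial.aeval φ F)) : K) =
      (((P.map (Int.castRingHom K)).roots).map fun ω => Polynomial.aeval ω F).prod := by
  set s := F.natDegree + 1
  obtain ⟨R, hhom, hR⟩ := exists_deg_poly' hA fun j : Fin (s + 1) => EndAV.End.toHom (φ ^ (j : ℕ))
  have key : ∀ S : Finset (Fin s), ∀ θ : Fin s → ℤ,
      deg (EndAV.End.toHom (Polynomial.aeval φ (∏ i ∈ S, (Polynomial.X - Polynomial.C (θ i))))) =
        (∏ i ∈ S, ((P.map (Int.castRingHom ℚ)).eval (θ i : ℚ)) : ℚ) := by
    intro S θ
    induction S using Finset.induction_on with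
    | empty => simp [deg_id hA]
    | insert i S hi ih =>
      rw [Finset.prod_insert hi, Finset.prod_insert hi, map_mul, map_sub, Polynomial.aeval_X, Polynomial.aeval_C,
        eq_intCast, EndAV.End.toHom_mul, deg_comp hA, Nat.cast_mul, ih, Polynomial.eval_intCast_map, eq_intCast,
        hPv, Int.cast_natCast, _root_.mul_comm, Int.cast_id]
  have hall := eval_rule_all (K := K) (hP.map (Int.castRingHom ℚ)) ((hP.natDegree_map _).trans hPd)
    (even_two_mul r) R hhom (fun θ => by
      have hdeg : (∏ i, (Polynomial.X - Polynomial.C (θ i))).natDegree < s + 1 := by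
        rw [Polynomial.natDegree_finsetProd_X_sub_C_eq_card, Finset.card_univ, Fintype.card_fin]; omega
      rw [hR, ← toHom_aeval φ _ hdeg]
      exact key Finset.univ θ) fun j => ((F.coeff j : ℤ) : K)
  rw [show (fun j : Fin (s + 1) => ((F.coeff j : ℤ) : K)) =
      algebraMap ℚ K ∘ fun j : Fin (s + 1) => ((F.coeff j : ℤ) : ℚ) by funext j; simp,
    MvPolynomial.aeval_algebraMap_apply, MvPolynomial.aeval_eq_eval, hR,
    ← toHom_aeval φ F (by omega), eq_ratCast, Rat.cast_natCast, Polynomial.map_map,
    RingHom.ext_int ((algebraMap ℚ K).comp (Int.castRingHom ℚ)) (Int.castRingHom K)] at hall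
  rw [hall]
  refine congrArg Multiset.prod (Multiset.map_congr rfl fun ω _ => ?_)
  rw [Polynomial.aeval_eq_sum_range' (show F.natDegree < s + 1 by omega),
    ← Fin.sum_univ_eq_sum_range (fun j => F.coeff j • ω ^ j)]
  simp

end Groth.Agent.AVDeg

namespace Groth.Agent.AVDeg

/-- Polynomials agreeing on the integers are equal. -/
theorem eq_of_eval_intCast_eq {R : Type*} [CommRing R] [IsDomain R] [CharZero R] {p q : Polynomial R}
    (h : ∀ n : ℤ, p.eval (n : R) = q.eval (n : R)) : p = q :=
  Polynomial.eq_of_infinite_eval_eq p q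
    ((Set.infinite_range_of_injective (Int.cast_injective (α := R))).mono (by rintro _ ⟨n, rfl⟩; exact h n))

attribute [local instance] overInst

variable {k : Type u} [Field k] {A : Over (Spec (CommRingCat.of k))} [GrpObj A] [IsProper A.hom]
  [GeometricallyIntegral A.hom] [IsCommMonObj A]

/-- A degree given by finite and infinite cases. -/
theorem cast_deg_eq {r : ℕ} (hA : topologicalKrullDim A.left = (r : WithBot ℕ∞)) (f : A ⟶ A) [IsMonHom f]
    {R : Type*} [CommRing R] (x : R)
    (h : (IsFinite f.left → ∀ a : A.left, (f.left.finrank a : R) = x) ∧ (¬ IsFinite f.left → x = 0)) :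
    (deg f : R) = x := by
  haveI := isIntegral_av A
  by_cases hf : IsFinite f.left
  · rw [← finrank_eq_deg hA f hf (genericPoint A.left)]
    exact h.1 hf _
  · rw [deg_eq_zero_of_not_isFinite hf, h.2 hf, Nat.cast_zero]

/-- The roots of the characteristic polynomial of `F(φ)`. -/
theorem roots_charpoly_aeval {r : ℕ} (hA : topologicalKrullDim A.left = (r : WithBot ℕ∞)) (φ : EndAV.End A)
    (F : Polynomial ℤ) {P Q : Polynomial ℤ} (hP : P.Monic) (hPd : P.natDegree = 2 * r)
    (hPv : ∀ n : ℤ, P.eval n = deg (EndAV.End.toHom (φ - (n : EndAV.End A))))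
    (hQv : ∀ n : ℤ, Q.eval n = deg (EndAV.End.toHom (Polynomial.aeval φ F - (n : EndAV.End A))))
    (K : Type*) [Field K] [IsAlgClosed K] [CharZero K] :
    (Q.map (Int.castRingHom K)).roots = (P.map (Int.castRingHom K)).roots.map fun ω => Polynomial.aeval ω F := by
  set S := (P.map (Int.castRingHom K)).roots with hS
  have hcard : S.card = 2 * r := by
    rw [hS, ← (IsAlgClosed.splits _).natDegree_eq_card_roots, hP.natDegree_map, hPd]
  suffices h : Q.map (Int.castRingHom K) =
      ((S.map fun ω => Polynomial.aeval ω F).map fun a => Polynomial.X - Polynomial.C a).prod by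
    rw [h, Polynomial.roots_multiset_prod_X_sub_C]
  refine eq_of_eval_intCast_eq fun n => ?_
  have h := deg_aeval hA φ hP hPd hPv K (F - Polynomial.C n)
  rw [map_sub, Polynomial.aeval_C, eq_intCast] at h
  rw [Polynomial.eval_intCast_map, eq_intCast, Int.cast_id, hQv, Int.cast_natCast, h,
    Polynomial.eval_multiset_prod, Multiset.map_map, Multiset.map_map]
  rw [show (Multiset.map ((Polynomial.eval (n : K) ∘ fun a => Polynomial.X - Polynomial.C a) ∘
      fun ω => Polynomial.aeval ω F) S) = (S.map fun ω => -(Polynomial.aeval ω F - (n : K))) from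
    Multiset.map_congr rfl fun ω _ => by simp]
  rw [show (fun ω => -(Polynomial.aeval ω F - (n : K))) = Neg.neg ∘ fun ω => Polynomial.aeval ω F - (n : K) from rfl,
    ← Multiset.map_map, Multiset.prod_map_neg,
    Multiset.card_map, hcard, (even_two_mul r).neg_one_pow, _root_.one_mul]
  refine congrArg Multiset.prod (Multiset.map_congr rfl fun ω _ => ?_)
  rw [map_sub, Polynomial.aeval_C, eq_intCast]

end Groth.Agent.AVDeg
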