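import Mathlib

/-!
Functions satisfying the cube identity are quadratic.
-/

set_option autoImplicit false

namespace Groth.Agent.AVDeg

variable {G P : Type*} [AddCommGroup G] [AddCommGroup P] (q : G → P)

/-- The polar form. -/
def polarQ (x y : G) : P := q (x + y) - q x - q y

variable (h0 : q 0 = 0)
  (hcube : ∀ x y z, q (x + y + z) + q x + q y + q z = q (x + y) + q (x + z) + q (y + z))

include hcube in
theorem polarQ_add_left (x y z : G) : polarQ q (x + y) z = polarQ q x z + polarQ q y z := by
  simp only [polarQ]
  linear_combination (norm := abel) hcube x y z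

include hcube in
theorem polarQ_add_right (x y z : G) : polarQ q x (y + z) = polarQ q x y + polarQ q x z := by
  simp only [polarQ, ← add_assoc]
  linear_combination (norm := abel) hcube x y z

include h0 hcube in
theorem polarQ_self (heven : ∀ x, q (-x) = q x) (x : G) : polarQ q x x = q x + q x := by
  have h := hcube x x (-x)
  simp only [polarQ]
  rw [add_neg_cancel_right, add_neg_cancel, h0, heven] at h
  linear_combination (norm := abel) -h

/-- The polar form as a bilinear map. -/
def polarHom : G →+ G →+ P :=
  AddMonoidHom.mk' (fun x => AddMonoidHom.mk' (polarQ q x) (polarQ_add_right q hcube x))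
    fun x y => AddMonoidHom.ext fun z => polarQ_add_left q hcube x y z

include h0 hcube in
theorem two_q_sum (heven : ∀ x, q (-x) = q x) {ι : Type*} [Fintype ι] (a : ι → ℤ) (x : ι → G) :
    q (∑ i, a i • x i) + q (∑ i, a i • x i) = ∑ i, ∑ j, (a i * a j) • polarQ q (x i) (x j) := by
  rw [← polarQ_self q h0 hcube heven]
  show polarHom q hcube (∑ i, a i • x i) (∑ i, a i • x i) = _
  simp only [map_sum, map_zsmul, AddMonoidHom.finsetSum_apply, AddMonoidHom.zsmul_apply, Finset.smul_sum,
    mul_smul]
  rw [Finset.sum_comm]
  refine Finset.sum_congr rfl fun i _ => Finset.sum_congr rfl fun j _ => ?_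
  rw [smul_comm]
  rfl

end Groth.Agent.AVDeg
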