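import Groth.Agent.AVDeg.Inter
import Groth.Agent.AVDeg.Quad
import Groth.Agent.W7Cube.Group
import Groth.Agent.GrpField.Isogeny
import Groth.Agent.S8121

/-!
The degree of a homomorphism of abelian varieties is a homogeneous polynomial in the coefficients.
-/

set_option autoImplicit false
set_option backward.isDefEq.respectTransparency false
set_option backward.isDefEq.respectTransparency.types false
set_option linter.style.haveILetI false
set_option linter.unusedSectionVars false

universe u

open CategoryTheory CategoryTheory.Limits MonoidalCategory CartesianMonoidalCategory MonObj AlgebraicGeometry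
open TopologicalSpace

noncomputable section

namespace Groth.Agent.AVDeg

attribute [local instance] W7Cube.law

variable {k : Type u} [Field k]

/-- The structure morphism of an object over the field. -/
@[implicit_reducible]
def overInst (A : Over (Spec (CommRingCat.of k))) : A.left.Over (Spec (CommRingCat.of k)) := ⟨A.hom⟩

attribute [local instance] overInst

instance isProper_overInst (A : Over (Spec (CommRingCat.of k))) [IsProper A.hom] :
    IsProper (A.left ↘ Spec (CommRingCat.of k)) :=
  inferInstanceAs (IsProper A.hom)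

theorem isIntegral_av (A : Over (Spec (CommRingCat.of k))) [GeometricallyIntegral A.hom] : IsIntegral A.left :=
  haveI : Subsingleton (Spec (CommRingCat.of k)) := inferInstanceAs (Subsingleton (PrimeSpectrum k))
  GeometricallyIntegral.isIntegral_of_subsingleton A.hom

variable {A B : Over (Spec (CommRingCat.of k))}

theorem isProper_hom (φ : A ⟶ B) [IsProper A.hom] [IsProper B.hom] : IsProper φ.left := by
  have : IsProper (φ.left ≫ B.hom) := by rw [Over.w φ]; infer_instance
  exact IsProper.of_comp φ.left B.hom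

variable [GrpObj A] [IsProper A.hom] [GeometricallyIntegral A.hom]
  [GrpObj B] [IsProper B.hom] [GeometricallyIntegral B.hom]

/-- Pullback multiplies top numbers by the degree. -/
theorem top_pc_finite {r : ℕ} (hA : topologicalKrullDim A.left = (r : WithBot ℕ∞))
    (hB : topologicalKrullDim B.left = (r : WithBot ℕ∞)) (φ : A ⟶ B) [IsMonHom φ] (hfin : IsFinite φ.left)
    (b : B.left) (c : Fin r → PicLoc.PicSet B.left) :
    top k (fun i => W7Cube.pc (c i) φ) = (φ.left.finrank b : ℚ) * top k c := by
  haveI := isIntegral_av A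
  haveI := isIntegral_av B
  haveI := hfin
  haveI : Surjective φ.left := GrpField.surjective_of_isFinite φ (hA.trans hB.symm)
  haveI : Flat φ.left := GrpField.flat_of_surjective φ
  haveI := isProper_hom φ
  haveI : IsLocallyNoetherian B.left := LocallyOfFiniteType.isLocallyNoetherian B.hom
  exact top_pull_finite (k := k) φ.left (Over.w φ)
    (fun y => φ.left.isLocallyConstant_finrank.apply_eq_of_preconnectedSpace y b) hB hA.le c

/-- Non finite homomorphisms kill top numbers. -/
theorem top_pc_eq_zero {r : ℕ} (hA : topologicalKrullDim A.left = (r : WithBot ℕ∞))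
    (hB : topologicalKrullDim B.left = (r : WithBot ℕ∞)) (φ : A ⟶ B) [IsMonHom φ] (hfin : ¬ IsFinite φ.left)
    (c : Fin r → PicLoc.PicSet B.left) :
    top k (fun i => W7Cube.pc (c i) φ) = 0 := by
  haveI := isIntegral_av A
  haveI := isIntegral_av B
  haveI := isProper_hom φ
  haveI := CurveRR.isNoetherian_of_proper k B.left
  refine top_pull_eq_zero (k := k) φ.left (Over.w φ) hA.le ?_ c
  refine Intersect.dim_proper_lt (X := B.left) (ξ := genericPoint B.left) ?_ φ.left.isClosedMap.isClosed_range
    (fun x _ => ?_) fun hη => hfin ?_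
  · rw [genericPoint_closure]
    exact Intersect.lt_succ_of_le' ((topologicalKrullDim_subspace_le B.left _).trans hB.le)
  · rw [genericPoint_closure]
    trivial
  · haveI : Surjective φ.left := ⟨fun y =>
      φ.left.isClosedMap.isClosed_range.stableUnderSpecialization (genericPoint_specializes y) hη⟩
    exact (GrpField.isFinite_flat φ (hA.trans hB.symm)).1

variable [IsCommMonObj B]

omit [IsProper A.hom] [GeometricallyIntegral A.hom] [IsProper B.hom] [GeometricallyIntegral B.hom] in
theorem isMonHom_zpow (φ : A ⟶ B) [IsMonHom φ] (n : ℤ) : IsMonHom (φ ^ n) := by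
  induction n using Int.induction_on with
  | zero => rw [zpow_zero, Hom.one_def]; infer_instance
  | succ n ih => rw [zpow_add_one, Hom.mul_def]; infer_instance
  | pred n ih => rw [zpow_sub_one, Hom.mul_def]; infer_instance

omit [IsProper A.hom] [GeometricallyIntegral A.hom] [IsProper B.hom] [GeometricallyIntegral B.hom] in
theorem isMonHom_prod {σ : Type*} [Fintype σ] (φ : σ → (A ⟶ B)) (h : ∀ i, IsMonHom (φ i)) :
    IsMonHom (∏ i, φ i) := by
  refine Finset.prod_induction _ (fun ψ : A ⟶ B => IsMonHom ψ) (fun x y hx hy => ?_) ?_ fun i _ => h i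
  · haveI := hx
    haveI := hy
    show IsMonHom (x * y)
    rw [Hom.mul_def]; infer_instance
  · show IsMonHom (1 : A ⟶ B)
    rw [Hom.one_def]; infer_instance

/-- The degree of integral combinations of homomorphisms. -/
theorem exists_deg_poly {r : ℕ} (hA : topologicalKrullDim A.left = (r : WithBot ℕ∞))
    (hB : topologicalKrullDim B.left = (r : WithBot ℕ∞)) {m : ℕ} (f : Fin m → (A ⟶ B)) [∀ i, IsMonHom (f i)] :
    ∃ P : MvPolynomial (Fin m) ℚ, P.IsHomogeneous (2 * r) ∧
      ∀ a : Fin m → ℤ, (IsFinite (∏ i, f i ^ a i).left →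
          ∀ x : B.left, (Scheme.Hom.finrank (∏ i, f i ^ a i).left x : ℚ) = MvPolynomial.eval (fun i => (a i : ℚ)) P) ∧
        (¬ IsFinite (∏ i, f i ^ a i).left → MvPolynomial.eval (fun i => (a i : ℚ)) P = 0) := by
  classical
  obtain ⟨H, hH, ⟨eH⟩⟩ := Groth.Agent.S8121.result k B
  let h : PicLoc.PicSet B.left := PicGrp.cls H hH.1
  have hsym : W7Cube.pc h (𝟙 B)⁻¹ = h := by
    rw [W7Cube.pc, W7Cube.pull_cls]
    exact ((PicGrp.cls_eq_cls_iff hH.1 _).2 ⟨eH⟩).symm
  let q : Additive (A ⟶ B) → Additive (PicLoc.PicSet A.left) := fun φ =>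
    Additive.ofMul (W7Cube.pc h (Additive.toMul φ))
  have hq0 : q 0 = 0 := congrArg Additive.ofMul (W7Cube.pc_one h)
  have hqc : ∀ x y z, q (x + y + z) + q x + q y + q z = q (x + y) + q (x + z) + q (y + z) := fun x y z =>
    congrArg Additive.ofMul (W7Cube.cube_rel h (Additive.toMul x) (Additive.toMul y) (Additive.toMul z))
  have hqe : ∀ x, q (-x) = q x := fun x => by
    refine congrArg Additive.ofMul ?_
    show W7Cube.pc h (Additive.toMul x)⁻¹ = _
    conv_rhs => rw [← hsym]
    show _ = W7Cube.pull (Additive.toMul x).left (W7Cube.pc h (𝟙 B)⁻¹)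
    rw [W7Cube.pull_pc, GrpObj.comp_inv, Category.comp_id]
  let b : Fin m × Fin m → Additive (PicLoc.PicSet A.left) := fun p =>
    polarQ q (Additive.ofMul (f p.1)) (Additive.ofMul (f p.2))
  let TA := topLin k (X := A.left) hA.le
  let TB := topLin k (X := B.left) hB.le
  let c₀ : ℚ := 2 ^ r * TB fun _ => Additive.ofMul h
  have hc₀ : c₀ ≠ 0 := mul_ne_zero (pow_ne_zero _ two_ne_zero) (top_pos hB hH).ne'
  let P : MvPolynomial (Fin m) ℚ := ∑ s : Fin r → Fin m × Fin m,
    MvPolynomial.C (c₀⁻¹ * TA fun i => b (s i)) * ∏ i, (MvPolynomial.X (s i).1 * MvPolynomial.X (s i).2)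
  have key : ∀ a : Fin m → ℤ, MvPolynomial.eval (fun i => (a i : ℚ)) P * (TB fun _ => Additive.ofMul h) =
      top k fun _ : Fin r => W7Cube.pc h (∏ i, f i ^ a i) := fun a => by
    let φ : Additive (A ⟶ B) := ∑ i, a i • Additive.ofMul (f i)
    have hφ : Additive.toMul φ = ∏ i, f i ^ a i := by simp [φ]
    have h2 : q φ + q φ = ∑ p : Fin m × Fin m, (a p.1 * a p.2) • b p := by
      rw [two_q_sum q hq0 hqc hqe, Fintype.sum_prod_type]
    have h3 : TA (fun _ => q φ + q φ) =
        ∑ s : Fin r → Fin m × Fin m, ((∏ i, (a (s i).1 * a (s i).2) : ℤ) : ℚ) * TA fun i => b (s i) := by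
      rw [h2, MultilinearMap.map_sum TA fun _ p => (a p.1 * a p.2) • b p]
      refine Finset.sum_congr rfl fun s _ => ?_
      rw [MultilinearMap.map_smul_univ, zsmul_eq_mul]
    have h4 : TA (fun _ => q φ + q φ) = 2 ^ r * TA fun _ => q φ := by
      have := TA.map_smul_univ (fun _ => (2 : ℤ)) (fun _ => q φ)
      simp only [two_zsmul, Finset.prod_const, Finset.card_univ, Fintype.card_fin, zsmul_eq_mul] at this
      push_cast at this
      exact this
    have h5 : TA (fun _ => q φ) = top k fun _ : Fin r => W7Cube.pc h (∏ i, f i ^ a i) := by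
      rw [← hφ]; rfl
    rw [← h5, map_sum, Finset.sum_mul]
    refine mul_left_cancel₀ (pow_ne_zero r (two_ne_zero (α := ℚ))) ?_
    rw [← h4, h3, Finset.mul_sum]
    refine Finset.sum_congr rfl fun s _ => ?_
    simp only [map_mul, map_prod, MvPolynomial.eval_C, MvPolynomial.eval_X, c₀]
    push_cast
    have hne : (TB fun _ => Additive.ofMul h) ≠ 0 := (top_pos hB hH).ne'
    field_simp
  refine ⟨P, ?_, fun a => ?_⟩
  · refine MvPolynomial.IsHomogeneous.sum _ _ _ fun s _ => ?_
    have h2 : ((∏ i, (MvPolynomial.X (s i).1 * MvPolynomial.X (s i).2)) : MvPolynomial (Fin m) ℚ).IsHomogeneous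
        (2 * r) := by
      have := MvPolynomial.IsHomogeneous.prod Finset.univ
        (fun i => (MvPolynomial.X (s i).1 * MvPolynomial.X (s i).2 : MvPolynomial (Fin m) ℚ)) (fun _ => 2)
        fun i _ => (MvPolynomial.isHomogeneous_X _ _).mul (MvPolynomial.isHomogeneous_X _ _)
      simpa [mul_comm] using this
    exact h2.C_mul _
  · have hmon : IsMonHom (∏ i, f i ^ a i) :=
      isMonHom_prod (fun i => f i ^ a i) fun i => isMonHom_zpow (f i) (a i)
    haveI := hmon
    have hk := key a
    have hTB : (TB fun _ => Additive.ofMul h) ≠ 0 := (top_pos hB hH).ne'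
    refine ⟨fun hfin x => ?_, fun hfin => ?_⟩
    · rw [top_pc_finite hA hB _ hfin x] at hk
      exact (mul_right_cancel₀ hTB hk).symm
    · rw [top_pc_eq_zero hA hB _ hfin] at hk
      exact (mul_eq_zero.1 hk).resolve_right hTB

end Groth.Agent.AVDeg
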