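import Mathlib

/-!
The determinant of a polynomial in a matrix.
-/

set_option autoImplicit false

noncomputable section

open Polynomial

namespace Groth.Agent.AVDeg

variable {n : Type*} [Fintype n] [DecidableEq n] {C : Type*} [Field C] [IsAlgClosed C]

theorem det_aeval (M : Matrix n n C) (F : C[X]) :
    (aeval M F).det = (M.charpoly.roots.map fun η => F.eval η).prod := by
  have hsplit : M.charpoly.Splits := IsAlgClosed.splits _
  have hcard : M.charpoly.roots.card = Fintype.card n := by
    rw [← hsplit.natDegree_eq_card_roots, M.charpoly_natDegree_eq_dim]
  have hlin : ∀ b : C, (aeval M (X - Polynomial.C b)).det = (M.charpoly.roots.map fun η => η - b).prod := fun b => by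
    have h1 := M.eval_charpoly b
    conv at h1 => lhs; rw [hsplit.eq_prod_roots_of_monic M.charpoly_monic]
    simp only [eval_multiset_prod, Multiset.map_map, Function.comp_def, eval_sub, eval_X, eval_C] at h1
    rw [map_sub, aeval_X, aeval_C, show algebraMap C (Matrix n n C) b = Matrix.scalar n b from rfl,
      ← neg_sub, Matrix.det_neg, ← h1, ← hcard, ← Multiset.card_map (fun η => b - η) M.charpoly.roots,
      ← Multiset.prod_map_neg, Multiset.map_map]
    simp
  have key : ∀ s : Multiset C, (aeval M (s.map fun b => X - Polynomial.C b).prod).det =
      (M.charpoly.roots.map fun η => ((s.map fun b => X - Polynomial.C b).prod).eval η).prod := fun s => by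
    induction s using Multiset.induction_on with
    | empty => simp
    | cons b s ih =>
      simp only [Multiset.map_cons, Multiset.prod_cons, map_mul, Matrix.det_mul, eval_mul, Multiset.prod_map_mul, ih,
        hlin]
      simp
  have hF := (IsAlgClosed.splits F).eq_prod_roots
  rw [hF, map_mul, Matrix.det_mul, key, aeval_C, Algebra.algebraMap_eq_smul_one, Matrix.det_smul, Matrix.det_one,
    mul_one, ← hcard]
  simp only [eval_mul, eval_C, Multiset.prod_map_mul, Multiset.map_const', Multiset.prod_replicate]

end Groth.Agent.AVDeg
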