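import Groth.Agent.AVDeg.FiniteKer
import Groth.Agent.FinHopf.GrpScheme
import Groth.Agent.FinHopf.Power

/-!
The degree of an isogeny and the number of points of its kernel.
-/

set_option autoImplicit false
set_option backward.isDefEq.respectTransparency false
set_option linter.style.haveILetI false
set_option linter.unusedSectionVars false

universe u

open CategoryTheory CategoryTheory.Limits MonoidalCategory CartesianMonoidalCategory MonObj AlgebraicGeometry
open TopologicalSpace

noncomputable section

namespace Groth.Agent.AVDeg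

open Groth.Agent.FinHopf in
/-- The number of points of a finite group scheme and its order agree away from the characteristic. -/
theorem exists_card_mul_hopf {k : Type u} [Field k] [IsAlgClosed k] (C : Type u) [CommRing C] [HopfAlgebra k C]
    [Module.Finite k C] :
    ∃ e : ℕ, Module.finrank k C = Nat.card (PrimeSpectrum C) * e ∧
      ∀ l : ℕ, l.Prime → (l : k) ≠ 0 → ¬ l ∣ e := by
  obtain ⟨x, hH, g, -, -, hinf, -, Φ, hΦ⟩ := exists_decomposition (k := k) (A := C)
  haveI := hH
  let B := C ⧸ Ideal.span {x}
  haveI : Nontrivial B := nontrivial_of_hopf k B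
  have huniq : ∀ q : PrimeSpectrum B, q.asIdeal = aug k B := fun q => by
    refine le_antisymm (fun a ha => ?_) fun a ha => ?_
    · rw [mem_aug]
      by_contra h0
      have h1 : algebraMap k B (Coalgebra.counit (R := k) a) ∈ q.asIdeal := by
        have h2 : a - algebraMap k B (Coalgebra.counit (R := k) a) ∈ q.asIdeal := by
          obtain ⟨n, hn⟩ := hinf _ (sub_counit_mem (k := k) a)
          exact q.isPrime.mem_of_pow_mem n (by rw [hn]; exact zero_mem _)
        simpa using sub_mem ha h2
      exact q.isPrime.ne_top (Ideal.eq_top_of_isUnit_mem _ h1 ((Ne.isUnit h0).map _))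
    · obtain ⟨n, hn⟩ := hinf a ha
      exact q.isPrime.mem_of_pow_mem n (by rw [hn]; exact zero_mem _)
  haveI : Subsingleton (PrimeSpectrum B) := ⟨fun a b => PrimeSpectrum.ext ((huniq a).trans (huniq b).symm)⟩
  haveI : Nonempty (PrimeSpectrum B) := inferInstance
  haveI : Unique (PrimeSpectrum B) := uniqueOfSubsingleton (Classical.arbitrary _)
  have hg : Nat.card (PrimeSpectrum C) = g := by
    rw [Nat.card_congr (PrimeSpectrum.comapEquiv (RingEquiv.ofBijective Φ.toRingHom hΦ)).toEquiv,
      Nat.card_congr (Equiv.ofBijective (PrimeSpectrum.sigmaToPi fun _ : Fin g => B)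
        ⟨PrimeSpectrum.sigmaToPi_injective _, fun p => by
          obtain ⟨i, q, hq⟩ := PrimeSpectrum.exists_comap_evalRingHom_eq p
          exact ⟨⟨i, q⟩, hq⟩⟩).symm, Nat.card_sigma]
    simp [Nat.card_unique]
  refine ⟨Module.finrank k B, by rw [hg]; exact finrank_eq_of_decomposition Φ hΦ, fun l hl hlk hdvd => ?_⟩
  obtain ⟨p, hp⟩ := CharP.exists (R := k)
  rcases CharP.char_is_prime_or_zero k p with hpr | rfl
  · haveI := Fact.mk hpr
    obtain ⟨d, hd⟩ := exists_finrank_eq_pow (k := k) p hinf
    rw [hd] at hdvd
    have : l = p := (Nat.prime_dvd_prime_iff_eq hl hpr).1 (hl.dvd_of_dvd_pow hdvd)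
    exact hlk (this ▸ CharP.cast_eq_zero k p)
  · haveI : CharZero k := CharP.charP_to_charZero k
    have haug := aug_eq_bot_of_charZero hinf
    have hb : Function.Bijective (algebraMap k B) := by
      refine ⟨(algebraMap k B).injective, fun b => ⟨Coalgebra.counit (R := k) b, ?_⟩⟩
      have : b - algebraMap k _ (Coalgebra.counit (R := k) b) ∈ (⊥ : Ideal B) := haug ▸ sub_counit_mem b
      exact (sub_eq_zero.mp this).symm
    rw [← (AlgEquiv.ofBijective (Algebra.ofId k B) hb).toLinearEquiv.finrank_eq, Module.finrank_self] at hdvd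
    exact hl.one_lt.ne' (Nat.dvd_one.1 hdvd)

variable {k : Type u} [Field k] [IsAlgClosed k] {A B : Over (Spec (CommRingCat.of k))}
variable [GrpObj A] [IsProper A.hom] [GeometricallyIntegral A.hom] [IsCommMonObj A]
variable [GrpObj B] [IsProper B.hom]

/-- The degree is the number of kernel points times a number prime to every invertible prime. -/
theorem exists_card_mul_kernel (φ : A ⟶ B) [IsMonHom φ] [IsFinite φ.left] [Flat φ.left] :
    ∃ e : ℕ, φ.left.finrank (η[B].left (IsLocalRing.closedPoint k)) =
        Nat.card {a : one' k ⟶ A // a ≫ φ = η[B]} * e ∧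
      ∀ l : ℕ, l.Prime → (l : k) ≠ 0 → ¬ l ∣ e := by
  haveI : IsClosedImmersion η[B].left :=
    isClosedImmersion_of_comp_eq_id B.hom η[B].left (Over.w η[B])
  let q : pullback φ.left η[B].left ⟶ Spec (CommRingCat.of k) := pullback.snd φ.left η[B].left
  let K : Over (Spec (CommRingCat.of k)) := Over.mk q
  let i : K ⟶ A := Over.homMk (pullback.fst φ.left η[B].left) (by
    show pullback.fst φ.left η[B].left ≫ A.hom = q
    rw [← Over.w φ, ← Category.assoc, pullback.condition, Category.assoc, Over.w η[B]]
    exact Category.comp_id _)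
  haveI : IsClosedImmersion i.left := MorphismProperty.pullback_fst _ _ ‹IsClosedImmersion η[B].left›
  obtain ⟨hK, hi⟩ := GrpField.SchImg.exists_grpObj_of_div i
    ⟨Over.homMk (pullback.lift η[A].left (𝟙 _) (by
        rw [← Over.comp_left, IsMonHom.one_hom φ]; exact (Category.id_comp _).symm)) (pullback.lift_snd _ _ _),
      Over.OverMorphism.ext (pullback.lift_fst _ _ _)⟩
    fun T k₁ k₂ => by
      have hz : ∀ z : T ⟶ K, (z ≫ i) ≫ φ = 1 := fun z => Over.OverMorphism.ext (by
        have hz' : z.left ≫ q = T.hom := Over.w z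
        rw [Hom.one_def, Over.comp_left, Over.comp_left, Over.comp_left, Category.assoc,
          show i.left ≫ φ.left = q ≫ η[B].left from pullback.condition, ← Category.assoc, hz', Over.toUnit_left])
      have h0 : ((k₁ ≫ i)⁻¹ * (k₂ ≫ i)) ≫ φ = 1 := by
        rw [MonObj.mul_comp, GrpObj.inv_comp, hz, hz, inv_one, _root_.one_mul]
      refine ⟨Over.homMk (pullback.lift ((k₁ ≫ i)⁻¹ * (k₂ ≫ i)).left T.hom (by
        rw [← Over.comp_left, h0, Hom.one_def, Over.comp_left, Over.toUnit_left])) (pullback.lift_snd _ _ _), ?_⟩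
      exact Over.OverMorphism.ext (pullback.lift_fst _ _ _)
  haveI := hi
  haveI : Mono i := (Over.forget _).mono_of_mono_map (inferInstanceAs (Mono i.left))
  haveI : IsFinite K.hom := MorphismProperty.pullback_snd _ _ ‹IsFinite φ.left›
  haveI : IsAffine K.left := isAffine_of_isAffineHom K.hom
  obtain ⟨C, hC, e, -⟩ := FinHopf.exists_hopf K
  letI := hC
  let f := Spec.map (CommRingCat.ofHom (algebraMap k C))
  have hf : f = e.hom.left ≫ K.hom := (Over.w e.hom).symm
  haveI : IsIso e.hom.left := inferInstanceAs (IsIso ((Over.forget _).map e.hom))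
  have hfin : (algebraMap k C).Finite := by
    have : IsFinite f := by rw [hf]; infer_instance
    exact (IsFinite.SpecMap_iff _).mp this
  haveI : Module.Finite k C := RingHom.finite_algebraMap.1 hfin
  obtain ⟨d, hd, hld⟩ := exists_card_mul_hopf (k := k) C
  haveI : DiscreteTopology ↥(pullback φ.left η[B].left) := SpQS.discrete_of_isFinite q
  have hcard : Nat.card {a : one' k ⟶ A // a ≫ φ = η[B]} = Nat.card (PrimeSpectrum C) := by
    refine Eq.trans ?_ (Nat.card_congr e.hom.left.homeomorph.toEquiv).symm
    exact Nat.card_congr ((fibreEquiv φ η[B]).trans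
      (({ toFun := fun s => ⟨pullback.lift s.1 (𝟙 _) (by rw [s.2, Category.id_comp]), pullback.lift_snd _ _ _⟩
          invFun := fun p => ⟨p.1 ≫ pullback.fst _ _, by
            rw [Category.assoc, pullback.condition, ← Category.assoc, p.2, Category.id_comp]⟩
          left_inv := fun s => Subtype.ext (pullback.lift_fst _ _ _)
          right_inv := fun p => Subtype.ext (pullback.hom_ext (pullback.lift_fst _ _ _)
            ((pullback.lift_snd _ _ _).trans p.2.symm)) } :
          {s : Spec (CommRingCat.of k) ⟶ A.left // s ≫ φ.left = η[B].left} ≃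
            {p : Spec (CommRingCat.of k) ⟶ pullback φ.left η[B].left // p ≫ q = 𝟙 _}).trans
        ((pointEquivClosedPoint q).trans
          (Equiv.subtypeUnivEquiv fun z => mem_closedPoints_iff.2 (isClosed_discrete {z})))))
  refine ⟨d, ?_, hld⟩
  rw [hcard, ← hd]
  have hflat : (algebraMap k C).Flat := RingHom.flat_algebraMap_iff.2 inferInstance
  rw [← Scheme.Hom.finrank_pullback_snd φ.left η[B].left (IsLocalRing.closedPoint k)]
  show q.finrank _ = _
  rw [← Scheme.Hom.finrank_comp_left_of_isIso e.hom.left q, show e.hom.left ≫ q = f from hf.symm,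
    Scheme.Hom.finrank_SpecMap_algebraMap k C, Module.rankAtStalk_eq_finrank_of_free]
  rfl

end Groth.Agent.AVDeg
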