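import Groth.Agent.AVDeg.TateAV
import Groth.Agent.AVDeg.KernelOrder

/-!
The `l`-part of the degree of an isogeny is the determinant on Tate modules.
-/

set_option autoImplicit false
set_option backward.isDefEq.respectTransparency false
set_option linter.style.haveILetI false
set_option linter.unusedSectionVars false

universe u

open CategoryTheory CategoryTheory.Limits MonoidalCategory CartesianMonoidalCategory MonObj AlgebraicGeometry
open TopologicalSpace

noncomputable section

namespace Groth.Agent.AVDeg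

section Algebra

variable {l : ℕ} [hlp : Fact l.Prime]

theorem valuation_eq_zero_of_isUnit {x : ℤ_[l]} (hx : IsUnit x) : x.valuation = 0 := by
  obtain ⟨y, hy⟩ := hx.exists_right_inv
  have h0 : x ≠ 0 := hx.ne_zero
  have h1 : y ≠ 0 := fun h => by simp [h] at hy
  have := PadicInt.valuation_mul h0 h1
  rw [hy, PadicInt.valuation_one] at this
  omega

theorem valuation_prod {σ : Type*} (s : Finset σ) (f : σ → ℤ_[l]) (hf : ∀ i ∈ s, f i ≠ 0) :
    (∏ i ∈ s, f i).valuation = ∑ i ∈ s, (f i).valuation := by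
  classical
  induction s using Finset.induction_on with
  | empty => simp
  | insert a s ha ih =>
    rw [Finset.prod_insert ha, Finset.sum_insert ha, PadicInt.valuation_mul (hf a (Finset.mem_insert_self a s))
      (Finset.prod_ne_zero_iff.2 fun i hi => hf i (Finset.mem_insert_of_mem hi)),
      ih fun i hi => hf i (Finset.mem_insert_of_mem hi)]

/-- An injective map between free modules of the same rank is diagonal in suitable bases. -/
theorem exists_diag_bases {M N : Type*} [AddCommGroup M] [Module ℤ_[l] M] [AddCommGroup N] [Module ℤ_[l] N]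
    {σ : Type*} [Fintype σ] [DecidableEq σ] (f : M →ₗ[ℤ_[l]] N) (hf : Function.Injective f)
    (bM : Module.Basis σ ℤ_[l] M) (bN : Module.Basis σ ℤ_[l] N) :
    ∃ (e : Module.Basis σ ℤ_[l] M) (f' : Module.Basis σ ℤ_[l] N) (a : σ → ℕ),
      (∀ i, f (e i) = ((l : ℤ_[l]) ^ a i) • f' i) ∧
        (LinearMap.toMatrix bM bN f).det.valuation = ∑ i, a i := by
  have hrank : Module.finrank ℤ_[l] (LinearMap.range f) = Module.finrank ℤ_[l] N := by
    rw [LinearMap.finrank_range_of_inj hf, Module.finrank_eq_card_basis bM, Module.finrank_eq_card_basis bN]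
  obtain ⟨f', c, ab, hab⟩ := Submodule.exists_smith_normal_form_of_rank_eq bN hrank
  have hc : ∀ i, c i ≠ 0 := fun i h => ab.ne_zero i (Subtype.ext (by rw [hab, h, zero_smul]; rfl))
  let e0 := ab.map (LinearEquiv.ofInjective f hf).symm
  have he0 : ∀ i, f (e0 i) = c i • f' i := fun i => by
    rw [← hab i]
    exact congrArg Subtype.val ((LinearEquiv.ofInjective f hf).apply_symm_apply (ab i))
  let u := fun i => PadicInt.unitCoeff (hc i)
  let e := e0.unitsSMul fun i => (u i)⁻¹
  let a := fun i => (c i).valuation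
  have he : ∀ i, f (e i) = ((l : ℤ_[l]) ^ a i) • f' i := fun i => by
    rw [show e i = (((u i)⁻¹ : ℤ_[l]ˣ) : ℤ_[l]) • e0 i from Module.Basis.unitsSMul_apply i, map_smul, he0, smul_smul]
    congr 1
    conv_lhs => rw [PadicInt.unitCoeff_spec (hc i)]
    rw [← _root_.mul_assoc]
    exact (congrArg (· * _) (Units.inv_mul (u i))).trans (_root_.one_mul _)
  have hdiag : LinearMap.toMatrix e f' f = Matrix.diagonal fun i => (l : ℤ_[l]) ^ a i := by
    ext i j
    rw [LinearMap.toMatrix_apply, he, map_smul, Module.Basis.repr_self, Finsupp.smul_single, smul_eq_mul, _root_.mul_one]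
    by_cases h : i = j
    · subst h; simp
    · rw [Finsupp.single_eq_of_ne h, Matrix.diagonal_apply_ne _ h]
  refine ⟨e, f', a, he, ?_⟩
  rw [← basis_toMatrix_mul_linearMap_toMatrix_mul_basis_toMatrix (b := bM) (b' := e) (c := bN) (c' := f') f,
    Matrix.det_mul, Matrix.det_mul, hdiag, Matrix.det_diagonal]
  have h1 : IsUnit (bN.toMatrix f').det := by
    rw [← Module.Basis.det_apply]
    exact bN.isUnit_det f'
  have h2 : IsUnit (e.toMatrix bM).det := by
    rw [← Module.Basis.det_apply]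
    exact e.isUnit_det bM
  have hp : (∏ i, (l : ℤ_[l]) ^ a i) ≠ 0 :=
    Finset.prod_ne_zero_iff.2 fun i _ => pow_ne_zero _ (Nat.cast_ne_zero.2 hlp.out.ne_zero)
  rw [PadicInt.valuation_mul (mul_ne_zero h1.ne_zero hp) h2.ne_zero, PadicInt.valuation_mul h1.ne_zero hp,
    valuation_eq_zero_of_isUnit h1, valuation_eq_zero_of_isUnit h2,
    valuation_prod _ _ fun i _ => pow_ne_zero _ (Nat.cast_ne_zero.2 hlp.out.ne_zero), zero_add, add_zero]
  exact Finset.sum_congr rfl fun i _ => by rw [PadicInt.valuation_pow, PadicInt.valuation_p, _root_.mul_one]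

/-- In a finite commutative group the elements killed by a large power of `l` form the `l`-part. -/
theorem natCard_pow_ker {G : Type*} [CommGroup G] [Finite G] (n : ℕ) (hn : padicValNat l (Nat.card G) ≤ n) :
    Nat.card {x : G // x ^ (l ^ n) = 1} = l ^ padicValNat l (Nat.card G) := by
  let H := (powMonoidHom (α := G) (l ^ n)).ker
  have hH : IsPGroup l H := fun x => ⟨n, Subtype.ext x.2⟩
  obtain ⟨j, hj⟩ := IsPGroup.iff_card.1 hH
  have hpos : Nat.card G ≠ 0 := Nat.card_pos.ne'
  have h1 : j ≤ padicValNat l (Nat.card G) :=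
    (padicValNat_dvd_iff_le hpos).1 (hj ▸ Subgroup.card_subgroup_dvd_card H)
  let P : Sylow l G := Classical.arbitrary _
  have hP : Nat.card P = l ^ padicValNat l (Nat.card G) := by
    rw [P.card_eq_multiplicity, Nat.factorization_def _ hlp.out]
  have h2 : (P : Subgroup G) ≤ H := fun x hx => by
    show x ^ (l ^ n) = 1
    have : (⟨x, hx⟩ : (P : Subgroup G)) ^ (l ^ padicValNat l (Nat.card G)) = 1 := by
      rw [← hP]; exact pow_card_eq_one'
    have h3 : x ^ (l ^ padicValNat l (Nat.card G)) = 1 := congrArg Subtype.val this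
    obtain ⟨d, hd⟩ := pow_dvd_pow l hn
    rw [hd, pow_mul, h3, one_pow]
  have h4 := Subgroup.card_dvd_of_le h2
  rw [hj] at h4
  rw [show Nat.card {x : G // x ^ (l ^ n) = 1} = Nat.card H from rfl, hj]
  refine congrArg (l ^ ·) (le_antisymm h1 ?_)
  exact (Nat.pow_dvd_pow_iff_le_right hlp.out.one_lt).1 (hP ▸ h4)

/-- The kernel of a diagonal map on `l ^ n`-torsion. -/
theorem natCard_diag_ker {G H : Type*} [AddCommGroup G] [AddCommGroup H] {r : ℕ} {n : ℕ}
    (h : G →+ H) {x : Fin r → G} {z : Fin r → H} (hx : Good (l ^ n) x) (hz : Good (l ^ n) z)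
    (hc : Nat.card (tors G (l ^ n)) = (l ^ n) ^ r)
    (a : Fin r → ℕ) (ha : ∀ i, a i ≤ n) (hh : ∀ i, h (x i) = ((l ^ a i : ℕ) : ℤ) • z i) :
    Nat.card {y : G // (l ^ n) • y = 0 ∧ h y = 0} = l ^ ∑ i, a i := by
  haveI : NeZero (l ^ n) := ⟨pow_ne_zero n hlp.out.ne_zero⟩
  have hsplit : ∀ i, ((l ^ n : ℕ) : ℤ) = ((l ^ (n - a i) : ℕ) : ℤ) * ((l ^ a i : ℕ) : ℤ) := fun i => by
    rw [← Nat.cast_mul, ← pow_add, Nat.sub_add_cancel (ha i)]
  let c : (∀ i, Fin (l ^ a i)) → Fin r → ℤ := fun d i => ((l ^ (n - a i) : ℕ) : ℤ) * (d i : ℕ)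
  have hker : ∀ d : ∀ i, Fin (l ^ a i), (l ^ n) • (∑ i, c d i • x i) = 0 ∧ h (∑ i, c d i • x i) = 0 := fun d => by
    refine ⟨?_, ?_⟩
    · rw [Finset.smul_sum]
      exact Finset.sum_eq_zero fun i _ => by rw [smul_comm, hx.smul_eq_zero, smul_zero]
    · rw [map_sum, Finset.sum_congr rfl fun i _ => by rw [map_zsmul, hh, smul_smul]]
      refine (hz _).2 fun i => ⟨(d i : ℕ), ?_⟩
      rw [hsplit i]
      ring
  let ψ : (∀ i, Fin (l ^ a i)) → {y : G // (l ^ n) • y = 0 ∧ h y = 0} := fun d => ⟨_, hker d⟩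
  have hψ : Function.Bijective ψ := by
    refine ⟨fun d d' hdd => funext fun i => ?_, fun y => ?_⟩
    · have h1 : ∑ j, (c d j - c d' j) • x j = 0 := by
        simp only [sub_smul, Finset.sum_sub_distrib]
        exact sub_eq_zero.2 (congrArg Subtype.val hdd)
      have h2 := (hx _).1 h1 i
      rw [hsplit i, ← mul_sub] at h2
      have h3 := Int.dvd_of_mul_dvd_mul_left
        (Int.natCast_ne_zero.2 (pow_ne_zero _ hlp.out.ne_zero)) h2
      have h4 : ((d' i : ℕ) : ℤ) % ((l ^ a i : ℕ) : ℤ) = ((d i : ℕ) : ℤ) % ((l ^ a i : ℕ) : ℤ) :=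
        Int.modEq_iff_dvd.2 h3
      rw [← Int.natCast_mod, ← Int.natCast_mod, Nat.mod_eq_of_lt (d i).2, Nat.mod_eq_of_lt (d' i).2] at h4
      exact Fin.ext (Int.ofNat_inj.1 h4.symm)
    · obtain ⟨e, he⟩ := hx.exists_eq hc y.1 y.2.1
      have h1 : ∑ i, (e i * ((l ^ a i : ℕ) : ℤ)) • z i = 0 := by
        have := y.2.2
        rw [← he, map_sum, Finset.sum_congr rfl fun i _ => by rw [map_zsmul, hh, smul_smul]] at this
        exact this
      have h2 : ∀ i, ((l ^ (n - a i) : ℕ) : ℤ) ∣ e i := fun i => by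
        have := (hz _).1 h1 i
        rw [hsplit i] at this
        exact Int.dvd_of_mul_dvd_mul_right (Int.natCast_ne_zero.2 (pow_ne_zero _ hlp.out.ne_zero)) this
      choose q hq using h2
      refine ⟨fun i => ⟨(q i % ((l ^ a i : ℕ) : ℤ)).toNat, ?_⟩, Subtype.ext ?_⟩
      · rw [Int.toNat_lt (Int.emod_nonneg _ (Int.natCast_ne_zero.2 (pow_ne_zero _ hlp.out.ne_zero)))]
        exact Int.emod_lt_of_pos _ (Int.natCast_pos.2 (pow_pos hlp.out.pos _))
      · show ∑ i, (((l ^ (n - a i) : ℕ) : ℤ) * (((q i % ((l ^ a i : ℕ) : ℤ)).toNat : ℕ) : ℤ)) • x i = y.1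
        rw [← he, ← sub_eq_zero, ← Finset.sum_sub_distrib]
        simp only [← sub_smul]
        refine (hx _).2 fun i => ?_
        show _ ∣ ((l ^ (n - a i) : ℕ) : ℤ) * (((q i % ((l ^ a i : ℕ) : ℤ)).toNat : ℕ) : ℤ) - e i
        rw [Int.toNat_of_nonneg (Int.emod_nonneg _ (Int.natCast_ne_zero.2 (pow_ne_zero _ hlp.out.ne_zero))),
          hq i, ← mul_sub, hsplit i]
        refine mul_dvd_mul_left _ ?_
        rw [← neg_sub, dvd_neg]
        exact Int.dvd_self_sub_emod
  rw [← Nat.card_congr (Equiv.ofBijective ψ hψ), Nat.card_pi]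
  simp [Finset.prod_pow_eq_pow_sum]

end Algebra

section AV

variable {k : Type u} [Field k] [IsAlgClosed k] {A B : Over (Spec (CommRingCat.of k))}
variable [GrpObj A] [IsProper A.hom] [GeometricallyIntegral A.hom] [IsCommMonObj A]
variable {l : ℕ} [Fact l.Prime]

/-- Only multiples of `l ^ n` vanish at level `n`. -/
theorem exists_eq_smul_of_component_eq_zero (t : AbDual.TateMod A l (one' k)) (n : ℕ)
    (h : (t : ℕ → Additive (one' k ⟶ A)) n = 0) :
    ∃ s : AbDual.TateMod A l (one' k), t = ((l : ℤ_[l]) ^ n) • s := by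
  have hsh : ∀ i j, (l ^ i) • (t : ℕ → Additive (one' k ⟶ A)) (j + i) = (t : ℕ → Additive (one' k ⟶ A)) j := by
    intro i
    induction i with
    | zero => intro j; rw [pow_zero, one_smul, Nat.add_zero]
    | succ i ih => intro j; rw [← add_assoc, pow_succ, mul_smul, t.compat, ih]
  let s : AbDual.TateMod A l (one' k) := ⟨fun m => (t : ℕ → Additive (one' k ⟶ A)) (m + n), fun m => by
    show (l ^ m) • (t : ℕ → Additive (one' k ⟶ A)) (m + n) = 0
    rw [add_comm m n, hsh, h], fun m => by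
    show l • (t : ℕ → Additive (one' k ⟶ A)) (m + 1 + n) = _
    rw [add_right_comm, t.compat]⟩
  refine ⟨s, AbDual.TateMod.ext fun j => ?_⟩
  rw [AbDual.smul_component, AbDual.nsmul_congr_of_modEq (s.torsion j) (k' := l ^ n)]
  · exact (hsh n j).symm
  · rw [← ZMod.natCast_eq_natCast_iff, ← AbDual.toZModPow_eq_appr, map_pow, map_natCast, Nat.cast_pow]

theorem good_component {r : ℕ} (b : Module.Basis (Fin r) ℤ_[l] (AbDual.TateMod A l (one' k))) (n : ℕ) :
    Good (l ^ n) fun i => (b i : ℕ → Additive (one' k ⟶ A)) n := by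
  intro c
  have hsum : ∀ c : Fin r → ℤ, ((∑ i, (c i : ℤ_[l]) • b i : AbDual.TateMod A l (one' k)) :
      ℕ → Additive (one' k ⟶ A)) n = ∑ i, c i • (b i : ℕ → Additive (one' k ⟶ A)) n := fun c => by
    show AbDual.TateMod.component A l (one' k) n (∑ i, (c i : ℤ_[l]) • b i) = _
    rw [map_sum]
    refine Finset.sum_congr rfl fun i _ => ?_
    rw [Int.cast_smul_eq_zsmul, map_zsmul]
    rfl
  refine ⟨fun h0 i => ?_, fun hd => Finset.sum_eq_zero fun i _ => ?_⟩
  · obtain ⟨s, hs⟩ := exists_eq_smul_of_component_eq_zero _ n ((hsum c).trans h0)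
    have hi := DFunLike.congr_fun (congrArg b.repr hs) i
    rw [map_smul, Finsupp.smul_apply, smul_eq_mul, Module.Basis.repr_sum_self] at hi
    rw [← ZMod.intCast_zmod_eq_zero_iff_dvd, ← map_intCast (PadicInt.toZModPow (p := l) n), hi, map_mul,
      toZModPow_natCast_pow, zero_mul]
  · obtain ⟨d, hd⟩ := hd i
    rw [hd, mul_comm, mul_smul, natCast_zsmul, (b i).torsion, smul_zero]

variable [GrpObj B] [IsProper B.hom] [GeometricallyIntegral B.hom] [IsCommMonObj B]

/-- `v_l (#ker)` is the valuation of the determinant on Tate modules. -/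
theorem padicValNat_natCard_kernel (hl : (l : k) ≠ 0) {r : ℕ} (hrA : topologicalKrullDim A.left = (r : WithBot ℕ∞))
    (φ : A ⟶ B) [IsMonHom φ] [IsFinite φ.left]
    (bA : Module.Basis (Fin (2 * r)) ℤ_[l] (AbDual.TateMod A l (one' k)))
    (bB : Module.Basis (Fin (2 * r)) ℤ_[l] (AbDual.TateMod B l (one' k))) :
    padicValNat l (Nat.card {a : one' k ⟶ A // a ≫ φ = η[B]}) =
      (LinearMap.toMatrix bA bB (AbDual.tateMapₗ (l := l) (T := one' k) φ)).det.valuation := by
  classical
  obtain ⟨e, f, a, he, hv⟩ := exists_diag_bases _ (injective_tate_of_isFinite (l := l) φ) bA bB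
  haveI : Finite (kerPts φ) := (finite_kerPts_of_isFinite φ).to_subtype
  rw [hv, Nat.card_congr (Equiv.subtypeEquivRight fun x => (by rw [eta_eq_one]; exact Iff.rfl :
    x ≫ φ = η[B] ↔ x ∈ kerPts φ))]
  set n := padicValNat l (Nat.card (kerPts φ)) + ∑ i, a i with hn
  have key := natCard_diag_ker (l := l)
    ((⟨⟨fun y => Additive.ofMul (Additive.toMul y ≫ φ), congrArg Additive.ofMul (MonObj.one_comp φ)⟩,
      fun y z => congrArg Additive.ofMul (MonObj.mul_comp _ _ φ)⟩ : Additive (one' k ⟶ A) →+ Additive (one' k ⟶ B)))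
    (good_component e n) (good_component f n) (natCard_tors hrA (natCast_pow_ne_zero' hl n)) a
    (fun i => (Finset.single_le_sum (fun j _ => Nat.zero_le (a j)) (Finset.mem_univ i)).trans (Nat.le_add_left _ _))
    fun i => by
      have h1 := congrArg (fun s : AbDual.TateMod B l (one' k) => (s : ℕ → Additive (one' k ⟶ B)) n) (he i)
      simp only [← Nat.cast_pow, Nat.cast_smul_eq_nsmul] at h1
      exact h1.trans (natCast_zsmul _ _).symm
  refine Nat.pow_right_injective (Fact.out : l.Prime).two_le ?_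
  show l ^ _ = l ^ _
  rw [← key, ← natCard_pow_ker n (Nat.le_add_right _ _)]
  exact Nat.card_congr
    { toFun := fun x => ⟨Additive.ofMul x.1.1,
        congrArg Additive.ofMul (congrArg Subtype.val x.2), congrArg Additive.ofMul x.1.2⟩
      invFun := fun y => ⟨⟨Additive.toMul y.1, congrArg Additive.toMul y.2.2⟩,
        Subtype.ext (congrArg Additive.toMul y.2.1)⟩
      left_inv := fun _ => rfl
      right_inv := fun _ => rfl }

/-- `v_l (deg) = v_l (det)`. -/
theorem padicValNat_finrank (hl : (l : k) ≠ 0) {r : ℕ} (hrA : topologicalKrullDim A.left = (r : WithBot ℕ∞))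
    (hrB : topologicalKrullDim B.left = (r : WithBot ℕ∞))
    (φ : A ⟶ B) [IsMonHom φ] [IsFinite φ.left]
    (bA : Module.Basis (Fin (2 * r)) ℤ_[l] (AbDual.TateMod A l (one' k)))
    (bB : Module.Basis (Fin (2 * r)) ℤ_[l] (AbDual.TateMod B l (one' k))) (b : B.left) :
    padicValNat l (φ.left.finrank b) =
      (LinearMap.toMatrix bA bB (AbDual.tateMapₗ (l := l) (T := one' k) φ)).det.valuation := by
  haveI := isIntegral_av A
  haveI := isIntegral_av B
  haveI : Surjective φ.left := GrpField.surjective_of_isFinite φ (hrA.trans hrB.symm)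
  haveI : Flat φ.left := GrpField.flat_of_surjective φ
  haveI : IsLocallyNoetherian B.left := LocallyOfFiniteType.isLocallyNoetherian B.hom
  rw [φ.left.isLocallyConstant_finrank.apply_eq_of_preconnectedSpace b (η[B].left (IsLocalRing.closedPoint k))]
  obtain ⟨e, he, hle⟩ := exists_card_mul_kernel φ
  haveI : Finite (kerPts φ) := (finite_kerPts_of_isFinite φ).to_subtype
  haveI : Finite {a : one' k ⟶ A // a ≫ φ = η[B]} :=
    Finite.of_equiv (kerPts φ) (Equiv.subtypeEquivRight fun x => (by rw [eta_eq_one]; exact Iff.rfl :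
        x ∈ kerPts φ ↔ x ≫ φ = η[B]))
  haveI : Nonempty {a : one' k ⟶ A // a ≫ φ = η[B]} := ⟨⟨η[A], IsMonHom.one_hom φ⟩⟩
  have he0 : e ≠ 0 := fun h => hle l Fact.out hl (h ▸ dvd_zero l)
  rw [he, padicValNat.mul Nat.card_pos.ne' he0, padicValNat.eq_zero_of_not_dvd (hle l Fact.out hl), add_zero,
    padicValNat_natCard_kernel hl hrA φ bA bB]

end AV

end Groth.Agent.AVDeg
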