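import Groth.Agent.AVDeg.CharRoots
import Groth.Agent.AVDeg.TateDet
import Groth.Agent.AVDeg.DetAeval
import Groth.Agent.S12031
import Groth.Prelude.Def_EndTate

/-!
The characteristic polynomial on the Tate module.
-/

set_option autoImplicit false
set_option backward.isDefEq.respectTransparency false
set_option linter.style.haveILetI false
set_option linter.unusedSectionVars false
set_option synthInstance.maxHeartbeats 400000

universe u

open CategoryTheory CategoryTheory.Limits MonoidalCategory CartesianMonoidalCategory MonObj AlgebraicGeometry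
open TopologicalSpace

noncomputable section

namespace Groth.Agent.AVDeg

theorem norm_natCast_eq {l : ℕ} [Fact l.Prime] {m : ℕ} (hm : m ≠ 0) {x : ℤ_[l]} (hx : x ≠ 0)
    (h : padicValNat l m = x.valuation) : ‖(m : ℚ_[l])‖ = ‖(x : ℚ_[l])‖ := by
  rw [Padic.norm_eq_zpow_neg_valuation (Nat.cast_ne_zero.2 hm), Padic.valuation_natCast, h,
    PadicInt.padic_norm_e_of_padicInt, PadicInt.norm_eq_zpow_neg_valuation hx]

variable {k : Type u} [Field k] [IsAlgClosed k] {A : Over (Spec (CommRingCat.of k))}
variable [GrpObj A] [IsProper A.hom] [GeometricallyIntegral A.hom] [IsCommMonObj A]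
variable {l : ℕ} [Fact l.Prime]

/-- The absolute value of the degree is that of the determinant. -/
theorem norm_deg_eq_norm_det (hl : (l : k) ≠ 0) {r : ℕ} (hA : topologicalKrullDim A.left = (r : WithBot ℕ∞))
    (b : Module.Basis (Fin (2 * r)) ℤ_[l] (AbDual.TateMod A l (one' k))) (φ : A ⟶ A) [IsMonHom φ] :
    ‖(deg φ : ℚ_[l])‖ =
      ‖((LinearMap.toMatrix b b (AbDual.tateMapₗ (l := l) (T := one' k) φ)).det : ℚ_[l])‖ := by
  classical
  haveI := isIntegral_av A
  haveI : Module.Free ℤ_[l] (AbDual.TateMod A l (one' k)) := Module.Free.of_basis b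
  haveI : Module.Finite ℤ_[l] (AbDual.TateMod A l (one' k)) := Module.Finite.of_basis b
  have hdet : IsFinite φ.left ↔ (LinearMap.toMatrix b b (AbDual.tateMapₗ (l := l) (T := one' k) φ)).det ≠ 0 := by
    rw [LinearMap.det_toMatrix, ← not_iff_not, not_not, LinearMap.det_eq_zero_iff_ker_ne_bot, ne_eq,
      LinearMap.ker_eq_bot, not_iff_not]
    exact ⟨fun h => injective_tate_of_isFinite (l := l) φ, fun h => isFinite_of_injective_tate hl φ h⟩
  by_cases hf : IsFinite φ.left
  · haveI : IsFinite φ.left := hf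
    haveI : Surjective φ.left := GrpField.surjective_of_isFinite φ rfl
    haveI : Flat φ.left := GrpField.flat_of_surjective φ
    obtain ⟨e, he, hle⟩ := exists_card_mul_kernel φ
    haveI : Finite (kerPts φ) := (finite_kerPts_of_isFinite φ).to_subtype
    haveI : Finite {a : one' k ⟶ A // a ≫ φ = η[A]} :=
      Finite.of_equiv (kerPts φ) (Equiv.subtypeEquivRight fun x => (by rw [eta_eq_one]; exact Iff.rfl :
        x ∈ kerPts φ ↔ x ≫ φ = η[A]))
    haveI : Nonempty {a : one' k ⟶ A // a ≫ φ = η[A]} := ⟨⟨η[A], IsMonHom.one_hom φ⟩⟩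
    rw [finrank_eq_deg hA φ hf] at he
    refine norm_natCast_eq ?_ (hdet.1 hf) ?_
    · rw [he]
      exact mul_ne_zero Nat.card_pos.ne' fun h => hle l Fact.out hl (h ▸ dvd_zero l)
    · rw [← finrank_eq_deg hA φ hf (η[A].left (IsLocalRing.closedPoint k))]
      exact padicValNat_finrank hl hA hA φ b b _
  · rw [deg_eq_zero_of_not_isFinite hf, not_not.1 (fun h => hf (hdet.2 h)), Nat.cast_zero]
    rfl

theorem tateRep_aeval (φ : EndAV.End A) (F : Polynomial ℤ) :
    EndAV.End.tateRep l (one' k) (Polynomial.aeval φ F) = Polynomial.aeval (EndAV.End.tateRep l (one' k) φ) F := by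
  induction F using Polynomial.induction_on' with
  | add p q hp hq => rw [map_add, map_add, map_add, hp, hq]
  | monomial n c =>
    rw [Polynomial.aeval_monomial, Polynomial.aeval_monomial, map_mul, map_pow, eq_intCast, eq_intCast, map_intCast]

/-- The characteristic polynomial acts as the characteristic polynomial on the Tate module. -/
theorem charpoly_tate (hl : (l : k) ≠ 0) {r : ℕ} (hA : topologicalKrullDim A.left = (r : WithBot ℕ∞))
    (φ : EndAV.End A) {P : Polynomial ℤ} (hP : P.Monic) (hPd : P.natDegree = 2 * r)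
    (hPv : ∀ n : ℤ, P.eval n = deg (EndAV.End.toHom (φ - (n : EndAV.End A))))
    [Module.Free ℤ_[l] (AbDual.TateMod A l (one' k))] [Module.Finite ℤ_[l] (AbDual.TateMod A l (one' k))] :
    (EndAV.End.tateRep l (one' k) φ).charpoly = P.map (Int.castRingHom ℤ_[l]) := by
  classical
  obtain ⟨x, b, -, -, -⟩ := exists_tate_basis_av hA hl
  let M := LinearMap.toMatrix b b (EndAV.End.tateRep l (one' k) φ)
  rw [← LinearMap.charpoly_toMatrix (EndAV.End.tateRep l (one' k) φ) b]
  change M.charpoly = _
  refine Polynomial.map_injective (algebraMap ℤ_[l] ℚ_[l]) (IsFractionRing.injective _ _) ?_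
  rw [← Matrix.charpoly_map, Polynomial.map_map,
    RingHom.ext_int ((algebraMap ℤ_[l] ℚ_[l]).comp (Int.castRingHom ℤ_[l])) (Int.castRingHom ℚ_[l])]
  set Mq := M.map (algebraMap ℤ_[l] ℚ_[l])
  let C := PadicAlgCl l
  let ι' := algebraMap ℚ_[l] C
  let SP := (Mq.charpoly.map ι').roots
  let SQ := ((P.map (Int.castRingHom ℚ_[l])).map ι').roots
  let K : IntermediateField ℚ_[l] C := IntermediateField.adjoin ℚ_[l] ((SP.toFinset ∪ SQ.toFinset : Finset C) : Set C)
  haveI : FiniteDimensional ℚ_[l] K := IntermediateField.finiteDimensional_adjoin fun x _ =>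
    (Algebra.IsAlgebraic.isAlgebraic x).isIntegral
  have hfun : ∀ S : Polynomial ℚ_[l], S.Monic → S.natDegree = 2 * r → (∀ a ∈ (S.map ι').roots, a ∈ K) →
      ∃ ω : Fin (2 * r) → K, S.map (algebraMap ℚ_[l] K) = ∏ i, (Polynomial.X - Polynomial.C (ω i)) ∧
        (S.map ι').roots = Finset.univ.val.map fun i => ((ω i : K) : C) := by
    intro S hS hSd hmem
    have hlen : (S.map ι').roots.toList.length = 2 * r := by
      rw [Multiset.length_toList, ← (IsAlgClosed.splits _).natDegree_eq_card_roots, hS.natDegree_map, hSd]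
    let ω : Fin (2 * r) → K := fun i =>
      ⟨(S.map ι').roots.toList.get (i.cast hlen.symm), hmem _ (Multiset.mem_toList.1 (List.get_mem _ _))⟩
    have hroots : (S.map ι').roots = Finset.univ.val.map fun i => ((ω i : K) : C) := by
      rw [Fin.univ_val_map]
      conv_lhs => rw [← Multiset.coe_toList (S.map ι').roots, ← List.ofFn_get (S.map ι').roots.toList]
      rw [List.ofFn_congr hlen]
    refine ⟨ω, ?_, hroots⟩
    refine Polynomial.map_injective (algebraMap K C) (algebraMap K C).injective ?_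
    rw [Polynomial.map_map, ← IsScalarTower.algebraMap_eq, Polynomial.map_prod,
      (IsAlgClosed.splits (S.map ι')).eq_prod_roots_of_monic (hS.map _), hroots, Multiset.map_map]
    rw [Finset.prod_eq_multiset_prod]
    refine congrArg Multiset.prod (Multiset.map_congr rfl fun i _ => ?_)
    simp
  obtain ⟨ω, hω, hωr⟩ := hfun _ Mq.charpoly_monic (by rw [Mq.charpoly_natDegree_eq_dim, Fintype.card_fin])
    fun a ha => IntermediateField.subset_adjoin _ _ (Finset.mem_union_left _ (Multiset.mem_toFinset.2 ha))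
  obtain ⟨η', hη, hηr⟩ := hfun _ (hP.map (Int.castRingHom ℚ_[l])) ((hP.natDegree_map _).trans hPd)
    fun a ha => IntermediateField.subset_adjoin _ _ (Finset.mem_union_right _ (Multiset.mem_toFinset.2 ha))
  refine Groth.Agent.S12031.result l K ((NormedField.toAbsoluteValue C).comp (algebraMap K C).injective)
    (fun x => ?_) _ _ _ ω η' hω hη fun F => ?_
  · show ‖algebraMap K C (algebraMap ℚ_[l] K x)‖ = _
    rw [← IsScalarTower.algebraMap_apply]
    exact PadicAlgCl.norm_extends l x
  -- both sides in the algebraic closure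
  have hprod : ∀ ω : Fin (2 * r) → K, algebraMap K C (∏ i, Polynomial.aeval (ω i) F) =
      ((Finset.univ.val.map fun i => ((ω i : K) : C)).map fun z => Polynomial.aeval z F).prod := fun ω => by
    rw [map_prod, Multiset.map_map, Finset.prod_eq_multiset_prod]
    refine congrArg Multiset.prod (Multiset.map_congr rfl fun i _ => ?_)
    exact (Polynomial.aeval_algebraMap_apply C (ω i) F).symm
  show ‖algebraMap K C _‖ = ‖algebraMap K C _‖
  rw [hprod, hprod, ← hωr, ← hηr, Polynomial.map_map,
    RingHom.ext_int (ι'.comp (Int.castRingHom ℚ_[l])) (Int.castRingHom C), ← deg_aeval hA φ hP hPd hPv C F,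
    ← map_natCast ι', PadicAlgCl.norm_extends l, norm_deg_eq_norm_det hl hA b]
  rw [← PadicAlgCl.norm_extends l]
  refine congrArg norm ?_
  have h1 := det_aeval (Mq.map ι') (F.map (Int.castRingHom C))
  rw [Matrix.charpoly_map] at h1
  simp only [Polynomial.eval_map] at h1
  refine Eq.trans h1.symm ?_
  have hmat : LinearMap.toMatrix b b (AbDual.tateMapₗ (l := l) (T := one' k)
      (EndAV.End.toHom (Polynomial.aeval φ F))) = Polynomial.aeval M F := by
    rw [← EndAV.End.tateRep_apply, tateRep_aeval]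
    exact (Polynomial.aeval_algHom_apply ((LinearMap.toMatrixAlgEquiv b).toAlgHom.restrictScalars ℤ) _ F).symm
  rw [hmat]
  show _ = ι' ((algebraMap ℤ_[l] ℚ_[l]) _)
  rw [RingHom.map_det, RingHom.map_det]
  refine congrArg Matrix.det ?_
  rw [show F.map (Int.castRingHom C) = F.map (algebraMap ℤ C) by rw [RingHom.ext_int (Int.castRingHom C) (algebraMap ℤ C)],
    Polynomial.aeval_map_algebraMap]
  exact Polynomial.aeval_algHom_apply
    (((ι'.comp (algebraMap ℤ_[l] ℚ_[l])).mapMatrix : Matrix (Fin (2 * r)) (Fin (2 * r)) ℤ_[l] →+* _).toIntAlgHom) M F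

end Groth.Agent.AVDeg

namespace Groth.Agent.AVDeg

variable {k : Type u} [Field k] [IsAlgClosed k] {A : Over (Spec (CommRingCat.of k))}
variable [GrpObj A] [IsProper A.hom] [GeometricallyIntegral A.hom] [IsCommMonObj A]
variable {l : ℕ} [Fact l.Prime]

/-- Any polynomial with the values of the degree is the characteristic polynomial on the Tate module. -/
theorem charpoly_tateMap (hl : (l : k) ≠ 0) (α : A ⟶ A) [IsMonHom α] {R : Type*} [CommRing R] [IsDomain R] [CharZero R]
    (P : Polynomial R)
    (hP : ∀ n : ℤ, (IsFinite (α * 𝟙 A ^ (-n)).left →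
        ∀ a : A.left, ((α * 𝟙 A ^ (-n)).left.finrank a : R) = P.eval (n : R)) ∧
      (¬ IsFinite (α * 𝟙 A ^ (-n)).left → P.eval (n : R) = 0))
    [Module.Free ℤ_[l] (AbDual.TateMod A l (one' k))] [Module.Finite ℤ_[l] (AbDual.TateMod A l (one' k))] :
    ∃ P₀ : Polynomial ℤ, P₀.Monic ∧ P = P₀.map (Int.castRingHom R) ∧
      (AbDual.tateMapₗ (l := l) (T := one' k) α).charpoly = P₀.map (Int.castRingHom ℤ_[l]) := by
  haveI : Nonempty A.left := ⟨η[A].left (IsLocalRing.closedPoint k)⟩
  obtain ⟨r, hA⟩ := exists_dim A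
  obtain ⟨P₀, h1, h2, h3⟩ := exists_charpoly hA (EndAV.End.of α)
  refine ⟨P₀, h1, eq_of_eval_intCast_eq fun n => ?_, charpoly_tate hl hA (EndAV.End.of α) h1 h2 h3⟩
  rw [Polynomial.eval_intCast_map, eq_intCast, Int.cast_id, h3, Int.cast_natCast, toHom_sub_intCast,
    EndAV.End.toHom_of]
  haveI : IsMonHom (α * 𝟙 A ^ (-n)) := by
    haveI := isMonHom_zpow (𝟙 A) (-n)
    rw [Hom.mul_def]; infer_instance
  exact (cast_deg_eq hA _ _ (hP n)).symm

end Groth.Agent.AVDeg

namespace Groth.Agent.AVDeg

theorem trace_eq_neg_nextCoeff {R M : Type*} [CommRing R] [Nontrivial R] [AddCommGroup M] [Module R M]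
    [Module.Free R M] [Module.Finite R M] (f : Module.End R M) :
    LinearMap.trace R M f = -f.charpoly.nextCoeff := by
  classical
  rw [LinearMap.trace_eq_matrix_trace R (Module.Free.chooseBasis R M),
    Matrix.trace_eq_neg_charpoly_nextCoeff, LinearMap.charpoly_toMatrix]

end Groth.Agent.AVDeg
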