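import Groth.Agent.AVDeg.TateSat
import Groth.Agent.AVDeg.TateCharpoly

/-!
Degrees and Tate modules under extension of the base field.
-/

set_option autoImplicit false
set_option backward.isDefEq.respectTransparency false
set_option linter.style.haveILetI false
set_option linter.unusedSectionVars false
set_option synthInstance.maxHeartbeats 400000

universe u

open CategoryTheory CategoryTheory.Limits MonoidalCategory CartesianMonoidalCategory MonObj AlgebraicGeometry
open TopologicalSpace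
open scoped CategoryTheory.Obj

noncomputable section

namespace Groth.Agent.AVDeg

variable {k : Type u} (Ω : Type u) [Field k] [Field Ω] [Algebra k Ω]
variable {A B : Over (Spec (CommRingCat.of k))} [GrpObj A] [GrpObj B]

/-- Base change of a morphism. -/
abbrev bcMap (φ : A ⟶ B) : bcK k Ω A ⟶ bcK k Ω B := (Over.pullback (specMap k Ω)).map φ

instance isMonHom_bcMap (φ : A ⟶ B) [IsMonHom φ] : IsMonHom (bcMap Ω φ) :=
  inferInstanceAs (IsMonHom ((Over.pullback (specMap k Ω)).map φ))

theorem isPullback_bcMap (φ : A ⟶ B) : IsPullback (pullback.fst A.hom (specMap k Ω)) (bcMap Ω φ).left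
    φ.left (pullback.fst B.hom (specMap k Ω)) := by
  refine IsPullback.of_bot ?_ (pullback.lift_fst _ _ _).symm (IsPullback.of_hasPullback B.hom (specMap k Ω))
  have h : (bcMap Ω φ).left ≫ pullback.snd B.hom (specMap k Ω) = pullback.snd A.hom (specMap k Ω) :=
    Over.w (bcMap Ω φ)
  rw [h, Over.w φ]
  exact IsPullback.of_hasPullback A.hom (specMap k Ω)

theorem surjective_fst_bcK (A : Over (Spec (CommRingCat.of k))) :
    Surjective (pullback.fst A.hom (specMap k Ω)) := by
  haveI : Surjective (specMap k Ω) :=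
    ⟨fun _ => ⟨IsLocalRing.closedPoint Ω, Subsingleton.elim (α := PrimeSpectrum k) _ _⟩⟩
  exact MorphismProperty.pullback_fst _ _ ‹_›

/-- Finiteness is insensitive to the base field. -/
theorem isFinite_bcMap_iff [IsProper A.hom] [IsProper B.hom] (φ : A ⟶ B) :
    IsFinite (bcMap Ω φ).left ↔ IsFinite φ.left := by
  refine ⟨fun h => ?_, fun h => MorphismProperty.of_isPullback (isPullback_bcMap Ω φ) h⟩
  haveI := isProper_hom φ
  haveI := surjective_fst_bcK Ω B
  have hlqf : LocallyQuasiFinite φ.left := .of_finite_preimage_singleton _ fun b => by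
    obtain ⟨w, hw⟩ := (pullback.fst B.hom (specMap k Ω)).surjective b
    haveI := h
    refine (((bcMap Ω φ).left.finite_preimage_singleton w).image
      (pullback.fst A.hom (specMap k Ω))).subset fun a ha => ?_
    obtain ⟨v, h1, h2⟩ := Scheme.Pullback.exists_preimage_pullback (f := φ.left)
      (g := pullback.fst B.hom (specMap k Ω)) a w (by rw [hw]; exact ha)
    let sq := isPullback_bcMap Ω φ
    refine ⟨sq.isoPullback.inv v, ?_, ?_⟩
    · rw [Set.mem_preimage, Set.mem_singleton_iff]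
      erw [← Scheme.Hom.comp_apply, sq.isoPullback_inv_snd]
      exact h2
    · erw [← Scheme.Hom.comp_apply, sq.isoPullback_inv_fst]
      exact h1
  haveI := hlqf
  exact IsFinite.of_isProper_of_locallyQuasiFinite _

variable [IsProper A.hom] [GeometricallyIntegral A.hom] [IsCommMonObj A]
variable [IsProper B.hom] [GeometricallyIntegral B.hom] [IsCommMonObj B]

theorem finrank_bcMap (φ : A ⟶ B) [IsMonHom φ] [IsFinite φ.left] [Flat φ.left] (y : (bcK k Ω B).left) :
    (bcMap Ω φ).left.finrank y = φ.left.finrank (pullback.fst B.hom (specMap k Ω) y) :=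
  Scheme.Hom.finrank_of_isPullback _ _ _ _ (isPullback_bcMap Ω φ) y

/-- The degree is insensitive to the base field. -/
theorem deg_bcMap {r : ℕ} (hA : topologicalKrullDim A.left = (r : WithBot ℕ∞)) (φ : A ⟶ A) [IsMonHom φ] :
    deg (bcMap Ω φ) = deg φ := by
  haveI := isIntegral_av A
  haveI := isIntegral_av (bcK k Ω A)
  by_cases hf : IsFinite φ.left
  · haveI := hf
    haveI : Surjective φ.left := GrpField.surjective_of_isFinite φ rfl
    haveI : Flat φ.left := GrpField.flat_of_surjective φ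
    rw [← finrank_eq_deg ((topologicalKrullDim_bcK Ω).trans hA) (bcMap Ω φ) ((isFinite_bcMap_iff Ω φ).2 hf)
      (genericPoint (bcK k Ω A).left), finrank_bcMap, finrank_eq_deg hA φ hf]
  · rw [deg_eq_zero_of_not_isFinite hf, deg_eq_zero_of_not_isFinite (mt (isFinite_bcMap_iff Ω φ).1 hf)]

/-- Base change of endomorphisms. -/
def endBC : EndAV.End A →+* EndAV.End (bcK k Ω A) :=
  { (homBC Ω : EndAV.Hom A A →+ _) with
    map_one' := EndAV.End.ext (by
      show (Over.pullback (specMap k Ω)).map (𝟙 A) = 𝟙 _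
      exact (Over.pullback (specMap k Ω)).map_id A)
    map_mul' := fun φ ψ => EndAV.End.ext (by
      show (Over.pullback (specMap k Ω)).map (EndAV.End.toHom ψ ≫ EndAV.End.toHom φ) = _
      rw [Functor.map_comp]
      rfl) }

theorem endBC_injective : Function.Injective (endBC Ω : EndAV.End A → _) := fun φ ψ h =>
  homBC_injective Ω h

theorem toHom_endBC (φ : EndAV.End A) : EndAV.End.toHom (endBC Ω φ) = bcMap Ω (EndAV.End.toHom φ) := rfl

variable {l : ℕ} [Fact l.Prime]

theorem tateBC_tateRep (φ : EndAV.End A) :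
    EndAV.End.tateRep l (one' Ω) (endBC Ω φ) =
      (tateBC (A := A) (l := l) Ω).conj (EndAV.End.tateRep l (SGA7.pt (K := k) Ω) φ) :=
  LinearMap.ext fun y => by
    rw [LinearEquiv.conj_apply_apply]
    refine Eq.trans ?_ (tateBC_tateMap Ω φ ((tateBC Ω).symm y)).symm
    rw [LinearEquiv.apply_symm_apply]
    rfl

variable [IsAlgClosed Ω]

theorem ne_zero_bc (hl : (l : k) ≠ 0) : (l : Ω) ≠ 0 :=
  fun h0 => hl ((algebraMap k Ω).injective (by rw [map_natCast, h0, map_zero]))

/-- The characteristic polynomial on Tate modules over any field. -/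
theorem exists_charpoly_tate (hl : (l : k) ≠ 0) {r : ℕ} (hA : topologicalKrullDim A.left = (r : WithBot ℕ∞))
    (φ : EndAV.End A) [Module.Free ℤ_[l] (AbDual.TateMod A l (SGA7.pt (K := k) Ω))]
    [Module.Finite ℤ_[l] (AbDual.TateMod A l (SGA7.pt (K := k) Ω))] :
    ∃ P : Polynomial ℤ, P.Monic ∧ P.natDegree = 2 * r ∧
      (∀ n : ℤ, P.eval n = deg (EndAV.End.toHom (φ - (n : EndAV.End A)))) ∧
      (EndAV.End.tateRep l (SGA7.pt (K := k) Ω) φ).charpoly = P.map (Int.castRingHom ℤ_[l]) := by
  obtain ⟨P, h1, h2, h3⟩ := exists_charpoly hA φ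
  have hA' := (topologicalKrullDim_bcK (A := A) Ω).trans hA
  haveI := Module.Free.of_equiv (tateBC (A := A) (l := l) Ω)
  haveI := Module.Finite.equiv (tateBC (A := A) (l := l) Ω)
  refine ⟨P, h1, h2, h3, ?_⟩
  rw [← LinearEquiv.charpoly_conj (tateBC (A := A) (l := l) Ω) (EndAV.End.tateRep l (SGA7.pt (K := k) Ω) φ),
    ← tateBC_tateRep]
  refine charpoly_tate (ne_zero_bc Ω hl) hA' _ h1 h2 fun n => ?_
  rw [h3, ← map_intCast (endBC Ω : EndAV.End A →+* _) n, ← map_sub, toHom_endBC, deg_bcMap Ω hA]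

/-- The degree is the determinant on Tate modules. -/
theorem deg_eq_det_tate (hl : (l : k) ≠ 0) {r : ℕ} (hA : topologicalKrullDim A.left = (r : WithBot ℕ∞))
    (φ : EndAV.End A) [Module.Free ℤ_[l] (AbDual.TateMod A l (SGA7.pt (K := k) Ω))]
    [Module.Finite ℤ_[l] (AbDual.TateMod A l (SGA7.pt (K := k) Ω))] :
    ((deg (EndAV.End.toHom φ) : ℕ) : ℤ_[l]) = LinearMap.det (EndAV.End.tateRep l (SGA7.pt (K := k) Ω) φ) := by
  obtain ⟨P, h1, h2, h3, h4⟩ := exists_charpoly_tate Ω hl hA φ
  have h0 := h3 0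
  rw [Int.cast_zero, sub_zero] at h0
  have hfr : Module.finrank ℤ_[l] (AbDual.TateMod A l (SGA7.pt (K := k) Ω)) = 2 * r := by
    have h5 := congrArg Polynomial.natDegree h4
    rw [LinearMap.charpoly_natDegree, h1.natDegree_map, h2] at h5
    exact h5
  rw [LinearMap.det_eq_sign_charpoly_coeff, hfr, (even_two_mul r).neg_one_pow, _root_.one_mul, h4,
    Polynomial.coeff_map, Polynomial.coeff_zero_eq_eval_zero, h0, map_natCast]

/-- Homomorphisms act faithfully on Tate modules. -/
theorem tateMap_injective (hl : (l : k) ≠ 0) :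
    Function.Injective (EndAV.Hom.tateMap (A := A) (B := B) l (SGA7.pt (K := k) Ω)) := by
  refine (injective_iff_map_eq_zero _).2 fun φ hφ => homBC_injective Ω ?_
  rw [map_zero]
  refine EndAV.Hom.ext (eq_one_of_tateMap_eq_zero (ne_zero_bc Ω hl) _ (LinearMap.ext fun t => ?_))
  have h := tateBC_tateMap Ω φ ((tateBC (A := A) (l := l) Ω).symm t)
  rw [hφ, LinearMap.zero_apply, map_zero, LinearEquiv.apply_symm_apply] at h
  exact h.symm

/-- Divisibility on Tate modules descends. -/
theorem exists_eq_nsmul_of_tate (hl : (l : k) ≠ 0) (φ : EndAV.Hom A B) (n : ℕ)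
    (u : AbDual.TateMod A l (SGA7.pt (K := k) Ω) →ₗ[ℤ_[l]] AbDual.TateMod B l (SGA7.pt (K := k) Ω))
    (hu : EndAV.Hom.tateMap l (SGA7.pt (K := k) Ω) φ = ((l : ℤ_[l]) ^ n) • u) :
    ∃ ψ : EndAV.Hom A B, φ = (l ^ n) • ψ := by
  obtain ⟨f₁, hf₁⟩ := exists_smul_eq_of_dvd_tate (ne_zero_bc Ω hl) (homBC Ω φ) n fun t => by
    refine ⟨tateBC Ω (u ((tateBC Ω).symm t)), ?_⟩
    conv_lhs => rw [← (tateBC Ω).apply_symm_apply t]
    rw [← tateBC_tateMap, hu, LinearMap.smul_apply, map_smul]
  exact exists_eq_nsmul_of_bc Ω (pow_ne_zero n (Fact.out : l.Prime).ne_zero) φ f₁ hf₁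

theorem linearIndependent_tateMap' (hl : (l : k) ≠ 0) {σ : Type} (a : σ → EndAV.Hom A B)
    (ha : LinearIndependent ℤ a) :
    LinearIndependent ℤ_[l] fun i => EndAV.Hom.tateMap l (SGA7.pt (K := k) Ω) (a i) := by
  have h1 : LinearIndependent ℤ fun i => homBC Ω (a i) :=
    ha.map' (homBC Ω : EndAV.Hom A B →+ _).toIntLinearMap (LinearMap.ker_eq_bot.2 (homBC_injective Ω))
  have h2 := linearIndependent_tateMap (ne_zero_bc Ω hl) _ h1
  refine LinearIndependent.of_comp
    (LinearEquiv.arrowCongr (tateBC (A := A) (l := l) Ω) (tateBC (A := B) (l := l) Ω)).toLinearMap ?_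
  convert h2 using 1
  funext i
  refine LinearMap.ext fun t => ?_
  show tateBC Ω (EndAV.Hom.tateMap l (SGA7.pt (K := k) Ω) (a i) ((tateBC Ω).symm t)) = _
  rw [tateBC_tateMap, LinearEquiv.apply_symm_apply]

end Groth.Agent.AVDeg
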