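import Groth.Agent.AVDeg.Deg
import Groth.Agent.AVAmple.Translate
import Groth.Agent.S7610
import Groth.Agent.TopDim.Basic
import Groth.Agent.Nakai.HodgeNum

/-!
A symmetric class fixed by infinitely many translations has self intersection zero.
-/

set_option autoImplicit false
set_option backward.isDefEq.respectTransparency false
set_option backward.isDefEq.respectTransparency.types false
set_option linter.style.haveILetI false
set_option linter.unusedSectionVars false

universe u

open CategoryTheory CategoryTheory.Limits MonoidalCategory CartesianMonoidalCategory MonObj AlgebraicGeometry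
open TopologicalSpace
open Groth.Agent.Intersect
open Groth.Agent.Nakai (isCoh_one)

noncomputable section

namespace Groth.Agent.AVDeg

attribute [local instance] W7Cube.law
attribute [local instance] overInst

/-- An infinite closed set contains an infinite irreducible closed set of dimension at most one. -/
theorem exists_minimal_infinite {X : Type u} [TopologicalSpace X] [NoetherianSpace X] [QuasiSober X] [JacobsonSpace X]
    {T : Set X} (hT : IsClosed T) (hinf : T.Infinite) :
    ∃ C : Set X, IsClosed C ∧ C ⊆ T ∧ C.Infinite ∧ topologicalKrullDim C ≤ 1 := by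
  obtain ⟨C, ⟨hCT, hCi⟩, hmin⟩ := wellFounded_lt.has_min
    {D : Closeds X | (D : Set X) ⊆ T ∧ (D : Set X).Infinite} ⟨⟨T, hT⟩, subset_rfl, hinf⟩
  refine ⟨C, C.isClosed, hCT, hCi, iSup_le fun l => ?_⟩
  by_contra hl
  have h2 : 2 ≤ l.length := by
    by_contra h
    exact hl (by exact_mod_cast (show l.length ≤ 1 by omega))
  let S : Fin 3 → Set X := fun i => Subtype.val '' ((l ⟨i, by omega⟩ : IrreducibleCloseds (C : Set X)) : Set (C : Set X))
  have hlt : ∀ i j : Fin 3, i < j → S i ⊂ S j := fun i j h =>
    have h' : ((l ⟨i, by omega⟩ : IrreducibleCloseds (C : Set X)) : Set (C : Set X)) ⊂ (l ⟨j, by omega⟩ : IrreducibleCloseds (C : Set X)) :=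
      SetLike.coe_ssubset_coe.2 (l.strictMono (show (⟨i, by omega⟩ : Fin (l.length + 1)) < ⟨j, by omega⟩ from h))
    ⟨Set.image_mono h'.subset, fun hh => h'.not_subset ((Set.image_subset_image_iff Subtype.val_injective).1 hh)⟩
  have hcl : IsClosed (S 1) := C.isClosed.isClosedEmbedding_subtypeVal.isClosedMap _ (l _).isClosed
  have hirr : IsIrreducible (S 1) := (l _).isIrreducible.image _ continuous_subtype_val.continuousOn
  have hsub : S 1 ⊂ (C : Set X) :=
    (hlt 1 2 (by decide)).trans_subset (Subtype.coe_image_subset _ _)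
  have hfin : (S 1).Finite := by
    by_contra hi
    exact hmin ⟨S 1, hcl⟩ ⟨hsub.subset.trans hCT, hi⟩ hsub
  obtain ⟨b, hb⟩ := QuasiSober.sober hirr hcl
  have hclp : IsClosed (S 1 ∩ closedPoints X) := by
    rw [← Set.biUnion_of_singleton (S 1 ∩ closedPoints X)]
    exact (hfin.subset Set.inter_subset_left).isClosed_biUnion fun z hz => hz.2
  have hb' := hb.mem
  rw [← closure_inter_closedPoints hcl, hclp.closure_eq] at hb'
  have hS1 : S 1 = {b} := by rw [← hb.def]; exact hb'.2.closure_eq
  have h0 := hlt 0 1 (by decide)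
  rw [hS1, Set.ssubset_singleton_iff] at h0
  exact (((l _).isIrreducible.nonempty.image Subtype.val : (S 0).Nonempty)).ne_empty h0

variable {k : Type u} [Field k] [IsAlgClosed k] {A : Over (Spec (CommRingCat.of k))} [GrpObj A] [IsCommMonObj A]
  [IsProper A.hom] [GeometricallyIntegral A.hom]

open W7Cube AVAmple in
theorem top_eq_zero_of_degenerate {g : ℕ} (hA : topologicalKrullDim A.left = (g : WithBot ℕ∞))
    (c : PicLoc.PicSet A.left) (hsym : pc c (𝟙 A)⁻¹ = c)
    (hinf : {a : 𝟙_ (Over (Spec (CommRingCat.of k))) ⟶ A | pc c (𝟙 A * (toUnit A ≫ a)) = c}.Infinite) :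
    top k (fun _ : Fin g => c) = 0 := by
  haveI := isIntegral_av A
  haveI := CurveRR.isNoetherian_of_proper k A.left
  haveI : JacobsonSpace A.left := LocallyOfFiniteType.jacobsonSpace A.hom
  obtain ⟨T, hT, hTa⟩ := isClosed_invariant (A := A) c
  have hTinf : T.Infinite := by
    refine Set.infinite_of_injOn_mapsTo (f := fun a : 𝟙_ (Over (Spec (CommRingCat.of k))) ⟶ A =>
      a.left (IsLocalRing.closedPoint k)) point_injective.injOn (fun a ha => (hTa a).2 ha) hinf
  obtain ⟨C, hCc, hCT, hCi, hCd⟩ := exists_minimal_infinite hT hTinf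
  obtain ⟨U, hU, hηU, -⟩ := exists_isAffineOpen_mem_and_subset (x := genericPoint A.left) (U := (⊤ : A.left.Opens)) trivial
  let I := Scheme.IdealSheafData.vanishingIdeal ⟨C, hCc⟩
  let J := Scheme.IdealSheafData.vanishingIdeal ⟨(U : Set A.left)ᶜ, U.isOpen.isClosed_compl⟩
  have hrI : Set.range I.subschemeι = C := by
    rw [Scheme.IdealSheafData.range_subschemeι, Scheme.IdealSheafData.coe_support_vanishingIdeal]
    rfl
  have hrJ : Set.range J.subschemeι = (U : Set A.left)ᶜ := by
    rw [Scheme.IdealSheafData.range_subschemeι, Scheme.IdealSheafData.coe_support_vanishingIdeal]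
    rfl
  haveI : IsReduced I.subscheme := BMCoh.isReduced_vanishingIdeal_subscheme _ _
  let W : Over (Spec (CommRingCat.of k)) := Over.mk (I.subschemeι ≫ A.hom)
  let Y : Over (Spec (CommRingCat.of k)) := Over.mk (J.subschemeι ≫ A.hom)
  let w : W ⟶ A := Over.homMk I.subschemeι
  let y : Y ⟶ A := Over.homMk J.subschemeι
  haveI : IsReduced W.left := inferInstanceAs (IsReduced I.subscheme)
  haveI : IsProper W.hom := inferInstanceAs (IsProper (I.subschemeι ≫ A.hom))
  haveI : IsProper Y.hom := inferInstanceAs (IsProper (J.subschemeι ≫ A.hom))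
  -- rational points
  have hlift : ∀ {V : Over (Spec (CommRingCat.of k))} (j : V ⟶ A) [IsClosedImmersion j.left] [LocallyOfFiniteType V.hom]
      (a : 𝟙_ (Over (Spec (CommRingCat.of k))) ⟶ A), a.left (IsLocalRing.closedPoint k) ∈ Set.range j.left →
      ∃ b : 𝟙_ (Over (Spec (CommRingCat.of k))) ⟶ V, b ≫ j = a := by
    intro V j _ _ a ⟨v, hv⟩
    have hv' : IsClosed ({v} : Set V.left) := by
      have hc : IsClosed ({a.left (IsLocalRing.closedPoint k)} : Set A.left) :=
        (pointEquivClosedPoint A.hom ⟨a.left, Over.w a⟩).2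
      convert hc.preimage j.left.continuous
      ext x
      exact ⟨fun hx => by rw [hx]; exact hv, fun hx => j.left.isClosedEmbedding.injective (hx.trans hv.symm)⟩
    refine ⟨Over.homMk _ ((pointEquivClosedPoint V.hom).symm ⟨v, hv'⟩).2, point_injective ?_⟩
    refine Eq.trans ?_ hv
    show (((pointEquivClosedPoint V.hom).symm ⟨v, hv'⟩).1 ≫ j.left) (IsLocalRing.closedPoint k) = _
    rw [Scheme.Hom.comp_apply]
    exact congrArg (fun p => j.left p.1) ((pointEquivClosedPoint V.hom).apply_symm_apply ⟨v, hv'⟩)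
  haveI : IsClosedImmersion w.left := inferInstanceAs (IsClosedImmersion I.subschemeι)
  haveI : IsClosedImmersion y.left := inferInstanceAs (IsClosedImmersion J.subschemeι)
  -- the class along `C`
  have hadd := additive_of_invariant c w fun v hv => by
    obtain ⟨b, hb⟩ : ∃ b : 𝟙_ (Over (Spec (CommRingCat.of k))) ⟶ W, b.left (IsLocalRing.closedPoint k) = v :=
      ⟨Over.homMk _ ((pointEquivClosedPoint W.hom).symm ⟨v, hv⟩).2,
        congrArg Subtype.val ((pointEquivClosedPoint W.hom).apply_symm_apply ⟨v, hv⟩)⟩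
    refine ⟨b, hb, (hTa (b ≫ w)).1 (hCT ?_)⟩
    rw [← hrI, Over.comp_left, Scheme.Hom.comp_apply, hb]
    exact ⟨v, rfl⟩
  have htor : pc c w * pc c w = 1 := by
    have h := congrArg (pull (lift w (𝟙 W)).left) hadd
    rw [map_mul, pull_pc, pull_pc, pull_pc, MonObj.comp_mul, lift_fst, lift_snd_assoc, Category.id_comp,
      show w * w = w ≫ (𝟙 A ^ 2) by rw [pow_two, MonObj.comp_mul, Category.comp_id], ← pull_pc, pc_pow, hsym,
      map_mul, map_pow, map_pow] at h
    change pc c w ^ (2 * (2 + 1) / 2) * pc c w ^ (2 * (2 - 1) / 2) = pc c w * pc c w at h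
    norm_num at h
    refine mul_right_cancel (b := pc c w * pc c w) ?_
    rw [_root_.one_mul]
    generalize pc c w = q at h ⊢
    rw [show q * q * (q * q) = q ^ 3 * q by simp only [pow_succ, pow_zero, _root_.one_mul, _root_.mul_assoc], h]
  let P := Y ⊗ W
  haveI : IsProper P.hom := inferInstanceAs (IsProper (pullback.fst Y.hom W.hom ≫ Y.hom))
  haveI : IsProper (P.left ↘ Spec (CommRingCat.of k)) := inferInstanceAs (IsProper P.hom)
  let a : P ⟶ A := fst Y W ≫ y
  let mu : P ⟶ A := a * (snd Y W ≫ w)
  have hc : pc (c * c) mu = pc (c * c) a := by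
    have h := congrArg (pull (lift a (snd Y W)).left) hadd
    rw [map_mul, pull_pc, pull_pc, pull_pc, MonObj.comp_mul, lift_fst, lift_snd_assoc] at h
    show pull mu.left (c * c) = pull a.left (c * c)
    rw [map_mul, map_mul]
    change pc c mu * pc c mu = pc c a * pc c a
    rw [h, _root_.mul_mul_mul_comm, ← pull_pc c (snd Y W) w, ← map_mul, htor, map_one, _root_.mul_one]
  -- dimensions
  have hdY : topologicalKrullDim ((U : Set A.left)ᶜ : Set A.left) < (g : WithBot ℕ∞) :=
    dim_proper_lt (X := A.left) (ξ := genericPoint A.left) (by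
      rw [genericPoint_closure]
      exact lt_succ_of_le' ((topologicalKrullDim_subspace_le A.left _).trans hA.le)) U.isOpen.isClosed_compl
      (by rw [genericPoint_closure]; exact Set.subset_univ _) (fun h => h hηU)
  have hdP : topologicalKrullDim P.left ≤ (g : WithBot ℕ∞) := by
    letI : Y.left.Over (Spec (CommRingCat.of k)) := overInst Y
    letI : W.left.Over (Spec (CommRingCat.of k)) := overInst W
    haveI : LocallyOfFiniteType (Y.left ↘ Spec (CommRingCat.of k)) := inferInstanceAs (LocallyOfFiniteType Y.hom)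
    haveI : LocallyOfFiniteType (W.left ↘ Spec (CommRingCat.of k)) := inferInstanceAs (LocallyOfFiniteType W.hom)
    rw [TopDim.dim_eq_iSup_localDim]
    refine iSup_le fun z => ?_
    refine (Groth.Agent.S7610.result k Y.left W.left z).le.trans ?_
    have h1 : topologicalKrullDim Y.left < (g : WithBot ℕ∞) := by
      refine lt_of_le_of_lt (le_of_eq ?_) hdY
      rw [← hrJ]
      exact J.subschemeι.isClosedEmbedding.isEmbedding.toHomeomorph.isHomeomorph.topologicalKrullDim_eq
    have h2 : topologicalKrullDim W.left ≤ 1 := by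
      refine le_trans (le_of_eq ?_) hCd
      rw [← hrI]
      exact I.subschemeι.isClosedEmbedding.isEmbedding.toHomeomorph.isHomeomorph.topologicalKrullDim_eq
    refine le_trans (add_le_add (TopDim.localDim_le_dim _) ((TopDim.localDim_le_dim _).trans h2)) ?_
    generalize topologicalKrullDim Y.left = d at h1 ⊢
    induction d with
    | bot => simp
    | coe d =>
      induction d with
      | top => exact absurd h1 (not_lt.2 (by simp))
      | coe d =>
        have h1' : d < g := by exact_mod_cast h1
        exact_mod_cast h1'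
  -- surjectivity
  haveI := isProper_hom mu
  haveI := isProper_hom a
  have hsurj : ∀ p : 𝟙_ (Over (Spec (CommRingCat.of k))) ⟶ A, p.left (IsLocalRing.closedPoint k) ∈ Set.range mu.left := by
    intro p
    let φ : A ⟶ A := (toUnit A ≫ p) * (𝟙 A)⁻¹
    have hφp : ∀ q : 𝟙_ (Over (Spec (CommRingCat.of k))) ⟶ A, q ≫ φ = p * q⁻¹ := fun q => by
      simp only [φ]
      rw [MonObj.comp_mul, GrpObj.comp_inv, Category.comp_id, comp_toUnit_assoc]
      rw [show toUnit (𝟙_ (Over (Spec (CommRingCat.of k)))) = 𝟙 _ from Subsingleton.elim _ _, Category.id_comp]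
    have hφφ : φ ≫ φ = 𝟙 A := by
      simp only [φ]
      rw [MonObj.comp_mul, GrpObj.comp_inv, Category.comp_id, comp_toUnit_assoc, mul_inv_rev, inv_inv, mul_comm (𝟙 A),
        mul_inv_cancel_left]
    haveI : IsIso φ.left := ⟨φ.left, by rw [← Over.comp_left, hφφ]; rfl, by rw [← Over.comp_left, hφφ]; rfl⟩
    have hnot : ¬ φ.left ⁻¹' C ⊆ (U : Set A.left) := fun h => hCi (by
      have hf := finite_of_subset_affine A _ (hCc.preimage φ.left.continuous) U hU h
      have hs : φ.left '' (φ.left ⁻¹' C) = C := Set.image_preimage_eq C φ.left.homeomorph.surjective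
      rw [← hs]
      exact hf.image _)
    obtain ⟨v₀, hv₀C, hv₀U⟩ := Set.not_subset.1 hnot
    obtain ⟨v, hv, hvc⟩ := nonempty_inter_closedPoints (Z := φ.left ⁻¹' C ∩ (U : Set A.left)ᶜ) ⟨v₀, hv₀C, hv₀U⟩
      ((hCc.preimage φ.left.continuous).inter U.isOpen.isClosed_compl).isLocallyClosed
    obtain ⟨q, rfl⟩ := exists_point (A := A) hvc
    obtain ⟨q', hq'⟩ := hlift y q (show q.left (IsLocalRing.closedPoint k) ∈ Set.range J.subschemeι from hrJ ▸ hv.2)
    obtain ⟨s', hs'⟩ := hlift w (q ≫ φ) (show (q ≫ φ).left (IsLocalRing.closedPoint k) ∈ Set.range I.subschemeι from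
      hrI ▸ (by rw [Over.comp_left, Scheme.Hom.comp_apply]; exact hv.1))
    refine ⟨(lift q' s').left (IsLocalRing.closedPoint k), ?_⟩
    have he : lift q' s' ≫ mu = p := by
      simp only [mu, a]
      rw [MonObj.comp_mul, lift_fst_assoc, lift_snd_assoc, hq', hs', hφp, mul_comm q, inv_mul_cancel_right]
    rw [← Scheme.Hom.comp_apply, ← Over.comp_left, he]
  have hall : Set.range mu.left = Set.univ := by
    refine Set.eq_univ_of_univ_subset ?_
    rw [← closure_closedPoints]
    refine closure_minimal (fun v hv => ?_) mu.left.isClosedMap.isClosed_range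
    obtain ⟨p, rfl⟩ := exists_point (A := A) hv
    exact hsurj p
  -- the numbers
  let E := (Scheme.Modules.pushforward mu.left).obj (Coh.structureModule P.left)
  haveI := CurveRR.isNoetherian_of_proper k P.left
  have hEc : Coh.IsCoh E := isCoh_push' mu.left (isCoh_one k)
  have hη : genericPoint A.left ∈ CohB1.support E := fun hs => by
    obtain ⟨z, hz⟩ := (hall.ge trivial : genericPoint A.left ∈ Set.range mu.left)
    let one : Γ(E, ⊤) := (show Γ(P.left, mu.left ⁻¹ᵁ ⊤) from 1)
    obtain ⟨V, hV, i₁, i₂, hg⟩ := TopCat.Presheaf.germ_eq E.presheaf (genericPoint A.left)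
      (U := ⊤) (V := ⊤) trivial trivial one 0 (@Subsingleton.elim _ hs _ _)
    have hzV : z ∈ mu.left ⁻¹ᵁ V := show mu.left z ∈ V from hz ▸ hV
    haveI : Nonempty (mu.left ⁻¹ᵁ V) := ⟨⟨z, hzV⟩⟩
    have h0 : Groth.Agent.QC.resO P.left ((Opens.map mu.left.base).map i₁).le 1 = 0 := hg.trans (map_zero _)
    exact one_ne_zero ((map_one _).symm.trans h0)
  have hzero : top k (fun _ : Fin g => pc (c * c) mu) = 0 := by
    rw [hc]
    refine top_pull_eq_zero (k := k) a.left (Over.w a) hdP (lt_of_le_of_lt (dim_mono ?_) hdY) fun _ => c * c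
    rw [← hrJ]
    rintro _ ⟨z, rfl⟩
    exact ⟨(fst Y W).left z, (Scheme.Hom.comp_apply (fst Y W).left y.left z).symm⟩
  change top k (fun _ : Fin g => pull mu.left (c * c)) = 0 at hzero
  rw [top_pull_eq (k := k) mu.left (Over.w mu) hdP (fun _ => c * c),
    Nakai.alt_irreducible k hA (fun i => isInvertible_rep _) hEc hη] at hzero
  have hlen : (CurveRR.Multi.lenAt E (genericPoint A.left) : ℚ) ≠ 0 := by
    letI : Field (A.left.presheaf.stalk (genericPoint A.left)) := inferInstanceAs (Field A.left.functionField)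
    haveI := RegDual.finite_stalk hEc (genericPoint A.left)
    haveI : Nontrivial (E.presheaf.stalk (genericPoint A.left)) := not_subsingleton_iff_nontrivial.1 hη
    rw [CurveRR.Multi.lenAt, Module.length_eq_finrank]
    simp [Module.finrank_pos.ne']
  have h2 : top k (fun _ : Fin g => c * c) = 0 := by
    rw [top, Nakai.alt_irreducible k hA (fun i => isInvertible_rep _) (isCoh_one k)
      (by rw [Intersect.support_structure]; trivial)]
    have h3 := (mul_eq_zero.1 hzero).resolve_left (pow_ne_zero _ (neg_ne_zero.2 one_ne_zero))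
    rw [(mul_eq_zero.1 h3).resolve_left hlen, mul_zero, mul_zero]
  have h4 : topLin k hA.le (fun _ : Fin g => (2 : ℤ) • Additive.ofMul c) =
      (2 : ℚ) ^ g * topLin k hA.le (fun _ : Fin g => Additive.ofMul c) := by
    have := (topLin k hA.le).map_smul_univ (fun _ => (2 : ℤ)) (fun _ => Additive.ofMul c)
    simpa [zsmul_eq_mul] using this
  simp only [two_zsmul, topLin_apply, toMul_add, toMul_ofMul] at h4
  rw [h2] at h4
  exact (mul_eq_zero.1 h4.symm).resolve_left (pow_ne_zero _ two_ne_zero)

end Groth.Agent.AVDeg
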