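import Mathlib

/-!
Torsion of divisible abelian groups with finitely many torsion points of each order.
-/

set_option autoImplicit false

namespace Groth.Agent.AVDeg

variable (G : Type*) [AddCommGroup G]

/-- The `n`-torsion. -/
def tors (n : ℕ) : AddSubgroup G := (nsmulAddMonoidHom (α := G) n).ker

variable {G}

theorem mem_tors {n : ℕ} {x : G} : x ∈ tors G n ↔ n • x = 0 := Iff.rfl

instance instModuleTors (n : ℕ) : Module (ZMod n) (tors G n) :=
  AddCommGroup.zmodModule fun y => Subtype.ext (by simpa [mem_tors] using y.2)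

theorem tors_one : tors G 1 = ⊥ := by
  ext x
  simp [mem_tors]

/-- Counting torsion is multiplicative. -/
theorem natCard_tors_mul (a b : ℕ) (hdiv : Function.Surjective fun x : G => a • x) :
    Nat.card (tors G (a * b)) = Nat.card (tors G a) * Nat.card (tors G b) := by
  let f : tors G (a * b) →+ tors G b :=
    ((nsmulAddMonoidHom (α := G) a).comp (tors G (a * b)).subtype).codRestrict _ fun x => by
      show b • (a • (x : G)) = 0
      rw [← mul_smul, mul_comm b a]
      exact x.2
  have hf : Function.Surjective f := fun y => by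
    obtain ⟨x, hx⟩ := hdiv y.1
    refine ⟨⟨x, ?_⟩, Subtype.ext hx⟩
    show (a * b) • x = 0
    rw [mul_comm, mul_smul, show a • x = y.1 from hx]
    exact y.2
  have hk : f.ker ≃ tors G a :=
    { toFun := fun x => ⟨x.1.1, congrArg Subtype.val (x.2 : f x.1 = 0)⟩
      invFun := fun y => ⟨⟨y.1, by
        show (a * b) • y.1 = 0
        rw [mul_comm, mul_smul, show a • y.1 = 0 from y.2, smul_zero]⟩, Subtype.ext y.2⟩
      left_inv := fun _ => rfl
      right_inv := fun _ => rfl }
  rw [AddSubgroup.card_eq_card_quotient_mul_card_addSubgroup f.ker,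
    Nat.card_congr (QuotientAddGroup.quotientKerEquivOfSurjective f hf).toEquiv, Nat.card_congr hk, mul_comm]

variable {r : ℕ}

/-- `x` is a basis of the `n`-torsion, in integral coordinates. -/
def Good (n : ℕ) (x : Fin r → G) : Prop :=
  ∀ c : Fin r → ℤ, ∑ i, c i • x i = 0 ↔ ∀ i, (n : ℤ) ∣ c i

theorem Good.smul_eq_zero {n : ℕ} {x : Fin r → G} (h : Good n x) (i : Fin r) : n • x i = 0 := by
  classical
  have := (h (Pi.single i (n : ℤ))).2 fun j => by
    by_cases hj : j = i
    · subst hj; simp
    · simp [hj]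
  simpa [Pi.single_apply, ite_smul] using this

theorem good_zero_one : Good 1 (0 : Fin r → G) := fun c => by simp

theorem Good.exists_eq {n : ℕ} [NeZero n] {x : Fin r → G} (h : Good n x) (hc : Nat.card (tors G n) = n ^ r)
    (y : G) (hy : n • y = 0) : ∃ c : Fin r → ℤ, ∑ i, c i • x i = y := by
  classical
  let φ : (Fin r → ZMod n) → tors G n := fun c => ⟨∑ i, ((c i).val : ℤ) • x i, by
    rw [mem_tors, Finset.smul_sum]
    refine Finset.sum_eq_zero fun i _ => ?_
    rw [smul_comm, h.smul_eq_zero i, smul_zero]⟩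
  have hinj : Function.Injective φ := fun c d hcd => funext fun i => by
    have h1 : ∑ j, (((c j).val : ℤ) - (d j).val) • x j = 0 := by
      simp only [sub_smul, Finset.sum_sub_distrib]
      exact sub_eq_zero.2 (congrArg Subtype.val hcd)
    have h2 := (ZMod.intCast_eq_intCast_iff_dvd_sub _ _ n).2 (dvd_sub_comm.1 ((h _).1 h1 i))
    push_cast at h2
    simpa [ZMod.natCast_zmod_val] using h2
  haveI : Finite (tors G n) := Nat.finite_of_card_ne_zero (by rw [hc]; exact pow_ne_zero _ (NeZero.ne n))
  have hb := (Nat.bijective_iff_injective_and_card φ).2 ⟨hinj, by rw [hc, Nat.card_pi]; simp⟩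
  obtain ⟨c, hc'⟩ := hb.2 ⟨y, hy⟩
  exact ⟨fun i => (c i).val, congrArg Subtype.val hc'⟩

/-- A basis of the `n`-torsion gives an isomorphism with `(ℤ/n)^r`. -/
theorem Good.nonempty_equiv {n : ℕ} [NeZero n] {x : Fin r → G} (h : Good n x) (hc : Nat.card (tors G n) = n ^ r) :
    Nonempty ((Fin r → ZMod n) ≃+ tors G n) := by
  classical
  let φ := (Pi.basisFun (ZMod n) (Fin r)).constr ℕ fun i => (⟨x i, h.smul_eq_zero i⟩ : tors G n)
  have hφ : ∀ c : Fin r → ℤ, (φ (fun i => (c i : ZMod n)) : G) = ∑ i, c i • x i := fun c => by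
    simp only [φ, Module.Basis.constr_apply_fintype, Pi.basisFun_equivFun, LinearEquiv.refl_apply]
    rw [AddSubgroup.val_finsetSum]
    refine Finset.sum_congr rfl fun i _ => ?_
    rw [Int.cast_smul_eq_zsmul]
    rfl
  refine ⟨AddEquiv.ofBijective φ.toAddMonoidHom ⟨(injective_iff_map_eq_zero _).2 fun c hc0 => ?_, fun y => ?_⟩⟩
  · funext i
    have h1 : ∑ j, ((c j).val : ℤ) • x j = 0 := by
      rw [← hφ, show (fun j => (((c j).val : ℤ) : ZMod n)) = c by funext j; simp [ZMod.natCast_zmod_val]]
      exact congrArg Subtype.val hc0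
    have h2 := (ZMod.intCast_zmod_eq_zero_iff_dvd _ n).2 ((h _).1 h1 i)
    simpa [ZMod.natCast_zmod_val] using h2
  · obtain ⟨c, hc'⟩ := h.exists_eq hc y.1 y.2
    exact ⟨fun i => (c i : ZMod n), Subtype.ext ((hφ c).trans hc')⟩

/-- A basis of the `p`-torsion. -/
theorem exists_good_prime {p : ℕ} [Fact p.Prime] (hc : Nat.card (tors G p) = p ^ r) :
    ∃ x : Fin r → G, Good p x := by
  classical
  haveI : Finite (tors G p) := Nat.finite_of_card_ne_zero (by rw [hc]; exact pow_ne_zero _ (NeZero.ne p))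
  haveI : Module.Finite (ZMod p) (tors G p) := Module.Finite.of_finite
  have hr : Module.finrank (ZMod p) (tors G p) = r := by
    have h1 := Module.natCard_eq_pow_finrank (K := ZMod p) (V := tors G p)
    rw [hc, Nat.card_zmod] at h1
    exact (Nat.pow_right_injective (Fact.out : p.Prime).two_le h1).symm
  let b := Module.finBasisOfFinrankEq (ZMod p) (tors G p) hr
  refine ⟨fun i => (b i : G), fun c => ?_⟩
  have hs : (∑ i, c i • (b i : G)) = ((∑ i, (c i : ZMod p) • b i : tors G p) : G) := by
    rw [AddSubgroup.val_finsetSum]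
    refine Finset.sum_congr rfl fun i _ => ?_
    rw [Int.cast_smul_eq_zsmul]
    rfl
  rw [hs, ZeroMemClass.coe_eq_zero]
  refine ⟨fun h0 i => (ZMod.intCast_zmod_eq_zero_iff_dvd _ p).1 (Fintype.linearIndependent_iff.1 b.linearIndependent _ h0 i),
    fun h => Finset.sum_eq_zero fun i _ => ?_⟩
  rw [(ZMod.intCast_zmod_eq_zero_iff_dvd _ p).2 (h i), zero_smul]

/-- Lifting along multiplication by `p`. -/
theorem Good.lift {p : ℕ} (hp : p.Prime) {e : ℕ} {x y : Fin r → G} (h : Good (p ^ (e + 1)) x)
    (hy : ∀ i, p • y i = x i) : Good (p ^ (e + 2)) y := by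
  have hm : ∀ c : Fin r → ℤ, p • (∑ i, c i • y i) = ∑ i, c i • x i := fun c => by
    rw [Finset.smul_sum]
    exact Finset.sum_congr rfl fun i _ => by rw [smul_comm, hy]
  have hpow : ((p ^ (e + 2) : ℕ) : ℤ) = (p : ℤ) ^ (e + 1) * p := by push_cast; ring
  intro c
  refine ⟨fun h0 i => ?_, fun hd => ?_⟩
  · have h1 : ∀ i, ((p ^ (e + 1) : ℕ) : ℤ) ∣ c i := (h c).1 (by rw [← hm, h0, smul_zero])
    choose d hd using h1
    have h2 : ∑ i, ((p : ℤ) ^ e * d i) • x i = 0 := by
      rw [← hm, ← h0, Finset.smul_sum]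
      refine Finset.sum_congr rfl fun i _ => ?_
      rw [hd i, ← natCast_zsmul, smul_smul]
      push_cast
      congr 1
      ring
    have h3 := (h _).1 h2 i
    push_cast at h3
    rw [pow_succ] at h3
    rw [hd i, hpow]
    push_cast
    exact mul_dvd_mul_left _ (Int.dvd_of_mul_dvd_mul_left (pow_ne_zero e (by exact_mod_cast hp.ne_zero)) h3)
  · refine Finset.sum_eq_zero fun i _ => ?_
    obtain ⟨d, hd⟩ := hd i
    rw [hd, mul_comm, mul_smul, natCast_zsmul, show p ^ (e + 2) = p ^ (e + 1) * p from pow_succ _ _, mul_smul, hy,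
      h.smul_eq_zero i, smul_zero]

/-- A compatible system of bases of the `p`-power torsion. -/
theorem exists_good_seq {p : ℕ} [Fact p.Prime] (hdiv : Function.Surjective fun x : G => p • x)
    (hc : Nat.card (tors G p) = p ^ r) :
    ∃ x : ℕ → Fin r → G, (∀ e i, p • x (e + 1) i = x e i) ∧ ∀ e, Good (p ^ e) (x e) := by
  obtain ⟨b, hb⟩ := exists_good_prime hc
  let x : ℕ → Fin r → G := fun e =>
    Nat.rec (0 : Fin r → G) (fun e z i => if e = 0 then b i else (hdiv (z i)).choose) e
  have h1 : x 1 = b := funext fun i => by simp [x]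
  have hs : ∀ e i, p • x (e + 2) i = x (e + 1) i := fun e i => (hdiv (x (e + 1) i)).choose_spec
  refine ⟨x, fun e i => ?_, fun e => ?_⟩
  · cases e with
    | zero => rw [zero_add, h1]; exact hb.smul_eq_zero i
    | succ e => exact hs e i
  · match e with
    | 0 => rw [pow_zero]; exact good_zero_one
    | e + 1 =>
      induction e with
      | zero => rw [zero_add, h1, pow_one]; exact hb
      | succ e ih => exact ih.lift Fact.out (hs e)

theorem Good.add {a b : ℕ} (hab : Nat.Coprime a b) {x y : Fin r → G} (hx : Good a x) (hy : Good b y) :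
    Good (a * b) (x + y) := by
  intro c
  simp only [Pi.add_apply, smul_add, Finset.sum_add_distrib]
  refine ⟨fun h0 i => ?_, fun h => ?_⟩
  · set u := ∑ i, c i • x i
    set v := ∑ i, c i • y i
    have ha : (a : ℤ) • u = 0 := by
      rw [Finset.smul_sum]
      exact Finset.sum_eq_zero fun i _ => by rw [smul_comm, natCast_zsmul, hx.smul_eq_zero, smul_zero]
    have hb : (b : ℤ) • u = 0 := by
      rw [eq_neg_of_add_eq_zero_left h0, smul_neg, Finset.smul_sum, Finset.sum_eq_zero, neg_zero]
      exact fun i _ => by rw [smul_comm, natCast_zsmul, hy.smul_eq_zero, smul_zero]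
    obtain ⟨s, t, hst⟩ := Int.isCoprime_iff_gcd_eq_one.2 (show Int.gcd a b = 1 by rwa [Int.gcd_natCast_natCast])
    have hu : u = 0 := by rw [← one_smul ℤ u, ← hst, add_smul, mul_smul, mul_smul, ha, hb, smul_zero, smul_zero, add_zero]
    rw [hu, zero_add] at h0
    push_cast
    exact (Int.isCoprime_iff_gcd_eq_one.2 (show Int.gcd a b = 1 by rwa [Int.gcd_natCast_natCast])).mul_dvd
      ((hx c).1 hu i) ((hy c).1 h0 i)
  · push_cast at h
    rw [(hx c).2 fun i => (dvd_mul_right _ _).trans (h i), (hy c).2 fun i => (dvd_mul_left _ _).trans (h i), add_zero]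

/-- A basis of the `n`-torsion. -/
theorem exists_good (hdiv : ∀ p : ℕ, p.Prime → Function.Surjective fun x : G => p • x) (n : ℕ) (hn : 0 < n)
    (hc : ∀ m, m ∣ n → Nat.card (tors G m) = m ^ r) : ∃ x : Fin r → G, Good n x := by
  induction n using Nat.recOnPrimeCoprime with
  | zero => omega
  | prime_pow p e hp =>
    haveI := Fact.mk hp
    cases e with
    | zero => exact ⟨0, by rw [pow_zero]; exact good_zero_one⟩
    | succ e =>
      obtain ⟨x, -, hx⟩ := exists_good_seq (hdiv p hp) (hc p (dvd_pow_self p e.succ_ne_zero))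
      exact ⟨x (e + 1), hx _⟩
  | coprime a b ha hb hab iha ihb =>
    obtain ⟨x, hx⟩ := iha (by omega) fun m hm => hc m (hm.trans (dvd_mul_right _ _))
    obtain ⟨y, hy⟩ := ihb (by omega) fun m hm => hc m (hm.trans (dvd_mul_left _ _))
    exact ⟨x + y, hx.add hab hy⟩

end Groth.Agent.AVDeg
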