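import Groth.Agent.AVDeg.RR
import Groth.Agent.AVDeg.Degenerate
import Groth.Agent.Unibranch.FibreDims

/-!
The Euler characteristic of a degenerate invertible module vanishes.
-/

set_option autoImplicit false
set_option backward.isDefEq.respectTransparency false
set_option backward.isDefEq.respectTransparency.types false
set_option linter.style.haveILetI false
set_option linter.unusedSectionVars false

universe u

open CategoryTheory CategoryTheory.Limits MonoidalCategory CartesianMonoidalCategory MonObj AlgebraicGeometry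
open TopologicalSpace

noncomputable section

namespace Groth.Agent.AVDeg

attribute [local instance] W7Cube.law
attribute [local instance] overInst

variable {k : Type u} [Field k] {A : Over (Spec (CommRingCat.of k))}

theorem exists_dim (A : Over (Spec (CommRingCat.of k))) [IsProper A.hom] [Nonempty A.left] :
    ∃ g : ℕ, topologicalKrullDim A.left = (g : WithBot ℕ∞) := by
  let pt : Spec (CommRingCat.of k) := IsLocalRing.closedPoint k
  have hr : Set.range (A.hom.fiberι pt) = Set.univ := by
    rw [A.hom.range_fiberι]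
    exact Set.eq_univ_of_forall fun x => Subsingleton.elim (α := PrimeSpectrum k) _ _
  have hs : Function.Surjective (A.hom.fiberι pt) := Set.range_eq_univ.1 hr
  haveI : Nonempty (A.hom.fiber pt) := let ⟨x⟩ := ‹Nonempty A.left›; ⟨(hs x).choose⟩
  obtain h | ⟨n, hn⟩ := Unibranch.exists_natCast_dim_fiber A.hom pt
  · exact h.elim (Classical.arbitrary _)
  · refine ⟨n, ?_⟩
    rw [← hn]
    exact ((A.hom.fiberι pt).isEmbedding.toHomeomorphOfSurjective hs).isHomeomorph.topologicalKrullDim_eq.symm

variable [GrpObj A] [IsProper A.hom] [GeometricallyIntegral A.hom] [IsAlgClosed k] [IsCommMonObj A]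

open W7Cube in
theorem euler_eq_zero_of_degenerate {L : A.left.Modules} (hL : PicF.IsInvertible L)
    (hinf : {a : 𝟙_ (Over (Spec (CommRingCat.of k))) ⟶ A |
      pc (PicGrp.cls L hL) (𝟙 A * (toUnit A ≫ a)) = PicGrp.cls L hL}.Infinite) :
    Curv2.euler k A.left L = 0 := by
  haveI : Nonempty A.left := ⟨η[A].left (IsLocalRing.closedPoint k)⟩
  obtain ⟨g, hg⟩ := exists_dim A
  set l := PicGrp.cls L hL with hl
  have htop := top_eq_zero_of_degenerate hg (l * pc l (𝟙 A)⁻¹) ?_ (hinf.mono fun a ha => ?_)
  · have h := euler_eq_top hg l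
    rw [htop] at h
    obtain ⟨i⟩ := nonempty_rep_iso hL
    rw [hl, CurveRR.euler_eq_of_iso i] at h
    exact_mod_cast (mul_eq_zero.1 h).resolve_right (mul_ne_zero (pow_ne_zero _ two_ne_zero)
      (Nat.cast_ne_zero.2 g.factorial_ne_zero))
  · show pull (𝟙 A)⁻¹.left (l * pc l (𝟙 A)⁻¹) = _
    rw [map_mul, pull_pc, GrpObj.comp_inv, Category.comp_id, inv_inv, pc_id, mul_comm]
    rfl
  · have ha' : pc l (𝟙 A * (toUnit A ≫ a)) = l := ha
    have hb : pc l (𝟙 A * (toUnit A ≫ a⁻¹)) = l := by
      have h := AVAmple.translate_mul l a a⁻¹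
      rw [ha'] at h
      refine h.trans ?_
      rw [inv_mul_cancel, MonObj.comp_one, _root_.mul_one, pc_id]
    show pull (𝟙 A * (toUnit A ≫ a)).left (l * pc l (𝟙 A)⁻¹) = l * pc l (𝟙 A)⁻¹
    rw [map_mul, pull_pc]
    refine congrArg₂ (· * ·) ha' ?_
    conv_rhs => rw [← hb]
    show _ = pull (𝟙 A)⁻¹.left (pc l _)
    rw [pull_pc]
    congr 1
    simp only [MonObj.comp_mul, GrpObj.comp_inv, Category.comp_id, comp_toUnit_assoc, inv_inv, mul_inv_rev]
    exact mul_comm _ _

end Groth.Agent.AVDeg
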