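import Groth.Agent.AVDeg.Pow
import Groth.Agent.S7795
import Groth.Agent.ClosedRep.GeomIntegral
import Groth.Agent.FibCrit.Props
import Groth.Agent.GrpField.FibreHom
import Groth.Agent.Rigid.Lemma
import Groth.Agent.Rigid.Over

/-!
Multiplication by `n` on abelian schemes.
-/

set_option autoImplicit false
set_option backward.isDefEq.respectTransparency false
set_option linter.style.haveILetI false
set_option linter.unusedSectionVars false

universe u

open CategoryTheory CategoryTheory.Limits MonoidalCategory CartesianMonoidalCategory MonObj AlgebraicGeometry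
open TopologicalSpace

noncomputable section

namespace Groth.Agent.AVDeg

attribute [local instance] overInst
set_option synthInstance.maxHeartbeats 400000

theorem isFinite_zpow_id {k : Type u} [Field k] {A : Over (Spec (CommRingCat.of k))} [GrpObj A] [IsProper A.hom]
    [GeometricallyIntegral A.hom] [IsCommMonObj A] {g : ℕ} (hA : topologicalKrullDim A.left = (g : WithBot ℕ∞))
    {n : ℤ} (hn : n ≠ 0) : IsFinite (𝟙 A ^ n).left := by
  haveI := isMonHom_zpow (𝟙 A) n
  by_contra hf
  have h := deg_zpow_id hA n
  rw [deg_eq_zero_of_not_isFinite hf] at h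
  exact pow_ne_zero _ (Int.cast_ne_zero.2 hn) h.symm

open scoped CategoryTheory.Obj in
/-- Multiplication by a nonzero integer is an isogeny of degree `n ^ (2 g)`. -/
theorem isogeny_zpow {S : Scheme.{u}} (X : Over S) [GrpObj X] [IsProper X.hom] [Flat X.hom]
    [LocallyOfFinitePresentation X.hom] [GeometricallyReduced X.hom] [GeometricallyConnected X.hom]
    (g : S → ℕ) (hg : ∀ s : S, topologicalKrullDim ↥(X.hom.fiber s) = g s) (n : ℤ) (hn : n ≠ 0) :
    IsFinite (𝟙 X ^ n).left ∧ Flat (𝟙 X ^ n).left ∧ Surjective (𝟙 X ^ n).left ∧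
      ∀ s : S, Scheme.Hom.finrank (𝟙 X ^ n).left (η[X].left s) = n.natAbs ^ (2 * g s) := by
  haveI : Smooth X.hom := Groth.Agent.S7795.result X
  haveI : GeometricallyIntegral X.hom := ClosedRep.GeomIntegral.geometricallyIntegral_of_smooth X.hom
  let f := 𝟙 X ^ n
  have key : ∀ s : S, IsFinite (GrpField.fibHom f s).left ∧ Flat (GrpField.fibHom f s).left ∧
      Surjective (GrpField.fibHom f s).left ∧
      ∀ w, (GrpField.fibHom f s).left.finrank w = n.natAbs ^ (2 * g s) := fun s => by
    let Xs := GrpField.fib X s
    letI : GrpObj Xs := GrpField.fibGrp X s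
    haveI : IsProper Xs.hom := inferInstanceAs (IsProper (pullback.snd X.hom (S.fromSpecResidueField s)))
    haveI : GeometricallyIntegral Xs.hom :=
      MorphismProperty.pullback_snd (P := @GeometricallyIntegral) _ _ ‹_›
    haveI : IsCommMonObj Xs := isCommMonObj_of_isProper_of_geometricallyIntegral Xs
    have hdim : topologicalKrullDim Xs.left = (g s : WithBot ℕ∞) := hg s
    haveI := isIntegral_av Xs
    have hmap : GrpField.fibHom f s = 𝟙 Xs ^ n := by
      refine (map_zpow (Over.pullback (S.fromSpecResidueField s)).homMonoidHom (𝟙 X) n).trans ?_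
      exact congrArg (fun f => f ^ n) ((Over.pullback (S.fromSpecResidueField s)).map_id X)
    rw [hmap]
    haveI := isMonHom_zpow (𝟙 Xs) n
    haveI hfin := isFinite_zpow_id hdim hn
    haveI : Surjective (𝟙 Xs ^ n).left := GrpField.surjective_of_isFinite _ rfl
    refine ⟨hfin, GrpField.flat_of_surjective _, inferInstance, fun w => ?_⟩
    have h : (deg (𝟙 Xs ^ n) : ℚ) = ((n.natAbs ^ (2 * g s) : ℕ) : ℚ) := by
      rw [deg_zpow_id hdim, pow_mul, pow_mul, Nat.cast_pow, Nat.cast_pow, Nat.cast_natAbs, Int.cast_abs, sq_abs]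
    rw [finrank_eq_deg hdim _ hfin]
    exact_mod_cast h
  haveI : IsProper (f.left ≫ X.hom) := by rw [Over.w f]; infer_instance
  haveI : IsProper f.left := IsProper.of_comp _ X.hom
  haveI : LocallyQuasiFinite f.left := (GrpField.locallyQuasiFinite_iff_fibHom f).2 fun s => by
    haveI := (key s).1
    infer_instance
  haveI : IsFinite f.left := IsFinite.of_isProper_of_locallyQuasiFinite _
  obtain ⟨-, hflat, -⟩ := FibCrit.flat_of_fibres (f := f.left) (g := X.hom) (h := X.hom) (Over.w f) fun s =>
    (MorphismProperty.cancel_left_of_respectsIso @Flat (GrpField.isPullback_fibHom f s).isoPullback.hom _).1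
      (by erw [IsPullback.isoPullback_hom_snd]; exact (key s).2.1)
  refine ⟨inferInstance, hflat, (GrpField.surjective_iff_fibHom f).2 fun s => (key s).2.2.1, fun s => ?_⟩
  obtain ⟨w, hw⟩ : η[X].left s ∈ Set.range (pullback.fst X.hom (S.fromSpecResidueField s)) := by
    rw [Scheme.Pullback.range_fst, Scheme.range_fromSpecResidueField, Set.mem_preimage, Set.mem_singleton_iff,
      ← Scheme.Hom.comp_apply, Over.w η[X]]
    rfl
  haveI := hflat
  have h := Scheme.Hom.finrank_of_isPullback _ _ f.left _ (GrpField.isPullback_fibHom f s) w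
  rw [(key s).2.2.2 w] at h
  erw [hw] at h
  exact h.symm

end Groth.Agent.AVDeg
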