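import Groth.Agent.AVDeg.SubAV
import Groth.Agent.LimDesc.DescendQF
import Groth.Agent.Rigid.DimDrop

/-!
Finiteness of homomorphisms, torsion in kernels, density of torsion.
-/

set_option autoImplicit false
set_option backward.isDefEq.respectTransparency false
set_option linter.style.haveILetI false
set_option linter.unusedSectionVars false

universe u

open CategoryTheory CategoryTheory.Limits MonoidalCategory CartesianMonoidalCategory MonObj AlgebraicGeometry
open TopologicalSpace
open Groth.Agent.GrpField.RatClosure (pt)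

noncomputable section

namespace Groth.Agent.AVDeg

attribute [local instance] overInst

variable {k : Type u} [Field k] [IsAlgClosed k] {A B : Over (Spec (CommRingCat.of k))}
variable [GrpObj A] [IsProper A.hom] [GeometricallyIntegral A.hom] [IsCommMonObj A]

theorem exists_point' {X : Over (Spec (CommRingCat.of k))} [LocallyOfFiniteType X.hom] {x : X.left}
    (hx : x ∈ closedPoints X.left) : ∃ a : one' k ⟶ X, pt a = x := by
  let p := (pointEquivClosedPoint X.hom).symm ⟨x, hx⟩
  exact ⟨Over.homMk p.1 p.2, congrArg Subtype.val ((pointEquivClosedPoint X.hom).apply_symm_apply ⟨x, hx⟩)⟩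

theorem pt_mem_closedPoints {X : Over (Spec (CommRingCat.of k))} [LocallyOfFiniteType X.hom] (a : one' k ⟶ X) :
    pt a ∈ closedPoints X.left :=
  (pointEquivClosedPoint X.hom ⟨a.left, point_comp_hom a⟩).2

/-- The kernel on points. -/
def kerPts [GrpObj B] (φ : A ⟶ B) [IsMonHom φ] : Subgroup (one' k ⟶ A) where
  carrier := {a | a ≫ φ = 1}
  one_mem' := MonObj.one_comp φ
  mul_mem' {a b} ha hb := by
    show (a * b) ≫ φ = 1
    rw [MonObj.mul_comp, show a ≫ φ = 1 from ha, show b ≫ φ = 1 from hb, _root_.mul_one]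
  inv_mem' {a} ha := by
    show a⁻¹ ≫ φ = 1
    rw [GrpObj.inv_comp, show a ≫ φ = 1 from ha, inv_one]

theorem isFinite_of_finite_kerPts [GrpObj B] [IsProper B.hom] (φ : A ⟶ B) [IsMonHom φ]
    (h : (kerPts φ : Set (one' k ⟶ A)).Finite) : IsFinite φ.left := by
  haveI := isProper_hom φ
  haveI : JacobsonSpace A.left := LocallyOfFiniteType.jacobsonSpace A.hom
  haveI := CurveRR.isNoetherian_of_proper k A.left
  haveI : LocallyQuasiFinite φ.left := by
    refine LimDesc.locallyQuasiFinite_of_forall_quasiFiniteAt φ.left fun x => ?_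
    suffices htop : (φ.left.quasiFiniteLocus : Set A.left) = Set.univ from htop.ge trivial
    by_contra hne
    obtain ⟨y, hy, hyc⟩ := nonempty_inter_closedPoints (Z := (φ.left.quasiFiniteLocus : Set A.left)ᶜ)
      (Set.nonempty_compl.2 hne) φ.left.quasiFiniteLocus.isOpen.isClosed_compl.isLocallyClosed
    refine hy (Rigid.quasiFiniteAt_of_fiber_dim φ.left y ?_)
    obtain ⟨a, ha⟩ := exists_point' hyc
    -- the closed points of the fibre are translates of the kernel
    have hZc : IsClosed ({φ.left y} : Set B.left) := by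
      rw [← ha]
      have := pt_mem_closedPoints (a ≫ φ)
      exact this
    have hsub : φ.left ⁻¹' {φ.left y} ∩ closedPoints A.left ⊆
        (fun c => pt (a * c)) '' (kerPts φ : Set (one' k ⟶ A)) := by
      rintro z ⟨hz, hzc⟩
      obtain ⟨b, rfl⟩ := exists_point' hzc
      refine ⟨a⁻¹ * b, ?_, by simp only [mul_inv_cancel_left]⟩
      have hab : b ≫ φ = a ≫ φ := point_ext (by
        have hz' : φ.left (pt b) = φ.left y := hz
        rw [← ha] at hz'
        exact hz')
      show (a⁻¹ * b) ≫ φ = 1
      rw [MonObj.mul_comp, GrpObj.inv_comp, hab, inv_mul_cancel]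
    have hfinc : (φ.left ⁻¹' {φ.left y} ∩ closedPoints A.left).Finite := (h.image _).subset hsub
    have hcl : IsClosed (φ.left ⁻¹' {φ.left y} ∩ closedPoints A.left) := by
      rw [← Set.biUnion_of_singleton (φ.left ⁻¹' {φ.left y} ∩ closedPoints A.left)]
      exact hfinc.isClosed_biUnion fun z hz => hz.2
    have heq : φ.left ⁻¹' {φ.left y} = φ.left ⁻¹' {φ.left y} ∩ closedPoints A.left := by
      conv_lhs => rw [← closure_inter_closedPoints (hZc.preimage φ.left.continuous)]
      exact hcl.closure_eq
    haveI : Finite (φ.left ⁻¹' {φ.left y} : Set A.left) := (heq ▸ hfinc : (φ.left ⁻¹' {φ.left y}).Finite).to_subtype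
    haveI : T1Space (φ.left ⁻¹' {φ.left y} : Set A.left) := ⟨fun w => by
      have : IsClosed ({w.1} : Set A.left) := (heq.le w.2).2
      have h2 := this.preimage (continuous_subtype_val (p := fun z => z ∈ φ.left ⁻¹' {φ.left y}))
      convert h2
      ext v
      simp [Subtype.ext_iff]⟩
    haveI : DiscreteTopology (φ.left ⁻¹' {φ.left y} : Set A.left) := inferInstance
    rw [(φ.left.fiberHomeo (φ.left y)).isHomeomorph.topologicalKrullDim_eq]
    exact topologicalKrullDim_zero_of_discreteTopology _
  exact IsFinite.of_isProper_of_locallyQuasiFinite _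

theorem finite_kerPts_of_isFinite [GrpObj B] [LocallyOfFiniteType B.hom] (φ : A ⟶ B) [IsMonHom φ] [IsFinite φ.left] :
    (kerPts φ : Set (one' k ⟶ A)).Finite := by
  have h1 : (pt '' (kerPts φ : Set (one' k ⟶ A))).Finite := by
    refine (φ.left.finite_preimage_singleton (pt (1 : one' k ⟶ B))).subset ?_
    rintro _ ⟨a, ha, rfl⟩
    show φ.left (pt a) = _
    rw [← show a ≫ φ = 1 from ha, ← Scheme.Hom.comp_apply, ← Over.comp_left]
  exact h1.of_finite_image fun a _ b _ hab => point_ext hab

variable [GrpObj B] [IsCommMonObj B] {l : ℕ} [Fact l.Prime]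

/-- Finite homomorphisms act injectively on Tate modules. -/
theorem injective_tate_of_isFinite [LocallyOfFiniteType B.hom] (φ : A ⟶ B) [IsMonHom φ] [IsFinite φ.left] :
    Function.Injective (AbDual.tateMapₗ (l := l) (T := one' k) φ) := by
  refine (injective_iff_map_eq_zero _).2 fun t ht => AbDual.TateMod.ext fun n => ?_
  haveI : Finite (kerPts φ) := (finite_kerPts_of_isFinite φ).to_subtype
  have hmem : ∀ m, Additive.toMul ((t : ℕ → Additive (one' k ⟶ A)) m) ∈ kerPts φ := fun m =>
    congrArg Additive.toMul (congrArg (fun s : AbDual.TateMod B l (one' k) => (s : ℕ → Additive (one' k ⟶ B)) m) ht)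
  -- the components of `t` repeat
  obtain ⟨i, j, hij, he⟩ := Finite.exists_ne_map_eq_of_infinite
    (fun m : ℕ => (⟨_, hmem (n + m)⟩ : kerPts φ))
  wlog h : i < j generalizing i j
  · exact this j i hij.symm he.symm (by omega)
  have he' : (t : ℕ → Additive (one' k ⟶ A)) (n + i) = (t : ℕ → Additive (one' k ⟶ A)) (n + j) :=
    congrArg (fun z : kerPts φ => Additive.ofMul z.1) he
  have hstep : ∀ m d, (l ^ d) • (t : ℕ → Additive (one' k ⟶ A)) (m + d) = (t : ℕ → Additive (one' k ⟶ A)) m := by
    intro m d
    induction d with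
    | zero => rw [pow_zero, one_smul, add_zero]
    | succ d ih => rw [pow_succ, mul_smul, ← add_assoc, t.compat, ih]
  -- so the component is divisible by a high power by itself
  have h1 : ∀ q : ℕ, (l ^ (q * (j - i))) • (t : ℕ → Additive (one' k ⟶ A)) (n + i) =
      (t : ℕ → Additive (one' k ⟶ A)) (n + i) := by
    have hb : (l ^ (j - i)) • (t : ℕ → Additive (one' k ⟶ A)) (n + i) = (t : ℕ → Additive (one' k ⟶ A)) (n + i) := by
      conv_lhs => rw [he', show n + j = (n + i) + (j - i) by omega]
      exact hstep _ _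
    intro q
    induction q with
    | zero => rw [zero_mul, pow_zero, one_smul]
    | succ q ih => rw [add_mul, _root_.one_mul, pow_add, mul_smul, hb, ih]
  have h2 : (t : ℕ → Additive (one' k ⟶ A)) (n + i) = 0 := by
    rw [← h1 (n + i), show (n + i) * (j - i) = (n + i) + (n + i) * (j - i - 1) by
      obtain ⟨d, hd⟩ : ∃ d, j - i = d + 1 := ⟨j - i - 1, by omega⟩
      rw [hd, Nat.add_sub_cancel, Nat.mul_succ, Nat.add_comm], pow_add, mul_comm, mul_smul, t.torsion, smul_zero]
  rw [← hstep n i, h2, smul_zero]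
  rfl

/-- Homomorphisms injective on Tate modules are finite. -/
theorem isFinite_of_injective_tate [IsProper B.hom] (hl : (l : k) ≠ 0) (φ : A ⟶ B) [IsMonHom φ]
    (hinj : Function.Injective (AbDual.tateMapₗ (l := l) (T := one' k) φ)) : IsFinite φ.left := by
  refine isFinite_of_finite_kerPts φ ?_
  obtain ⟨G, hG, j, hj, F, hGp, hGi, hjc, hF, hcov, hcl⟩ := exists_subAV (kerPts φ)
  haveI : IsCommMonObj G := isCommMonObj_of_isProper_of_geometricallyIntegral G
  haveI : Mono j := (Over.forget _).mono_of_mono_map (inferInstanceAs (Mono j.left))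
  have hjφ : ∀ p : one' k ⟶ G, p ≫ j ≫ φ = 1 := fun p => by
    have hsub : closure (pt '' (kerPts φ : Set (one' k ⟶ A))) ⊆ φ.left ⁻¹' {pt (1 : one' k ⟶ B)} := by
      refine closure_minimal ?_ ((pt_mem_closedPoints (1 : one' k ⟶ B) :
        IsClosed ({pt (1 : one' k ⟶ B)} : Set B.left)).preimage φ.left.continuous)
      rintro _ ⟨a, ha, rfl⟩
      show φ.left (pt a) = _
      rw [← show a ≫ φ = 1 from ha, ← Scheme.Hom.comp_apply, ← Over.comp_left]
    exact point_ext (by
      have := hsub (hcl ⟨pt p, rfl⟩)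
      simpa [pt, Over.comp_left] using this)
  suffices hsub : ∀ p : one' k ⟶ G, p = 1 by
    refine hF.subset fun a ha => ?_
    obtain ⟨f, hf, p, rfl⟩ := hcov a ha
    rwa [hsub p, MonObj.one_comp, _root_.mul_one]
  intro p
  haveI := isIntegral_av G
  haveI : Nonempty G.left := ⟨η[G].left (IsLocalRing.closedPoint k)⟩
  obtain ⟨d, hd⟩ := exists_dim G
  rcases d with _ | d
  · refine point_ext ?_
    have key : ∀ c : one' k ⟶ G, pt c = genericPoint G.left := fun c => by
      by_contra hne
      have h1 : ((1 : ℕ) : WithBot ℕ∞) ≤ topologicalKrullDim (Set.univ : Set G.left) :=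
        Intersect.le_dim_closed_of_chain isClosed_univ ![pt c, genericPoint G.left]
          (fun i => trivial)
          (fun i j hij => by
            fin_cases i <;> fin_cases j <;> simp at hij
            exact ⟨genericPoint_specializes _, hne⟩)
      have h12 := h1.trans ((topologicalKrullDim_subspace_le G.left Set.univ).trans hd.le)
      norm_cast at h12
    exact (key p).trans (key 1).symm
  · exfalso
    obtain ⟨x, b, -, hg, hb⟩ := exists_tate_basis_av hd hl
    have hne := b.ne_zero ⟨0, by omega⟩
    refine hne ?_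
    have hz : AbDual.tateMapₗ (l := l) (T := one' k) φ (AbDual.tateMapₗ (l := l) (T := one' k) j (b ⟨0, by omega⟩)) = 0 :=
      AbDual.TateMod.ext fun n => congrArg Additive.ofMul ((Category.assoc _ _ _).trans (hjφ _))
    have h0 := hinj (hz.trans (map_zero _).symm)
    refine AbDual.TateMod.ext fun n => congrArg Additive.ofMul ((cancel_mono j).1 ?_ : _ = (1 : one' k ⟶ G))
    rw [MonObj.one_comp]
    exact congrArg (fun s : AbDual.TateMod A l (one' k) => Additive.toMul ((s : ℕ → Additive (one' k ⟶ A)) n)) h0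

/-- Prime power torsion is dense. -/
theorem dense_torsion (hl : (l : k) ≠ 0) :
    Dense (pt '' {a : one' k ⟶ A | ∃ n : ℕ, a ^ (l ^ n) = 1}) := by
  classical
  let S : Subgroup (one' k ⟶ A) :=
    { carrier := {a | ∃ n : ℕ, a ^ (l ^ n) = 1}
      one_mem' := ⟨0, one_pow _⟩
      mul_mem' := by
        rintro a b ⟨m, hm⟩ ⟨n, hn⟩
        exact ⟨m + n, by rw [mul_pow, pow_add, pow_mul, hm, one_pow, _root_.one_mul, mul_comm, pow_mul, hn, one_pow]⟩
      inv_mem' := by
        rintro a ⟨m, hm⟩
        exact ⟨m, by rw [inv_pow, hm, inv_one]⟩ }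
  obtain ⟨G, hG, j, hj, F, hGp, hGi, hjc, hF, hcov, hcl⟩ := exists_subAV S
  haveI : IsCommMonObj G := isCommMonObj_of_isProper_of_geometricallyIntegral G
  haveI : Mono j := (Over.forget _).mono_of_mono_map (inferInstanceAs (Mono j.left))
  rw [dense_iff_closure_eq]
  by_contra hne
  have hjr : Set.range j.left ≠ Set.univ := fun h => hne (Set.eq_univ_of_univ_subset (h ▸ hcl))
  haveI := isIntegral_av A
  haveI := isIntegral_av G
  haveI : Nonempty A.left := ⟨η[A].left (IsLocalRing.closedPoint k)⟩
  haveI : Nonempty G.left := ⟨η[G].left (IsLocalRing.closedPoint k)⟩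
  haveI := CurveRR.isNoetherian_of_proper k A.left
  obtain ⟨g, hA⟩ := exists_dim A
  obtain ⟨d, hd⟩ := exists_dim G
  have hdg : d < g := by
    have h1 : topologicalKrullDim (Set.range j.left) < (g : WithBot ℕ∞) :=
      Intersect.dim_proper_lt (X := A.left) (ξ := genericPoint A.left) (by
          rw [genericPoint_closure]
          exact Intersect.lt_succ_of_le' ((topologicalKrullDim_subspace_le A.left _).trans hA.le))
        j.left.isClosedEmbedding.isClosed_range (by rw [genericPoint_closure]; exact Set.subset_univ _)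
        (fun h => hjr (Set.eq_univ_of_univ_subset (by
          rw [← genericPoint_closure]
          exact closure_minimal (Set.singleton_subset_iff.2 h) j.left.isClosedEmbedding.isClosed_range)))
    rw [← j.left.isClosedEmbedding.isEmbedding.toHomeomorph.isHomeomorph.topologicalKrullDim_eq, hd] at h1
    exact_mod_cast h1
  haveI := hF.to_subtype
  obtain ⟨n, hn⟩ : ∃ n : ℕ, Nat.card F < l ^ n := ⟨Nat.card F, Nat.lt_pow_self (Fact.out : l.Prime).one_lt⟩
  let T := tors (Additive (one' k ⟶ A)) (l ^ n)
  let TG := tors (Additive (one' k ⟶ G)) (l ^ n)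
  haveI : Finite TG := (natCard_tors_le hd (pow_ne_zero n (Fact.out : l.Prime).ne_zero)).1
  choose f hf p hp using fun s : T => hcov (Additive.toMul s.1) ⟨n, congrArg Additive.toMul s.2⟩
  let first : F → Option T := fun z => if h : ∃ s : T, f s = z.1 then some h.choose else none
  let Φ : T → F × TG := fun s => (⟨f s, hf s⟩, ⟨Additive.ofMul (p s) -
      Additive.ofMul (p ((first ⟨f s, hf s⟩).getD s)), by
    obtain ⟨s₀, hs₀, he⟩ : ∃ s₀, (first ⟨f s, hf s⟩).getD s = s₀ ∧ f s₀ = f s := by
      have h : ∃ s' : T, f s' = f s := ⟨s, rfl⟩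
      exact ⟨h.choose, (congrArg (·.getD s) (dif_pos h : first ⟨f s, hf s⟩ = _)).trans rfl, h.choose_spec⟩
    rw [hs₀]
    show l ^ n • _ = (0 : Additive (one' k ⟶ G))
    refine congrArg Additive.ofMul ((cancel_mono j).1 ?_ : (p s / p s₀) ^ (l ^ n) = 1)
    rw [MonObj.pow_comp, div_eq_mul_inv, MonObj.mul_comp, GrpObj.inv_comp, MonObj.one_comp,
      show p s ≫ j = (f s)⁻¹ * Additive.toMul s.1 by rw [hp s, inv_mul_cancel_left],
      show p s₀ ≫ j = (f s)⁻¹ * Additive.toMul s₀.1 by rw [hp s₀, he, inv_mul_cancel_left]]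
    have hs : Additive.toMul s.1 ^ (l ^ n) = 1 := congrArg Additive.toMul s.2
    have hs' : Additive.toMul s₀.1 ^ (l ^ n) = 1 := congrArg Additive.toMul s₀.2
    simp [mul_pow, inv_pow, hs, hs']⟩)
  have hΦ : Function.Injective Φ := fun s s' h => by
    have h1 : f s = f s' := congrArg (fun z => (z.1 : one' k ⟶ A)) h
    have h0 : (first ⟨f s, hf s⟩).getD s = (first ⟨f s', hf s'⟩).getD s' := by
      have ha : ∃ t : T, f t = f s := ⟨s, rfl⟩
      have hb : ∃ t : T, f t = f s' := ⟨s', rfl⟩
      simp only [first, dif_pos ha, dif_pos hb, Option.getD_some]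
      congr 1
      simp [h1]
    have h2 : Additive.ofMul (p s) = Additive.ofMul (p s') := by
      have h3 := congrArg (fun z => (z.2 : Additive (one' k ⟶ G))) h
      simp only [Φ] at h3
      rw [h0] at h3
      exact sub_left_injective h3
    refine Subtype.ext (Additive.toMul.injective ?_)
    rw [hp s, hp s', h1, show p s = p s' from h2]
  have hc := Nat.card_le_card_of_injective Φ hΦ
  rw [Nat.card_prod, natCard_tors hA (natCast_pow_ne_zero' hl n), natCard_tors hd (natCast_pow_ne_zero' hl n),
    ← pow_mul, ← pow_mul] at hc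
  have h3 : l ^ n * l ^ (n * (2 * d)) ≤ l ^ (n * (2 * g)) := by
    rw [← pow_add]
    refine Nat.pow_le_pow_right (Fact.out : l.Prime).pos ?_
    calc n + n * (2 * d) = n * (2 * d + 1) := by ring
      _ ≤ n * (2 * g) := Nat.mul_le_mul_left _ (by omega)
  have h4 := Nat.mul_lt_mul_of_pos_right hn (pow_pos (Fact.out : l.Prime).pos (n * (2 * d)))
  omega

end Groth.Agent.AVDeg
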