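import Groth.Agent.Nakai.ZeroLocus
import Groth.Agent.Nakai.HodgeNum

/-!
Positivity of intersection numbers of one module with a section and ample modules.
-/

set_option autoImplicit false
set_option backward.isDefEq.respectTransparency false
set_option linter.style.haveILetI false
set_option linter.unusedSectionVars false

universe u

open CategoryTheory CategoryTheory.Limits AlgebraicGeometry TopologicalSpace
open Groth.Agent.Intersect Groth.Agent.Nakai
open Groth.Agent.CurveRR.Multi (lenAt)
open Groth.Agent.CohFinite (tmap shortExact_tmap)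

noncomputable section

namespace Groth.Agent.AVDeg

variable {X : Scheme.{u}} (k : Type u) [Field k] [X.Over (Spec (CommRingCat.of k))]
  [IsProper (X ↘ Spec (CommRingCat.of k))]

/-- A module with a section that vanishes somewhere but not identically has positive mixed intersection
number with ample modules. -/
theorem alt_pos_section [IsIntegral X] {r : ℕ} (hX : topologicalKrullDim X = ((r + 1 : ℕ) : WithBot ℕ∞))
    {L : X.Modules} (hL : PicF.IsInvertible L) {n : ℕ}
    (s : Coh.structureModule X ⟶ CohB1.tensorPow L (n + 1))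
    (hs1 : (CohB1.genLocus _ s : Set X).Nonempty) (hs2 : (CohB1.genLocus _ s : Set X)ᶜ.Nonempty)
    (L' : Fin r → X.Modules) (hL' : ∀ i, CohB1.IsAmple (L' i)) :
    0 < (-1 : ℚ) ^ (r + 1) * alt (χt k (Coh.structureModule X) (Fin.cons L L' : Fin (r + 1) → X.Modules)) := by
  haveI := CurveRR.isNoetherian_of_proper k X
  set ξ := genericPoint X
  have hξ : topologicalKrullDim (closure ({ξ} : Set X)) = ((r + 1 : ℕ) : WithBot ℕ∞) := by
    rw [show closure ({ξ} : Set X) = Set.univ from genericPoint_spec X,
      (Homeomorph.Set.univ X).isHomeomorph.topologicalKrullDim_eq, hX]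
  have hξs : ξ ∈ CohB1.genLocus _ s := ((genericPoint_spec X).mem_open_set_iff (CohB1.genLocus _ s).isOpen).2
    (by simpa using hs1)
  let P := CohB1.tensorPow L (n + 1)
  have hP : PicF.IsInvertible P := TMul.isInvertible_tensorPow hL _
  have hA := Devissage.isCoh_A ξ
  let φ := ((KFlat.schB X).obj (Devissage.A ξ)).map s
  haveI : Mono φ := mono_A_tensor_section ξ hP s hξs
  let Q := cokernel φ
  have hAO : Coh.IsCoh (((KFlat.schB X).obj (Devissage.A ξ)).obj (Coh.structureModule X)) :=
    CurveRR.isCoh_tensor' hA RefStalk.isCoh_structureModule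
  have hAP : Coh.IsCoh (((KFlat.schB X).obj (Devissage.A ξ)).obj P) := isCoh_twist k hA hP
  have hQ : Coh.IsCoh Q := Groth.Agent.QC.isCoh_cokernel hAO.1 hAP φ
  have hS := Devissage.cokSeq_shortExact φ
  have hQsub : CohB1.support Q ⊆ closure {ξ} := fun x hx =>
    support_tensor_subset isClosed_closure (Devissage.support_A_subset ξ) P
      ((ClSubLib.support_shortExact _ hS).symm ▸ Or.inr hx)
  have hQξ : ξ ∉ CohB1.support Q := by
    haveI := isIso_stalk_of_mem_genLocus s hξs
    refine Devissage.notMem_support_of_surjective _ hS _ fun m => ?_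
    obtain ⟨y, hy⟩ := (@ConcreteCategory.bijective_of_isIso _ _ _ _ _ _ _ _ ((DerSch.stalkFunctor X ξ).map φ) (by
        haveI : IsIso ((KFlat.stTensorIso (Devissage.A ξ) (Coh.structureModule X) ξ).hom ≫
            (DerSch.stalkFunctor X ξ).map (((KFlat.schB X).map (𝟙 (Devissage.A ξ))).app _ ≫ φ)) := by
          rw [← KFlat.stTensorIso_natural (𝟙 (Devissage.A ξ)) s ξ]
          infer_instance
        have h1 := IsIso.of_isIso_comp_left (KFlat.stTensorIso (Devissage.A ξ) (Coh.structureModule X) ξ).hom
          ((DerSch.stalkFunctor X ξ).map (((KFlat.schB X).map (𝟙 (Devissage.A ξ))).app _ ≫ φ))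
        rwa [CategoryTheory.Functor.map_id, NatTrans.id_app, Category.id_comp] at h1)).2 m
    exact ⟨y, hy⟩
  have hQc := Groth.Agent.QC.isClosed_support hQ.2
  have hQd : topologicalKrullDim (CohB1.support Q) = (r : WithBot ℕ∞) := by
    refine le_antisymm (le_of_lt_succ' (dim_proper_lt (lt_succ_of_le' hξ.le) hQc hQsub hQξ)) ?_
    exact (le_dim_zeroLocus k hX hP s hs2).trans
      (dim_mono fun ζ hζ => mem_support_coker ξ hP s
        (specializes_iff_mem_closure.1 (genericPoint_specializes ζ)) hζ)
  have hLinv : ∀ i, PicF.IsInvertible (L' i) := fun i => (hL' i).1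
  have hadd := congrArg alt (χt_add k hLinv hS hAO hAP hQ)
  rw [alt_add] at hadd
  change alt (χt k (CohB1.tensorMod (Devissage.A ξ) P) L') =
    alt (χt k (CohB1.tensorMod (Devissage.A ξ) (Coh.structureModule X)) L') + alt (χt k Q L') at hadd
  rw [χt_iso k (TMul.commIso (Devissage.A ξ) (Coh.structureModule X) ≪≫ TMul.leftUnitIso _) L'] at hadd
  have h1 := alt_cons_pow k hA hL hLinv (r := r)
    ((dim_mono (Devissage.support_A_subset ξ)).trans hξ.le) (n + 1)
  rw [alt_cons, hadd, sub_add_cancel_left] at h1
  have ih := alt_pos k r L' hL' Q hQ hQd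
  have hn : (0 : ℚ) < ((n + 1 : ℕ) : ℚ) := by exact_mod_cast Nat.succ_pos n
  have hO : ξ ∈ CohB1.support (Coh.structureModule X) := by rw [Intersect.support_structure]; trivial
  rw [alt_irreducible k hX (Fin.cases hL hLinv) RefStalk.isCoh_structureModule hO]
  have hlen : (0 : ℚ) < (lenAt (Coh.structureModule X) ξ : ℚ) := by
    have := lenAt_one_le (F := Coh.structureModule X) (B := Set.univ) (Set.subset_univ _)
      RefStalk.isCoh_structureModule hO fun y _ hy => hy.antisymm (genericPoint_specializes y) |>.eq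
    exact_mod_cast lt_of_lt_of_le Int.one_pos this
  have h2 : alt (χt k (Devissage.A ξ) (Fin.cons L L' : Fin (r + 1) → X.Modules)) =
      -alt (χt k Q L') / ((n + 1 : ℕ) : ℚ) := by
    rw [h1]; field_simp
  rw [h2, pow_succ]
  have : (-1 : ℚ) ^ r * -1 * ((lenAt (Coh.structureModule X) ξ : ℚ) * (-alt (χt k Q L') / ((n + 1 : ℕ) : ℚ))) =
      (lenAt (Coh.structureModule X) ξ : ℚ) * ((-1 : ℚ) ^ r * alt (χt k Q L')) / ((n + 1 : ℕ) : ℚ) := by ring
  rw [this]
  exact div_pos (mul_pos hlen ih) hn

end Groth.Agent.AVDeg
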