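import Groth.Agent.AVDeg.TateAV
import Groth.Agent.AVDeg.SectionPos
import Groth.Agent.AVDeg.Quad
import Groth.Prelude.Def_EndTate

/-!
A positive definite integral form on the group of homomorphisms of abelian varieties.
-/

set_option autoImplicit false
set_option backward.isDefEq.respectTransparency false
set_option backward.isDefEq.respectTransparency.types false
set_option linter.style.haveILetI false
set_option linter.unusedSectionVars false

universe u

open CategoryTheory CategoryTheory.Limits MonoidalCategory CartesianMonoidalCategory MonObj AlgebraicGeometry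
open TopologicalSpace

noncomputable section

namespace Groth.Agent.AVDeg

attribute [local instance] W7Cube.law
attribute [local instance] overInst

variable {k : Type u} [Field k] [IsAlgClosed k] {A B : Over (Spec (CommRingCat.of k))}
variable [GrpObj A] [IsProper A.hom] [GeometricallyIntegral A.hom] [IsCommMonObj A]
variable [GrpObj B] [IsProper B.hom] [GeometricallyIntegral B.hom] [IsCommMonObj B]

/-- An integral positive definite symmetric form on homomorphisms. -/
theorem exists_posDef_form :
    ∃ β : EndAV.Hom A B →+ EndAV.Hom A B →+ ℤ, (∀ f g, β f g = β g f) ∧ ∀ f, f ≠ 0 → 0 < β f f := by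
  classical
  haveI := isIntegral_av A
  haveI : Nonempty A.left := ⟨η[A].left (IsLocalRing.closedPoint k)⟩
  obtain ⟨g, hA⟩ := exists_dim A
  rcases g with _ | r
  · refine ⟨0, fun _ _ => rfl, fun f hf => absurd (EndAV.Hom.ext ?_) hf⟩
    refine hom_ext_points fun a => ?_
    have hpt : a = (1 : one' k ⟶ A) := point_ext (by
      have key : ∀ c : one' k ⟶ A, c.left (IsLocalRing.closedPoint k) = genericPoint A.left := fun c => by
        have hcl := (pointEquivClosedPoint A.hom ⟨c.left, point_comp_hom c⟩).2
        by_contra hne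
        have h1 : ((1 : ℕ) : WithBot ℕ∞) ≤ topologicalKrullDim (Set.univ : Set A.left) :=
          Intersect.le_dim_closed_of_chain isClosed_univ ![c.left (IsLocalRing.closedPoint k), genericPoint A.left]
            (fun i => trivial)
            (fun i j hij => by
              fin_cases i <;> fin_cases j <;> simp at hij
              exact ⟨genericPoint_specializes _, hne⟩)
        have h12 := h1.trans ((topologicalKrullDim_subspace_le A.left Set.univ).trans hA.le)
        norm_cast at h12
      rw [key a, key 1])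
    subst hpt
    rw [MonObj.one_comp, MonObj.one_comp]
  obtain ⟨H, hH, ⟨eH⟩⟩ := Groth.Agent.S8121.result k B
  let h : PicLoc.PicSet B.left := PicGrp.cls H hH.1
  have hsym : W7Cube.pc h (𝟙 B)⁻¹ = h := by
    rw [W7Cube.pc, W7Cube.pull_cls]
    exact ((PicGrp.cls_eq_cls_iff hH.1 _).2 ⟨eH⟩).symm
  obtain ⟨HA, hHA, -⟩ := Groth.Agent.S8121.result k A
  let c₀ : Fin (r + 1) → PicLoc.PicSet A.left := fun _ => PicGrp.cls HA hHA.1
  let lamQ : Additive (PicLoc.PicSet A.left) →+ ℚ := updateHom (k := k) hA.le c₀ 0
  have hint : ∀ x, ∃ z : ℤ, (z : ℚ) = lamQ x := fun x => by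
    obtain ⟨z, hz⟩ := Intersect.alt_int k (Coh.structureModule A.left)
      (fun i => rep (Function.update c₀ 0 (Additive.toMul x) i))
    exact ⟨(-1) ^ (r + 1) * z, by
      show _ = top k (Function.update c₀ 0 (Additive.toMul x))
      rw [top, hz]; push_cast; ring⟩
  choose lam hlam using hint
  let lamZ : Additive (PicLoc.PicSet A.left) →+ ℤ := AddMonoidHom.mk' lam fun x y => by
    apply Int.cast_injective (α := ℚ)
    rw [Int.cast_add, hlam, hlam, hlam, map_add]
  let q : EndAV.Hom A B → Additive (PicLoc.PicSet A.left) := fun φ => Additive.ofMul (W7Cube.pc h φ.toHom)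
  have hq0 : q 0 = 0 := congrArg Additive.ofMul (W7Cube.pc_one h)
  have hqc : ∀ x y z, q (x + y + z) + q x + q y + q z = q (x + y) + q (x + z) + q (y + z) := fun x y z =>
    congrArg Additive.ofMul (W7Cube.cube_rel h x.toHom y.toHom z.toHom)
  have hqe : ∀ x, q (-x) = q x := fun x => by
    refine congrArg Additive.ofMul ?_
    show W7Cube.pc h (x.toHom)⁻¹ = _
    conv_rhs => rw [← hsym]
    show _ = W7Cube.pull x.toHom.left (W7Cube.pc h (𝟙 B)⁻¹)
    rw [W7Cube.pull_pc, GrpObj.comp_inv, Category.comp_id]
  let β : EndAV.Hom A B →+ EndAV.Hom A B →+ ℤ := AddMonoidHom.mk' (fun f => lamZ.comp (polarHom q hqc f))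
    fun f g => by rw [map_add, AddMonoidHom.comp_add]
  refine ⟨β, fun f g => ?_, fun f hf => ?_⟩
  · show lamZ (polarQ q f g) = lamZ (polarQ q g f)
    rw [polarQ, polarQ, add_comm f g, sub_right_comm]
  · show 0 < lamZ (polarQ q f f)
    rw [polarQ_self q hq0 hqc hqe, map_add]
    suffices hpos : (0 : ℚ) < (lam (q f) : ℚ) by
      have : 0 < lamZ (q f) := show 0 < lam (q f) from by exact_mod_cast hpos
      omega
    rw [hlam]
    show 0 < top k (Function.update c₀ 0 (W7Cube.pc h f.toHom))
    obtain ⟨a, ha⟩ : ∃ a : one' k ⟶ A, a ≫ f.toHom ≠ 1 := by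
      by_contra h'
      push_neg at h'
      exact hf (EndAV.Hom.ext (hom_ext_points fun a => (h' a).trans (MonObj.comp_one (M := B) a).symm))
    let φ := f.toHom
    let y' : B.left := (1 : one' k ⟶ B).left (IsLocalRing.closedPoint k)
    have hy' : IsClosed ({y'} : Set B.left) :=
      (pointEquivClosedPoint B.hom ⟨(1 : one' k ⟶ B).left, point_comp_hom _⟩).2
    let U : B.left.Opens := ⟨{y'}ᶜ, hy'.isOpen_compl⟩
    have hyU : (a ≫ φ).left (IsLocalRing.closedPoint k) ∈ U := fun h' => ha (point_ext h')
    obtain ⟨n, s, hys, hsU, -⟩ := TMul.exists_mem_le hH hyU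
    obtain ⟨t, ht⟩ := TMul.exists_pullback_section φ.left hH.1 s
    have h1 : (CohB1.genLocus _ t : Set A.left).Nonempty :=
      ⟨a.left (IsLocalRing.closedPoint k), ht.ge (show φ.left _ ∈ CohB1.genLocus _ s from by
        rw [← Scheme.Hom.comp_apply, ← Over.comp_left]; exact hys)⟩
    have h2 : (CohB1.genLocus _ t : Set A.left)ᶜ.Nonempty := by
      refine ⟨(1 : one' k ⟶ A).left (IsLocalRing.closedPoint k), fun hm => ?_⟩
      have h3 : φ.left ((1 : one' k ⟶ A).left (IsLocalRing.closedPoint k)) ∈ U := hsU (ht.le hm)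
      rw [← Scheme.Hom.comp_apply, ← Over.comp_left, MonObj.one_comp φ] at h3
      exact h3 rfl
    have hpos := alt_pos_section k hA (PicLoc.isInvertible_pullback φ.left hH.1) t h1 h2 (fun _ : Fin r => HA)
      (fun _ => hHA)
    rw [top]
    refine lt_of_lt_of_eq hpos ?_
    congr 2
    refine Intersect.χt_congr k _ fun i => ?_
    refine Fin.cases ?_ (fun j => ?_) i
    · rw [Fin.cons_zero, Function.update_self, W7Cube.pc, W7Cube.pull_cls]
      exact (nonempty_rep_iso _).map Iso.symm
    · rw [Fin.cons_succ, Function.update_of_ne (Fin.succ_ne_zero j)]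
      exact (nonempty_rep_iso hHA.1).map Iso.symm

end Groth.Agent.AVDeg
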