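import Groth.Agent.AVDeg.DivGroup
import Groth.Prelude.Def_AbDual

/-!
Bases of Tate modules from compatible bases of torsion.
-/

set_option autoImplicit false
set_option linter.style.haveILetI false
set_option linter.unusedSectionVars false

universe u

open CategoryTheory CategoryTheory.Limits MonoidalCategory CartesianMonoidalCategory MonObj AlgebraicGeometry

noncomputable section

namespace Groth.Agent.AVDeg

variable {S : Scheme.{u}} {A : Over S} [GrpObj A] [IsCommMonObj A] {l : ℕ} [Fact l.Prime] {T : Over S}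
  {r : ℕ} (x : ℕ → Fin r → Additive (T ⟶ A))
  (hc : ∀ e i, l • x (e + 1) i = x e i) (hg : ∀ e, Good (l ^ e) (x e))

/-- The element of the Tate module of a column of bases. -/
def tateElt (i : Fin r) : AbDual.TateMod A l T :=
  ⟨fun n => x n i, ⟨fun n => (hg n).smul_eq_zero i, fun n => hc n i⟩⟩

theorem tateElt_apply (i : Fin r) (n : ℕ) :
    (tateElt x hc hg i : ℕ → Additive (T ⟶ A)) n = x n i := rfl

theorem sum_smul_tateElt_apply (a : Fin r → ℤ_[l]) (n : ℕ) :
    ((∑ i, a i • tateElt x hc hg i : AbDual.TateMod A l T) : ℕ → Additive (T ⟶ A)) n =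
      ∑ i, ((a i).appr n : ℤ) • x n i := by
  show AbDual.TateMod.component A l T n (∑ i, a i • tateElt x hc hg i) = _
  rw [map_sum]
  exact Finset.sum_congr rfl fun i _ => (natCast_zsmul _ _).symm

theorem dvd_appr_iff (n : ℕ) (a : ℤ_[l]) : ((l ^ n : ℕ) : ℤ) ∣ (a.appr n : ℤ) ↔ PadicInt.toZModPow n a = 0 := by
  rw [AbDual.toZModPow_eq_appr, ZMod.natCast_eq_zero_iff, Int.natCast_dvd_natCast]

include hc hg in
/-- The Tate module is free with the given basis. -/
theorem exists_tate_basis (hcard : ∀ n, Nat.card (tors (Additive (T ⟶ A)) (l ^ n)) = (l ^ n) ^ r) :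
    ∃ b : Module.Basis (Fin r) ℤ_[l] (AbDual.TateMod A l T),
      ∀ i n, (b i : ℕ → Additive (T ⟶ A)) n = x n i := by
  classical
  have hli : LinearIndependent ℤ_[l] (tateElt x hc hg) := by
    refine Fintype.linearIndependent_iff.2 fun a ha i => PadicInt.ext_of_toZModPow.1 fun n => ?_
    rw [map_zero, ← dvd_appr_iff]
    refine (hg n (fun i => ((a i).appr n : ℤ))).1 ?_ i
    rw [← sum_smul_tateElt_apply x hc hg, ha]
    rfl
  have hsp : ⊤ ≤ Submodule.span ℤ_[l] (Set.range (tateElt x hc hg)) := by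
    intro y _
    haveI : ∀ n, NeZero (l ^ n) := fun n => ⟨pow_ne_zero n (Fact.out : l.Prime).ne_zero⟩
    choose c hc' using fun n => (hg n).exists_eq (hcard n) ((y : ℕ → Additive (T ⟶ A)) n) (y.torsion n)
    have hstep : ∀ n i, ((l ^ n : ℕ) : ℤ) ∣ c (n + 1) i - c n i := fun n => (hg n _).1 (by
      simp only [sub_smul, Finset.sum_sub_distrib]
      rw [hc' n, ← y.compat n, ← hc' (n + 1), Finset.smul_sum, sub_eq_zero]
      exact Finset.sum_congr rfl fun i _ => by rw [smul_comm, hc])
    have hle : ∀ i {m n : ℕ}, m ≤ n → ((l ^ m : ℕ) : ℤ) ∣ c n i - c m i := fun i m n h => by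
      induction n, h using Nat.le_induction with
      | base => simp
      | succ n hmn ih =>
        have h1 := (Int.natCast_dvd_natCast.2 (pow_dvd_pow l hmn)).trans (hstep n i)
        simpa using dvd_add h1 ih
    have hI : ∀ n, (IsLocalRing.maximalIdeal ℤ_[l]) ^ n = Ideal.span {(l : ℤ_[l]) ^ n} := fun n => by
      rw [PadicInt.maximalIdeal_eq_span_p, Ideal.span_singleton_pow]
    have hmem : ∀ (n : ℕ) (z : ℤ), ((l ^ n : ℕ) : ℤ) ∣ z → (z : ℤ_[l]) ∈ Ideal.span {(l : ℤ_[l]) ^ n} := fun n z h => by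
      rw [Ideal.mem_span_singleton]
      simpa using map_dvd (Int.castRingHom ℤ_[l]) h
    choose L hL using fun i => IsPrecomplete.prec (I := IsLocalRing.maximalIdeal ℤ_[l]) inferInstance
      (f := fun n => (c n i : ℤ_[l])) fun {m n} h => by
        rw [SModEq.sub_mem, smul_eq_mul, Ideal.mul_top, hI, ← Int.cast_sub]
        exact hmem _ _ ((dvd_neg).1 (by rw [neg_sub]; exact hle i h))
    have hsum : y = ∑ i, L i • tateElt x hc hg i := AbDual.TateMod.ext fun n => by
      rw [sum_smul_tateElt_apply, ← hc' n, ← sub_eq_zero, ← Finset.sum_sub_distrib]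
      simp only [← sub_smul]
      refine (hg n _).2 fun i => ?_
      have h1 := hL i n
      rw [SModEq.sub_mem, smul_eq_mul, Ideal.mul_top, hI, ← PadicInt.ker_toZModPow, RingHom.mem_ker, map_sub,
        sub_eq_zero, map_intCast, AbDual.toZModPow_eq_appr, ← Int.cast_natCast ((L i).appr n)] at h1
      exact (ZMod.intCast_eq_intCast_iff_dvd_sub _ _ _).1 h1.symm
    rw [hsum]
    exact Submodule.sum_mem _ fun i _ => Submodule.smul_mem _ _ (Submodule.subset_span ⟨i, rfl⟩)
  exact ⟨Module.Basis.mk hli hsp, fun i n => by rw [Module.Basis.mk_apply]; rfl⟩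

end Groth.Agent.AVDeg
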