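import Groth.Agent.AVDeg.Vanish
import Groth.Agent.AVDeg.TateBasis

/-!
Tate modules of abelian varieties and the action of homomorphisms.
-/

set_option autoImplicit false
set_option backward.isDefEq.respectTransparency false
set_option linter.style.haveILetI false
set_option linter.unusedSectionVars false

universe u

open CategoryTheory CategoryTheory.Limits MonoidalCategory CartesianMonoidalCategory MonObj AlgebraicGeometry
open TopologicalSpace

noncomputable section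

namespace Groth.Agent.AVDeg

variable {k : Type u} [Field k] [IsAlgClosed k] {A B : Over (Spec (CommRingCat.of k))}
variable [GrpObj A] [IsProper A.hom] [GeometricallyIntegral A.hom] [IsCommMonObj A]
variable [GrpObj B] [IsCommMonObj B]
variable {l : ℕ} [Fact l.Prime]

theorem natCast_pow_ne_zero' (hl : (l : k) ≠ 0) (n : ℕ) : ((l ^ n : ℕ) : k) ≠ 0 := by
  rw [Nat.cast_pow]; exact pow_ne_zero n hl

theorem toZModPow_natCast_pow (n : ℕ) : PadicInt.toZModPow (p := l) n ((l : ℤ_[l]) ^ n) = 0 := by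
  rw [map_pow, map_natCast, ← Nat.cast_pow, ZMod.natCast_self]

/-- The Tate module is free of rank twice the dimension. -/
theorem exists_tate_basis_av {g : ℕ} (hA : topologicalKrullDim A.left = (g : WithBot ℕ∞)) (hl : (l : k) ≠ 0) :
    ∃ (x : ℕ → Fin (2 * g) → Additive (one' k ⟶ A))
      (b : Module.Basis (Fin (2 * g)) ℤ_[l] (AbDual.TateMod A l (one' k))),
      (∀ e i, l • x (e + 1) i = x e i) ∧ (∀ e, Good (l ^ e) (x e)) ∧
        ∀ i n, (b i : ℕ → Additive (one' k ⟶ A)) n = x n i := by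
  obtain ⟨x, hc, hg⟩ := exists_good_seq (G := Additive (one' k ⟶ A)) (r := 2 * g)
    (surjective_nsmul_points (Fact.out : l.Prime).ne_zero) (natCard_tors hA hl)
  obtain ⟨b, hb⟩ := exists_tate_basis x hc hg fun n => natCard_tors hA (natCast_pow_ne_zero' hl n)
  exact ⟨x, b, hc, hg, hb⟩

theorem component_sum_intCast {r : ℕ} (x : ℕ → Fin r → Additive (one' k ⟶ A)) (hg : ∀ e, Good (l ^ e) (x e))
    (b : Fin r → AbDual.TateMod A l (one' k)) (hb : ∀ i n, (b i : ℕ → Additive (one' k ⟶ A)) n = x n i)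
    (c : Fin r → ℤ) (n : ℕ) :
    ((∑ i, (c i : ℤ_[l]) • b i : AbDual.TateMod A l (one' k)) : ℕ → Additive (one' k ⟶ A)) n =
      ∑ i, c i • x n i := by
  show AbDual.TateMod.component A l (one' k) n (∑ i, (c i : ℤ_[l]) • b i) = _
  rw [map_sum, ← sub_eq_zero, ← Finset.sum_sub_distrib]
  refine Finset.sum_eq_zero fun i _ => ?_
  show ((c i : ℤ_[l]).appr n) • (b i : ℕ → Additive (one' k ⟶ A)) n - c i • x n i = 0
  rw [hb, ← natCast_zsmul, ← sub_smul]
  have hd : ((l ^ n : ℕ) : ℤ) ∣ (((c i : ℤ_[l]).appr n : ℤ) - c i) := by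
    rw [← ZMod.intCast_eq_intCast_iff_dvd_sub, Int.cast_natCast, ← AbDual.toZModPow_eq_appr, map_intCast]
  obtain ⟨d, hd⟩ := hd
  rw [hd, mul_comm, mul_smul, natCast_zsmul, (hg n).smul_eq_zero, smul_zero]

/-- Every torsion point is a component of an element of the Tate module. -/
theorem exists_component_eq (hl : (l : k) ≠ 0) (n : ℕ) (y : Additive (one' k ⟶ A)) (hy : (l ^ n) • y = 0) :
    ∃ t : AbDual.TateMod A l (one' k), (t : ℕ → Additive (one' k ⟶ A)) n = y := by
  haveI : Nonempty A.left := ⟨η[A].left (IsLocalRing.closedPoint k)⟩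
  obtain ⟨g, hA⟩ := exists_dim A
  obtain ⟨x, b, hc, hg, hb⟩ := exists_tate_basis_av hA hl
  haveI : NeZero (l ^ n) := ⟨pow_ne_zero n (Fact.out : l.Prime).ne_zero⟩
  obtain ⟨c, hc'⟩ := (hg n).exists_eq (natCard_tors hA (natCast_pow_ne_zero' hl n)) y hy
  exact ⟨∑ i, (c i : ℤ_[l]) • b i, by rw [component_sum_intCast x hg b hb, hc']⟩

theorem kills_torsion (hl : (l : k) ≠ 0) (φ : A ⟶ B) [IsMonHom φ] (n : ℕ)
    (u : AbDual.TateMod A l (one' k) →ₗ[ℤ_[l]] AbDual.TateMod B l (one' k))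
    (hu : AbDual.tateMapₗ (l := l) (T := one' k) φ = ((l : ℤ_[l]) ^ n) • u)
    (a : one' k ⟶ A) (ha : a ^ (l ^ n) = 1) : a ≫ φ = 1 := by
  obtain ⟨t, ht⟩ := exists_component_eq hl n (Additive.ofMul a) (congrArg Additive.ofMul ha)
  have h1 : ((AbDual.tateMapₗ (l := l) (T := one' k) φ t : AbDual.TateMod B l (one' k)) :
      ℕ → Additive (one' k ⟶ B)) n = Additive.ofMul (a ≫ φ) := by
    show Additive.ofMul ((Additive.toMul ((t : ℕ → Additive (one' k ⟶ A)) n)) ≫ φ) = _
    rw [ht]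
    rfl
  rw [hu, LinearMap.smul_apply, AbDual.smul_component] at h1
  have h2 : ((l : ℤ_[l]) ^ n).appr n ≡ 0 [MOD l ^ n] := by
    rw [← ZMod.natCast_eq_natCast_iff, ← AbDual.toZModPow_eq_appr, toZModPow_natCast_pow, Nat.cast_zero]
  rw [AbDual.nsmul_congr_of_modEq ((u t).torsion n) h2, zero_smul] at h1
  exact (congrArg Additive.toMul h1).symm

variable [IsProper B.hom]

theorem exists_factor_pow (hl : (l : k) ≠ 0) (φ : A ⟶ B) [IsMonHom φ] (n : ℕ)
    (u : AbDual.TateMod A l (one' k) →ₗ[ℤ_[l]] AbDual.TateMod B l (one' k))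
    (hu : AbDual.tateMapₗ (l := l) (T := one' k) φ = ((l : ℤ_[l]) ^ n) • u) :
    ∃ φ' : A ⟶ B, IsMonHom φ' ∧ φ = (𝟙 A ^ (l ^ n)) ≫ φ' := by
  have hn := natCast_pow_ne_zero' hl n
  have hn0 : l ^ n ≠ 0 := pow_ne_zero n (Fact.out : l.Prime).ne_zero
  haveI := isMonHom_id_pow (A := A) (l ^ n)
  haveI := isFinite_pow_id (A := A) hn0
  haveI := surjective_pow_id (A := A) hn0
  haveI : Etale (𝟙 A ^ (l ^ n)).left := by
    rw [← zpow_natCast]
    exact FieldPow.etale_pow A (by rwa [Int.cast_natCast])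
  obtain ⟨ρ, hρ, hfac, -⟩ := exists_factor (𝟙 A ^ (l ^ n)) φ fun a ha => by
    rw [kills_torsion hl φ n u hu a (by rw [pow_eq_comp, ha, eta_eq_one]), Hom.one_def, toUnit_unit, Category.id_comp]
  exact ⟨ρ, hρ, hfac.symm⟩

theorem eq_one_of_tateMap_eq_zero [GeometricallyIntegral B.hom] (hl : (l : k) ≠ 0) (φ : A ⟶ B) [IsMonHom φ]
    (h : AbDual.tateMapₗ (l := l) (T := one' k) φ = 0) : φ = 1 :=
  eq_one_of_divisible (Fact.out : l.Prime).one_lt φ fun n =>
    exists_factor_pow hl φ n 0 (by rw [h, smul_zero])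

end Groth.Agent.AVDeg
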