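import Groth.Agent.AVDeg.HomLattice
import Groth.Agent.Nakai.AlgEquiv
import Groth.Agent.AVDeg.TateAV
import Groth.Agent.AVDeg.SectionPos
import Groth.Agent.AVDeg.Quad
import Groth.Prelude.Def_EndTate

/-!
The positive definite form attached to polarizations; automorphisms of polarized abelian varieties.
-/

set_option autoImplicit false
set_option backward.isDefEq.respectTransparency false
set_option backward.isDefEq.respectTransparency.types false
set_option linter.style.haveILetI false
set_option linter.unusedSectionVars false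

universe u

open CategoryTheory CategoryTheory.Limits MonoidalCategory CartesianMonoidalCategory MonObj AlgebraicGeometry
open TopologicalSpace

noncomputable section

namespace Groth.Agent.AVDeg

attribute [local instance] W7Cube.law
attribute [local instance] overInst

variable {k : Type u} [Field k] [IsAlgClosed k] {A B : Over (Spec (CommRingCat.of k))}
variable [GrpObj A] [IsProper A.hom] [GeometricallyIntegral A.hom] [IsCommMonObj A]
variable [GrpObj B] [IsProper B.hom] [GeometricallyIntegral B.hom] [IsCommMonObj B]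

/-- The form attached to given polarizations. -/
theorem exists_posDef_form_of {r : ℕ} (hA : topologicalKrullDim A.left = ((r + 1 : ℕ) : WithBot ℕ∞))
    (HA : A.left.Modules) (hHA : CohB1.IsAmple HA) (H : B.left.Modules) (hH : CohB1.IsAmple H)
    (hsym : W7Cube.pc (PicGrp.cls H hH.1) (𝟙 B)⁻¹ = PicGrp.cls H hH.1) :
    ∃ β : EndAV.Hom A B →+ EndAV.Hom A B →+ ℤ, (∀ f g, β f g = β g f) ∧ (∀ f, f ≠ 0 → 0 < β f f) ∧
      ∀ f, ((β f f : ℤ) : ℚ) = 2 * top k (Function.update (fun _ : Fin (r + 1) => PicGrp.cls HA hHA.1) 0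
        (W7Cube.pc (PicGrp.cls H hH.1) f.toHom)) := by
  classical
  haveI := isIntegral_av A
  let h : PicLoc.PicSet B.left := PicGrp.cls H hH.1
  replace hsym : W7Cube.pc h (𝟙 B)⁻¹ = h := hsym
  let c₀ : Fin (r + 1) → PicLoc.PicSet A.left := fun _ => PicGrp.cls HA hHA.1
  let lamQ : Additive (PicLoc.PicSet A.left) →+ ℚ := updateHom (k := k) hA.le c₀ 0
  have hint : ∀ x, ∃ z : ℤ, (z : ℚ) = lamQ x := fun x => by
    obtain ⟨z, hz⟩ := Intersect.alt_int k (Coh.structureModule A.left)
      (fun i => rep (Function.update c₀ 0 (Additive.toMul x) i))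
    exact ⟨(-1) ^ (r + 1) * z, by
      show _ = top k (Function.update c₀ 0 (Additive.toMul x))
      rw [top, hz]; push_cast; ring⟩
  choose lam hlam using hint
  let lamZ : Additive (PicLoc.PicSet A.left) →+ ℤ := AddMonoidHom.mk' lam fun x y => by
    apply Int.cast_injective (α := ℚ)
    rw [Int.cast_add, hlam, hlam, hlam, map_add]
  let q : EndAV.Hom A B → Additive (PicLoc.PicSet A.left) := fun φ => Additive.ofMul (W7Cube.pc h φ.toHom)
  have hq0 : q 0 = 0 := congrArg Additive.ofMul (W7Cube.pc_one h)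
  have hqc : ∀ x y z, q (x + y + z) + q x + q y + q z = q (x + y) + q (x + z) + q (y + z) := fun x y z =>
    congrArg Additive.ofMul (W7Cube.cube_rel h x.toHom y.toHom z.toHom)
  have hqe : ∀ x, q (-x) = q x := fun x => by
    refine congrArg Additive.ofMul ?_
    show W7Cube.pc h (x.toHom)⁻¹ = _
    conv_rhs => rw [← hsym]
    show _ = W7Cube.pull x.toHom.left (W7Cube.pc h (𝟙 B)⁻¹)
    rw [W7Cube.pull_pc, GrpObj.comp_inv, Category.comp_id]
  let β : EndAV.Hom A B →+ EndAV.Hom A B →+ ℤ := AddMonoidHom.mk' (fun f => lamZ.comp (polarHom q hqc f))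
    fun f g => by rw [map_add, AddMonoidHom.comp_add]
  refine ⟨β, fun f g => ?_, fun f hf => ?_, fun f => ?_⟩
  · show lamZ (polarQ q f g) = lamZ (polarQ q g f)
    rw [polarQ, polarQ, add_comm f g, sub_right_comm]
  · show 0 < lamZ (polarQ q f f)
    rw [polarQ_self q hq0 hqc hqe, map_add]
    suffices hpos : (0 : ℚ) < (lam (q f) : ℚ) by
      have : 0 < lamZ (q f) := show 0 < lam (q f) from by exact_mod_cast hpos
      omega
    rw [hlam]
    show 0 < top k (Function.update c₀ 0 (W7Cube.pc h f.toHom))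
    obtain ⟨a, ha⟩ : ∃ a : one' k ⟶ A, a ≫ f.toHom ≠ 1 := by
      by_contra h'
      push_neg at h'
      exact hf (EndAV.Hom.ext (hom_ext_points fun a => (h' a).trans (MonObj.comp_one (M := B) a).symm))
    let φ := f.toHom
    let y' : B.left := (1 : one' k ⟶ B).left (IsLocalRing.closedPoint k)
    have hy' : IsClosed ({y'} : Set B.left) :=
      (pointEquivClosedPoint B.hom ⟨(1 : one' k ⟶ B).left, point_comp_hom _⟩).2
    let U : B.left.Opens := ⟨{y'}ᶜ, hy'.isOpen_compl⟩
    have hyU : (a ≫ φ).left (IsLocalRing.closedPoint k) ∈ U := fun h' => ha (point_ext h')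
    obtain ⟨n, s, hys, hsU, -⟩ := TMul.exists_mem_le hH hyU
    obtain ⟨t, ht⟩ := TMul.exists_pullback_section φ.left hH.1 s
    have h1 : (CohB1.genLocus _ t : Set A.left).Nonempty :=
      ⟨a.left (IsLocalRing.closedPoint k), ht.ge (show φ.left _ ∈ CohB1.genLocus _ s from by
        rw [← Scheme.Hom.comp_apply, ← Over.comp_left]; exact hys)⟩
    have h2 : (CohB1.genLocus _ t : Set A.left)ᶜ.Nonempty := by
      refine ⟨(1 : one' k ⟶ A).left (IsLocalRing.closedPoint k), fun hm => ?_⟩
      have h3 : φ.left ((1 : one' k ⟶ A).left (IsLocalRing.closedPoint k)) ∈ U := hsU (ht.le hm)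
      rw [← Scheme.Hom.comp_apply, ← Over.comp_left, MonObj.one_comp φ] at h3
      exact h3 rfl
    have hpos := alt_pos_section k hA (PicLoc.isInvertible_pullback φ.left hH.1) t h1 h2 (fun _ : Fin r => HA)
      (fun _ => hHA)
    rw [top]
    refine lt_of_lt_of_eq hpos ?_
    congr 2
    refine Intersect.χt_congr k _ fun i => ?_
    refine Fin.cases ?_ (fun j => ?_) i
    · rw [Fin.cons_zero, Function.update_self, W7Cube.pc, W7Cube.pull_cls]
      exact (nonempty_rep_iso _).map Iso.symm
    · rw [Fin.cons_succ, Function.update_of_ne (Fin.succ_ne_zero j)]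
      exact (nonempty_rep_iso hHA.1).map Iso.symm
  · show ((lamZ (polarQ q f f) : ℤ) : ℚ) = _
    rw [polarQ_self q hq0 hqc hqe, map_add, Int.cast_add]
    show ((lam (q f) : ℤ) : ℚ) + ((lam (q f) : ℤ) : ℚ) = _
    rw [hlam, two_mul]
    rfl

/-- An integral positive definite form takes each value finitely often. -/
theorem finite_setOf_form_eq {M : Type*} [AddCommGroup M] [Module.Finite ℤ M] (β : M →+ M →+ ℤ)
    (hs : ∀ f g, β f g = β g f) (hp : ∀ f, f ≠ 0 → 0 < β f f) (C : ℤ) : {f | β f f = C}.Finite := by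
  classical
  obtain ⟨n, s, hs'⟩ := Module.Finite.exists_fin (R := ℤ) (M := M)
  let T : M → Fin n → ℤ := fun f i => β f (s i)
  have hinj : Function.Injective T := fun f g hfg => by
    by_contra hne
    have h0 : ∀ x : M, β (f - g) x = 0 := fun x => by
      obtain ⟨a, rfl⟩ := (Submodule.mem_span_range_iff_exists_fun ℤ).1 (hs'.ge (Submodule.mem_top (x := x)))
      rw [map_sum]
      refine Finset.sum_eq_zero fun i _ => ?_
      rw [map_zsmul, map_sub, AddMonoidHom.sub_apply, show β f (s i) = β g (s i) from congrFun hfg i, sub_self, smul_zero]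
    exact (hp _ (sub_ne_zero.2 hne)).ne' (h0 _)
  have hcs : ∀ f g : M, β f g * β f g ≤ β f f * β g g := fun f g => by
    rcases eq_or_ne g 0 with rfl | hg
    · simp
    have hgg := hp g hg
    set x := (β g g) • f - (β f g) • g
    have hx : 0 ≤ β x x := by
      rcases eq_or_ne x 0 with h | h
      · rw [h]; simp
      · exact (hp x h).le
    have e : β x x = β g g * (β f f * β g g - β f g * β f g) := by
      simp only [x, map_sub, map_zsmul, AddMonoidHom.sub_apply, AddMonoidHom.zsmul_apply, smul_eq_mul, hs g f]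
      ring
    rw [e] at hx
    have := (mul_nonneg_iff_of_pos_left hgg).1 hx
    omega
  refine Set.Finite.of_finite_image ?_ hinj.injOn
  refine (Set.Finite.pi fun i : Fin n => Set.finite_Icc (-(|C| * |β (s i) (s i)| + 1)) (|C| * |β (s i) (s i)| + 1)).subset ?_
  rintro _ ⟨f, hf, rfl⟩ i -
  have h1 := hcs f (s i)
  rw [show β f f = C from hf] at h1
  have h2 : C * β (s i) (s i) ≤ |C| * |β (s i) (s i)| := by rw [← abs_mul]; exact le_abs_self _
  have h3 : 0 ≤ |C| * |β (s i) (s i)| := by positivity
  constructor <;> show _ ≤ _ <;> nlinarith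

/-- A class killing all top numbers in each argument. -/
def Null (k : Type u) [Field k] {X : Scheme.{u}} [X.Over (Spec (CommRingCat.of k))]
    [IsProper (X ↘ Spec (CommRingCat.of k))] (n : ℕ) (ν : PicLoc.PicSet X) : Prop :=
  ∀ (c : Fin n → PicLoc.PicSet X) (i : Fin n), top k (Function.update c i ν) = 0

theorem null_of_algEquivZero {n : ℕ} {N : A.left.Modules} (hN : PicF.IsInvertible N)
    (h : Pic13.IsAlgEquivZero k A.left N) : Null k n (PicGrp.cls N hN) := fun c i => by
  obtain ⟨m, rfl⟩ : ∃ m, n = m + 1 := ⟨n - 1, by have := i.2; omega⟩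
  let σ : Equiv.Perm (Fin (m + 1)) := (finSuccEquiv m).trans (finSuccEquiv' i).symm
  rw [top_eq_D, ← Nakai.D_perm k (Equiv.Perm.ofFn_comp_perm σ _), List.ofFn_succ]
  obtain ⟨e⟩ := nonempty_rep_iso hN
  have e0 : rep (Function.update c i (PicGrp.cls N hN) (σ 0)) = rep (PicGrp.cls N hN) := by simp [σ]
  haveI := CurveRR.isNoetherian_of_proper k A.left
  rw [Function.comp_apply, e0, D_congr_head e]
  refine mul_eq_zero_of_right _ ?_
  have key : ∀ (l : List A.left.Modules), (∀ M ∈ l, PicF.IsInvertible M) → ∀ F : A.left.Modules, Coh.IsCoh F →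
      Nakai.D k l (CohB1.tensorMod F N) = Nakai.D k l F := by
    intro l
    induction l with
    | nil =>
      intro _ F hF
      simp only [Nakai.D]
      exact_mod_cast Nakai.euler_algEquivZero k h hF
    | cons M l ih =>
      intro hl F hF
      rw [Nakai.D, Nakai.D, ih (fun M' hM' => hl M' (List.mem_cons_of_mem _ hM')) F hF]
      congr 1
      rw [Nakai.D_iso k l ((TMul.assocIso F N M).trans ((PicGrp.tensorModIso (Iso.refl F) (TMul.commIso N M)).trans
        (TMul.assocIso F M N).symm))]
      exact ih (fun M' hM' => hl M' (List.mem_cons_of_mem _ hM')) _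
        (CurveRR.isCoh_tensor' hF (CurveRR.isCoh_of_inv (hl M List.mem_cons_self)))
  rw [Nakai.D, key _ (fun M hM => by
    obtain ⟨j, rfl⟩ := List.mem_ofFn.1 hM; exact isInvertible_rep _) _ (Nakai.isCoh_one k), sub_self]

end Groth.Agent.AVDeg
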