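import Groth.Agent.AVDeg.HomLattice
import Groth.Agent.DimField.Scheme

/-!
Homomorphisms under extension of the base field.
-/

set_option autoImplicit false
set_option backward.isDefEq.respectTransparency false
set_option linter.style.haveILetI false
set_option linter.unusedSectionVars false

universe u

open CategoryTheory CategoryTheory.Limits MonoidalCategory CartesianMonoidalCategory MonObj AlgebraicGeometry
open TopologicalSpace
open scoped CategoryTheory.Obj

noncomputable section

namespace Groth.Agent.AVDeg

variable (k K : Type u) [Field k] [Field K] [Algebra k K]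

/-- The morphism of spectra. -/
abbrev specMap : Spec (CommRingCat.of K) ⟶ Spec (CommRingCat.of k) :=
  Spec.map (CommRingCat.ofHom (algebraMap k K))

/-- Base change of schemes over fields. -/
abbrev bcK (A : Over (Spec (CommRingCat.of k))) : Over (Spec (CommRingCat.of K)) :=
  (Over.pullback (specMap k K)).obj A

variable {k} {A B : Over (Spec (CommRingCat.of k))} [GrpObj A] [GrpObj B]

instance grpObj_bcK : GrpObj (bcK k K A) := Functor.grpObjObj (F := Over.pullback (specMap k K))

instance [IsProper A.hom] : IsProper (bcK k K A).hom :=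
  inferInstanceAs (IsProper (pullback.snd A.hom (specMap k K)))

instance [GeometricallyIntegral A.hom] : GeometricallyIntegral (bcK k K A).hom :=
  inferInstanceAs (GeometricallyIntegral (pullback.snd A.hom (specMap k K)))

instance [IsProper A.hom] [GeometricallyIntegral A.hom] : IsCommMonObj (bcK k K A) :=
  isCommMonObj_of_isProper_of_geometricallyIntegral _

theorem topologicalKrullDim_bcK [IsProper A.hom] :
    topologicalKrullDim (bcK k K A).left = topologicalKrullDim A.left :=
  (DimField.dim_eq_of_isPullback A.hom (pullback.snd A.hom (specMap k K)) (pullback.fst _ _) (specMap k K)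
    (IsPullback.of_hasPullback _ _)).symm

variable [IsProper A.hom] [GeometricallyIntegral A.hom] [IsCommMonObj A]
variable [IsProper B.hom] [GeometricallyIntegral B.hom] [IsCommMonObj B]

/-- Base change of homomorphisms. -/
def homBC : EndAV.Hom A B →+ EndAV.Hom (bcK k K A) (bcK k K B) :=
  AddMonoidHom.mk'
    (fun φ =>
      haveI : IsMonHom ((Over.pullback (specMap k K)).map φ.toHom) :=
        inferInstanceAs (IsMonHom ((Over.pullback (specMap k K)).map φ.toHom))
      EndAV.Hom.of ((Over.pullback (specMap k K)).map φ.toHom))
    fun φ ψ => EndAV.Hom.ext (by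
      show (Over.pullback (specMap k K)).map (φ.toHom * ψ.toHom) = _
      exact Functor.map_mul (Over.pullback (specMap k K)) φ.toHom ψ.toHom)

theorem toHom_homBC (φ : EndAV.Hom A B) :
    (homBC K φ).toHom = (Over.pullback (specMap k K)).map φ.toHom := rfl

theorem homBC_injective : Function.Injective (homBC K : EndAV.Hom A B →+ _) := fun φ ψ h => by
  refine EndAV.Hom.ext (Over.OverMorphism.ext ?_)
  haveI : Surjective (specMap k K) :=
    ⟨fun _ => ⟨IsLocalRing.closedPoint K, Subsingleton.elim (α := PrimeSpectrum k) _ _⟩⟩
  haveI : Flat (specMap k K) :=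
    (HasRingHomProperty.Spec_iff (P := @Flat)).2 (RingHom.flat_algebraMap_iff.2 inferInstance)
  haveI : Surjective (pullback.fst A.hom (specMap k K)) := MorphismProperty.pullback_fst _ _ ‹_›
  haveI : Flat (pullback.fst A.hom (specMap k K)) := MorphismProperty.pullback_fst _ _ ‹_›
  haveI := Flat.epi_of_flat_of_surjective (pullback.fst A.hom (specMap k K))
  have hfst : ∀ f : A ⟶ B, ((Over.pullback (specMap k K)).map f).left ≫ pullback.fst B.hom (specMap k K) =
      pullback.fst A.hom (specMap k K) ≫ f.left := fun f => pullback.lift_fst _ _ _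
  rw [← cancel_epi (pullback.fst A.hom (specMap k K)), ← hfst, ← hfst, ← toHom_homBC, ← toHom_homBC, h]

/-- The lattice of homomorphisms over any field. -/
theorem hom_lattice {g h : ℕ} (hg : topologicalKrullDim A.left = (g : WithBot ℕ∞))
    (hh : topologicalKrullDim B.left = (h : WithBot ℕ∞)) :
    Module.Free ℤ (EndAV.Hom A B) ∧ Module.Finite ℤ (EndAV.Hom A B) ∧
      Module.finrank ℤ (EndAV.Hom A B) ≤ 4 * g * h := by
  let f := (homBC (AlgebraicClosure k) : EndAV.Hom A B →+ _).toIntLinearMap
  have hf : Function.Injective f := homBC_injective (AlgebraicClosure k)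
  obtain ⟨hfin, hfree⟩ := hom_finite_free (A := bcK k (AlgebraicClosure k) A) (B := bcK k (AlgebraicClosure k) B)
  haveI : IsNoetherian ℤ (EndAV.Hom (bcK k (AlgebraicClosure k) A) (bcK k (AlgebraicClosure k) B)) :=
    isNoetherian_of_isNoetherianRing_of_finite _ _
  haveI hfinA : Module.Finite ℤ (EndAV.Hom A B) := Module.Finite.of_injective f hf
  haveI := Groth.Agent.S15656.result k A B
  exact ⟨Module.free_of_finite_type_torsion_free', hfinA, (LinearMap.finrank_le_finrank_of_injective hf).trans
    (finrank_hom_le ((topologicalKrullDim_bcK _).trans hg) ((topologicalKrullDim_bcK _).trans hh))⟩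

end Groth.Agent.AVDeg
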