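import Groth.Agent.AVDeg.DegBC

/-!
Consequences for Tate modules over arbitrary fields.
-/

set_option autoImplicit false
set_option backward.isDefEq.respectTransparency false
set_option linter.style.haveILetI false
set_option linter.unusedSectionVars false
set_option synthInstance.maxHeartbeats 400000

universe u

open CategoryTheory CategoryTheory.Limits MonoidalCategory CartesianMonoidalCategory MonObj AlgebraicGeometry
open TopologicalSpace

noncomputable section

namespace Groth.Agent.AVDeg

/-- A monic generator of minimal degree of the integral polynomials killing an element. -/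
theorem exists_min_monic {R : Type*} [Ring R] [Algebra ℤ R] (htf : ∀ (c : ℤ) (x : R), c ≠ 0 → (c : R) * x = 0 → x = 0)
    (α : R) {P : Polynomial ℤ} (hP : P.Monic) (hPα : Polynomial.aeval α P = 0) :
    ∃ G : Polynomial ℤ, G.Monic ∧ Polynomial.aeval α G = 0 ∧
      ∀ F : Polynomial ℤ, Polynomial.aeval α F = 0 → F.degree < G.degree → F = 0 := by
  classical
  have hex : ∃ d, ∃ F : Polynomial ℤ, F ≠ 0 ∧ Polynomial.aeval α F = 0 ∧ F.natDegree = d :=
    ⟨_, P, hP.ne_zero, hPα, rfl⟩
  obtain ⟨F₀, hF₀, hF₀α, hF₀d⟩ := Nat.find_spec hex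
  have hmin : ∀ F : Polynomial ℤ, Polynomial.aeval α F = 0 → F.natDegree < Nat.find hex → F = 0 := by
    intro F hF hlt
    by_contra h
    exact Nat.find_min hex hlt ⟨F, h, hF, rfl⟩
  set G₀ := F₀.primPart
  have hG₀α : Polynomial.aeval α G₀ = 0 := by
    refine htf F₀.content _ (Polynomial.content_eq_zero_iff.not.2 hF₀) ?_
    have h1 := hF₀α
    rw [Polynomial.eq_C_content_mul_primPart F₀, map_mul, Polynomial.aeval_C, eq_intCast] at h1
    exact h1
  have hG₀d : G₀.natDegree = Nat.find hex := by rw [Polynomial.natDegree_primPart, hF₀d]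
  have hG₀p : G₀.IsPrimitive := Polynomial.isPrimitive_primPart F₀
  -- it divides `P` over `ℚ`
  have hdvd : G₀ ∣ P := by
    refine (Polynomial.IsPrimitive.Int.dvd_iff_map_cast_dvd_map_cast _ _ hG₀p).2 ?_
    set g := G₀.map (Int.castRingHom ℚ)
    have hg0 : g ≠ 0 := (Polynomial.map_ne_zero_iff (Int.castRingHom ℚ).injective_int).2 (hG₀p.ne_zero)
    rw [← EuclideanDomain.mod_eq_zero]
    by_contra hr
    obtain ⟨⟨N, hN⟩, hint⟩ := IsLocalization.integerNormalization_map_to_map (nonZeroDivisors ℤ)
      (P.map (Int.castRingHom ℚ) / g)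
    set Qi := IsLocalization.integerNormalization (nonZeroDivisors ℤ) (P.map (Int.castRingHom ℚ) / g)
    have hN0 : N ≠ 0 := nonZeroDivisors.ne_zero hN
    have e : (Polynomial.C N * P - G₀ * Qi).map (Int.castRingHom ℚ) =
        Polynomial.C (N : ℚ) * (P.map (Int.castRingHom ℚ) % g) := by
      rw [EuclideanDomain.mod_eq_sub_mul_div]
      rw [Polynomial.map_sub, Polynomial.map_mul, Polynomial.map_mul, Polynomial.map_C,
        show Int.castRingHom ℚ N = (N : ℚ) from rfl]
      rw [show Qi.map (Int.castRingHom ℚ) = _ from hint, Algebra.smul_def, Polynomial.algebraMap_apply,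
        algebraMap_int_eq, eq_intCast]
      ring
    have hR : Polynomial.C N * P - G₀ * Qi ≠ 0 := by
      intro h0
      rw [h0, Polynomial.map_zero] at e
      exact hr ((mul_eq_zero.1 e.symm).resolve_left (by simpa using hN0))
    refine hR (hmin _ (by rw [map_sub, map_mul, map_mul, hPα, hG₀α, mul_zero, zero_mul, sub_zero]) ?_)
    have h1 : ((Polynomial.C N * P - G₀ * Qi).map (Int.castRingHom ℚ)).natDegree < g.natDegree := by
      rw [e, Polynomial.natDegree_C_mul (by exact_mod_cast hN0)]
      exact Polynomial.natDegree_lt_natDegree hr (EuclideanDomain.mod_lt _ hg0)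
    rwa [Polynomial.natDegree_map_eq_of_injective (Int.castRingHom ℚ).injective_int,
      Polynomial.natDegree_map_eq_of_injective (Int.castRingHom ℚ).injective_int, hG₀d] at h1
  obtain ⟨H, hH⟩ := hdvd
  have hu : G₀.leadingCoeff * H.leadingCoeff = 1 := by rw [← Polynomial.leadingCoeff_mul, ← hH, hP.leadingCoeff]
  rcases Int.eq_one_or_neg_one_of_mul_eq_one hu with h | h
  · refine ⟨G₀, h, hG₀α, fun F hF hlt => ?_⟩
    by_cases hF0 : F = 0
    · exact hF0
    · refine hmin F hF ?_
      rw [← hG₀d]; exact Polynomial.natDegree_lt_natDegree hF0 hlt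
  · refine ⟨-G₀, by rw [Polynomial.Monic, Polynomial.leadingCoeff_neg, h, neg_neg],
      by rw [map_neg, hG₀α, neg_zero], fun F hF hlt => ?_⟩
    by_cases hF0 : F = 0
    · exact hF0
    · refine hmin F hF ?_
      rw [← hG₀d, ← Polynomial.natDegree_neg G₀]
      exact Polynomial.natDegree_lt_natDegree hF0 hlt

variable {k : Type u} (Ω : Type u) [Field k] [Field Ω] [Algebra k Ω] [IsAlgClosed Ω]
variable {A : Over (Spec (CommRingCat.of k))} [GrpObj A] [IsProper A.hom] [GeometricallyIntegral A.hom] [IsCommMonObj A]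
variable {l : ℕ} [Fact l.Prime]

/-- Cayley-Hamilton in the endomorphism ring. -/
theorem aeval_eq_zero_of_charpoly (hl : (l : k) ≠ 0) (φ : EndAV.End A)
    [Module.Free ℤ_[l] (AbDual.TateMod A l (SGA7.pt (K := k) Ω))]
    [Module.Finite ℤ_[l] (AbDual.TateMod A l (SGA7.pt (K := k) Ω))] (P : Polynomial ℤ)
    (hP : (EndAV.End.tateRep l (SGA7.pt (K := k) Ω) φ).charpoly = P.map (Int.castRingHom ℤ_[l])) :
    Polynomial.aeval φ P = 0 := by
  apply tateMap_injective Ω hl (A := A) (B := A)
  show EndAV.End.tateRep l (SGA7.pt (K := k) Ω) (Polynomial.aeval φ P) =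
    EndAV.End.tateRep l (SGA7.pt (K := k) Ω) 0
  have h := LinearMap.aeval_self_charpoly (EndAV.End.tateRep l (SGA7.pt (K := k) Ω) φ)
  rw [hP, Polynomial.aeval_def, Polynomial.eval₂_map] at h
  rw [map_zero, Polynomial.aeval_def, Polynomial.hom_eval₂]
  exact (congrArg (fun f => Polynomial.eval₂ f _ P) (RingHom.ext_int _ _)).trans h

/-- The minimal polynomial on the Tate module is defined over the integers. -/
theorem exists_int_minpoly (hl : (l : k) ≠ 0) (φ : EndAV.End A)
    [Module.Free ℤ_[l] (AbDual.TateMod A l (SGA7.pt (K := k) Ω))]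
    [Module.Finite ℤ_[l] (AbDual.TateMod A l (SGA7.pt (K := k) Ω))] :
    ∃ G : Polynomial ℤ, G.Monic ∧
      minpoly ℤ_[l] (EndAV.End.tateRep l (SGA7.pt (K := k) Ω) φ) = G.map (Int.castRingHom ℤ_[l]) := by
  haveI : Nonempty A.left := ⟨η[A].left (IsLocalRing.closedPoint k)⟩
  obtain ⟨r, hA⟩ := exists_dim A
  obtain ⟨P, hP, -, -, hPc⟩ := exists_charpoly_tate Ω hl hA φ
  obtain ⟨hfree, -, -⟩ := hom_lattice (A := A) (B := A) hA hA
  haveI : Module.Free ℤ (EndAV.End A) := hfree
  obtain ⟨G, hG, hGα, hmin⟩ := exists_min_monic (R := EndAV.End A) (fun c x hc hcx => by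
      rw [← zsmul_eq_mul] at hcx
      exact (smul_eq_zero.1 hcx).resolve_left hc) φ hP (aeval_eq_zero_of_charpoly Ω hl φ P hPc)
  refine ⟨G, hG, (minpoly.unique' ℤ_[l] _ (hG.map _) ?_ fun q hq => ?_).symm⟩
  · rw [Polynomial.aeval_def, Polynomial.eval₂_map,
      RingHom.ext_int ((algebraMap ℤ_[l] _).comp (Int.castRingHom ℤ_[l]))
        ((EndAV.End.tateRep l (SGA7.pt (K := k) Ω)).comp (algebraMap ℤ (EndAV.End A))),
      ← Polynomial.hom_eval₂]
    exact (congrArg _ hGα).trans (map_zero _)
  · rw [hG.degree_map, Polynomial.degree_eq_natDegree hG.ne_zero] at hq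
    refine or_iff_not_imp_right.2 fun hq0 => ?_
    rw [not_not] at hq0
    set d := G.natDegree
    have hindep : LinearIndependent ℤ fun j : Fin d => (φ ^ (j : ℕ) : EndAV.Hom A A) := by
      refine Fintype.linearIndependent_iff.2 fun c hc j => ?_
      have h0 : Polynomial.aeval φ (∑ j : Fin d, Polynomial.C (c j) * Polynomial.X ^ (j : ℕ)) = 0 := by
        rw [map_sum]
        refine Eq.trans (Finset.sum_congr rfl fun i _ => ?_) hc
        rw [map_mul, Polynomial.aeval_C, Polynomial.aeval_X_pow, eq_intCast, ← zsmul_eq_mul]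
      have hF := hmin _ h0 (by
        rw [Polynomial.degree_eq_natDegree hG.ne_zero]
        exact Polynomial.degree_sum_fin_lt c)
      have := congrArg (fun F : Polynomial ℤ => F.coeff j) hF
      simpa [Polynomial.coeff_X_pow, Fin.val_inj, Finset.sum_ite_eq] using this
    have h2 := linearIndependent_tateMap' (B := A) Ω hl _ hindep
    by_contra hne
    have hnd : q.natDegree < d := (Polynomial.natDegree_lt_iff_degree_lt hne).2 hq
    rw [Polynomial.aeval_eq_sum_range' hnd, Finset.sum_range] at hq0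
    have hall := Fintype.linearIndependent_iff.1 h2 (fun j => q.coeff j) (by
      refine Eq.trans (Finset.sum_congr rfl fun i _ => ?_) hq0
      congr 1
      exact map_pow (EndAV.End.tateRep l (SGA7.pt (K := k) Ω)) φ i)
    refine hne (Polynomial.ext fun j => ?_)
    rw [Polynomial.coeff_zero]
    by_cases hj : j < d
    · exact hall ⟨j, hj⟩
    · exact Polynomial.coeff_eq_zero_of_natDegree_lt (by omega)

end Groth.Agent.AVDeg
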