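import Groth.Agent.AgIsog.Semisimple
import Groth.Agent.AVDeg.MinPolyTate
import Groth.Agent.AVDeg.HomBC
import Groth.Agent.WeilLib.FrobPow
import Groth.Prelude.Def_EndTate
import Mathlib.LinearAlgebra.Semisimple

/-!
The subalgebra generated by the Frobenius in the rational endomorphism algebra.
-/

set_option autoImplicit false
set_option backward.isDefEq.respectTransparency false
set_option linter.style.haveILetI false
set_option linter.unusedSectionVars false
set_option synthInstance.maxHeartbeats 400000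
set_option maxHeartbeats 2000000

universe u

open CategoryTheory CategoryTheory.Limits MonoidalCategory CartesianMonoidalCategory MonObj AlgebraicGeometry
open TopologicalSpace Polynomial
open scoped TensorProduct

noncomputable section

namespace Groth.Agent.AVDeg

/-- The Frobenius commutes with every morphism. -/
theorem frob_comm {k : Type u} [Field k] [Finite k] {A B : Over (Spec (CommRingCat.of k))}
    (πA : A ⟶ A) (hb : πA.left.base = 𝟙 _) (hle : ∀ U : A.left.Opens, U ≤ πA.left ⁻¹ᵁ U)
    (happ : ∀ (U : A.left.Opens) (s : Γ(A.left, U)), (πA.left.appLE U U (hle U)).hom s = s ^ Nat.card k)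
    (πB : B ⟶ B) (hb' : πB.left.base = 𝟙 _) (hle' : ∀ U : B.left.Opens, U ≤ πB.left ⁻¹ᵁ U)
    (happ' : ∀ (U : B.left.Opens) (s : Γ(B.left, U)), (πB.left.appLE U U (hle' U)).hom s = s ^ Nat.card k)
    (f : A ⟶ B) : πA ≫ f = f ≫ πB := by
  haveI := Fintype.ofFinite k
  obtain ⟨p, hp⟩ := CharP.exists k
  obtain ⟨e, hpr, hcard⟩ := FiniteField.card k p
  haveI := Fact.mk hpr
  haveI : FrobSch.IsCharP A.left p := FrobSch.IsCharP.of_hom A.hom p
  haveI : FrobSch.IsCharP B.left p := FrobSch.IsCharP.of_hom B.hom p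
  have hq : Nat.card k = p ^ (e : ℕ) := by rw [Nat.card_eq_fintype_card]; exact hcard
  refine Over.OverMorphism.ext ?_
  rw [Over.comp_left, Over.comp_left,
    WeilLib.eq_frobPow p e πA.left hb hle (fun U s => by rw [happ U s, hq]),
    WeilLib.eq_frobPow p e πB.left hb' hle' (fun U s => by rw [happ' U s, hq])]
  exact WeilLib.frobPow_comp p f.left e

section Ring

/-- A central nilpotent of a semisimple ring is zero. -/
theorem eq_zero_of_central_nilpotent {R : Type*} [Ring R] [IsSemisimpleRing R] {x : R}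
    (hc : ∀ y, Commute x y) (hx : IsNilpotent x) : x = 0 := by
  obtain ⟨e, he, hI⟩ := IsSemisimpleRing.ideal_eq_span_idempotent (Ideal.span {x} : Ideal R)
  obtain ⟨a, ha⟩ : ∃ a, a * x = e := Ideal.mem_span_singleton'.1 (hI ▸ Ideal.mem_span_singleton_self e)
  obtain ⟨b, hb⟩ : ∃ b, b * e = x := Ideal.mem_span_singleton'.1 (hI ▸ Ideal.mem_span_singleton_self x)
  obtain ⟨n, hn⟩ := hx
  have h1 : e = 0 := by
    have h2 : e ^ (n + 1) = 0 := by
      rw [← ha, ((hc a).symm).mul_pow, pow_succ x, hn, zero_mul, mul_zero]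
    rwa [he.pow_succ_eq] at h2
  rw [← hb, h1, mul_zero]

variable {R : Type*} [Ring R] [Algebra ℚ R] [Module.Finite ℚ R] [IsSemisimpleRing R]

/-- The minimal polynomial of a central element of a semisimple algebra is radical. -/
theorem isRadical_minpoly_central {a : R} (hc : ∀ y, Commute a y) : IsRadical (minpoly ℚ a) := by
  intro n F hF
  refine minpoly.dvd ℚ a (eq_zero_of_central_nilpotent (fun y => ?_) ⟨n, ?_⟩)
  · clear hF
    induction F using Polynomial.induction_on' with
    | add p q hp hq => rw [map_add]; exact hp.add_left hq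
    | monomial i c =>
      rw [aeval_monomial]
      exact (show Commute (algebraMap ℚ R c) y from Algebra.commutes c y).mul_left ((hc y).pow_left i)
  · rw [← map_pow]
    obtain ⟨G, hG⟩ := hF
    rw [hG, map_mul, minpoly.aeval, zero_mul]

/-- The algebra generated by a central element of a semisimple algebra is semisimple. -/
theorem isSemisimpleRing_adjoin_central {a : R} (hc : ∀ y, Commute a y) :
    IsSemisimpleRing (Algebra.adjoin ℚ {a} : Subalgebra ℚ R) := by
  set m := minpoly ℚ a
  have hm : m ≠ 0 := minpoly.ne_zero (IsIntegral.of_finite ℚ a)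
  let Q := ℚ[X] ⧸ Ideal.span {m}
  haveI : IsReduced Q :=
    (Ideal.isRadical_iff_quotient_reduced _).mp (isRadical_iff_span_singleton.mp (isRadical_minpoly_central hc))
  haveI : FiniteDimensional ℚ Q := (AdjoinRoot.powerBasis hm).finite
  haveI : IsArtinianRing Q := .of_finite ℚ Q
  haveI : IsSemisimpleRing Q := IsArtinianRing.isSemisimpleRing_of_isReduced Q
  let e : Q ≃+* (aeval (R := ℚ) a).range := ((Ideal.quotEquivOfEq (by
      ext F
      rw [Ideal.mem_span_singleton, RingHom.mem_ker]
      exact minpoly.dvd_iff)).trans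
    (RingHom.quotientKerEquivRange ((aeval (R := ℚ) a).toRingHom))).trans
      (RingEquiv.refl _)
  haveI := e.isSemisimpleRing
  exact (Subalgebra.equivOfEq _ _ (Algebra.adjoin_singleton_eq_range_aeval ℚ a).symm).toRingEquiv.isSemisimpleRing

end Ring

variable {k : Type u} [Field k]
variable {A : Over (Spec (CommRingCat.of k))} [GrpObj A] [IsProper A.hom] [GeometricallyIntegral A.hom] [IsCommMonObj A]

theorem finite_end0 : Module.Finite ℚ (EndAV.End0 A) := by
  haveI : Nonempty A.left := ⟨η[A].left (IsLocalRing.closedPoint k)⟩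
  obtain ⟨g, hg⟩ := exists_dim A
  haveI : Module.Finite ℤ (EndAV.End A) := (hom_lattice (A := A) (B := A) hg hg).2.1
  infer_instance

/-- An element of the centre of `End` is central in `End⁰`. -/
theorem commute_toEnd0 {φ : EndAV.End A} (h : ∀ ψ : EndAV.End A, Commute φ ψ) (y : EndAV.End0 A) :
    Commute (EndAV.toEnd0 φ) y := by
  induction y using TensorProduct.induction_on with
  | zero => exact Commute.zero_right _
  | tmul q f =>
    show EndAV.toEnd0 φ * q ⊗ₜ f = q ⊗ₜ f * EndAV.toEnd0 φ
    rw [EndAV.toEnd0_apply, Algebra.TensorProduct.tmul_mul_tmul, Algebra.TensorProduct.tmul_mul_tmul,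
      _root_.one_mul, _root_.mul_one, (h f).eq]
  | add a b ha hb => exact ha.add_right hb

/-- The Frobenius is central. -/
theorem commute_frob [Finite k] (πA : A ⟶ A) [IsMonHom πA] (hb : πA.left.base = 𝟙 _)
    (hle : ∀ U : A.left.Opens, U ≤ πA.left ⁻¹ᵁ U)
    (happ : ∀ (U : A.left.Opens) (s : Γ(A.left, U)), (πA.left.appLE U U (hle U)).hom s = s ^ Nat.card k)
    (ψ : EndAV.End A) : Commute (EndAV.End.of πA) ψ :=
  EndAV.End.ext (by
    rw [EndAV.End.toHom_mul, EndAV.End.toHom_mul, EndAV.End.toHom_of]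
    exact (frob_comm πA hb hle happ πA hb hle happ _).symm)

/-- The minimal polynomial of the Frobenius is squarefree, and its algebra is semisimple. -/
theorem frob_semisimple [Finite k] (πA : A ⟶ A) [IsMonHom πA] (hb : πA.left.base = 𝟙 _)
    (hle : ∀ U : A.left.Opens, U ≤ πA.left ⁻¹ᵁ U)
    (happ : ∀ (U : A.left.Opens) (s : Γ(A.left, U)), (πA.left.appLE U U (hle U)).hom s = s ^ Nat.card k) :
    IsSemisimpleRing (EndAV.QAdj (EndAV.End.of πA)) ∧
      IsRadical (minpoly ℚ (EndAV.toEnd0 (EndAV.End.of πA))) ∧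
      Squarefree (minpoly ℚ (EndAV.toEnd0 (EndAV.End.of πA))) := by
  haveI := finite_end0 (A := A)
  haveI : IsSemisimpleRing (EndAV.End0 A) := AgIsog.isSemisimpleRing_end0
  have hc := commute_toEnd0 (commute_frob πA hb hle happ)
  exact ⟨isSemisimpleRing_adjoin_central hc, isRadical_minpoly_central hc,
    (isRadical_minpoly_central hc).squarefree (minpoly.ne_zero (IsIntegral.of_finite ℚ _))⟩

variable (Ω : Type u) [Field Ω] [Algebra k Ω] {l : ℕ} [Fact l.Prime]

/-- The rational representation on `V_l`. -/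
def ratRep : EndAV.End0 A →ₐ[ℚ] Module.End ℚ_[l] (ℚ_[l] ⊗[ℤ_[l]] AbDual.TateMod A l (SGA7.pt (K := k) Ω)) :=
  Algebra.TensorProduct.lift (Algebra.ofId ℚ _)
    { (Module.End.baseChangeHom ℤ_[l] ℚ_[l] (AbDual.TateMod A l (SGA7.pt (K := k) Ω))).toRingHom.comp
        (EndAV.End.tateRep l (SGA7.pt (K := k) Ω)) with
      commutes' := fun n => by
        simp only [eq_intCast]
        exact map_intCast ((Module.End.baseChangeHom ℤ_[l] ℚ_[l]
          (AbDual.TateMod A l (SGA7.pt (K := k) Ω))).toRingHom.comp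
            (EndAV.End.tateRep l (SGA7.pt (K := k) Ω))) n }
    fun q f => Algebra.commutes q _

theorem ratRep_toEnd0 (φ : EndAV.End A) :
    ratRep (l := l) Ω (EndAV.toEnd0 φ) =
      (AbDual.tateMapₗ (l := l) (T := SGA7.pt (K := k) Ω) φ.toHom).baseChange ℚ_[l] := by
  rw [ratRep, EndAV.toEnd0_apply, Algebra.TensorProduct.lift_tmul, map_one, _root_.one_mul]
  rfl

/-- An endomorphism with squarefree minimal polynomial acts semisimply on `V_l`. -/
theorem isSemisimple_tate {φ : EndAV.End A} (h : Squarefree (minpoly ℚ (EndAV.toEnd0 φ))) :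
    Module.End.IsSemisimple
      ((AbDual.tateMapₗ (l := l) (T := SGA7.pt (K := k) Ω) φ.toHom).baseChange ℚ_[l]) := by
  refine Module.End.isSemisimple_of_squarefree_aeval_eq_zero
    (p := (minpoly ℚ (EndAV.toEnd0 φ)).map (algebraMap ℚ ℚ_[l]))
    ((PerfectField.separable_iff_squarefree.mpr h).map.squarefree) ?_
  rw [← ratRep_toEnd0, aeval_map_algebraMap, aeval_algHom_apply, minpoly.aeval, map_zero]

end Groth.Agent.AVDeg
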