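import Groth.Agent.AVDeg.Form
import Groth.Agent.S12028
import Groth.Agent.S12029
import Groth.Agent.S15656
import Mathlib.LinearAlgebra.FreeModule.PID
import Mathlib.FieldTheory.IsAlgClosed.AlgebraicClosure

/-!
The group of homomorphisms of abelian varieties is a lattice inside the maps of Tate modules.
-/

set_option autoImplicit false
set_option backward.isDefEq.respectTransparency false
set_option linter.style.haveILetI false
set_option linter.unusedSectionVars false

universe u

open CategoryTheory CategoryTheory.Limits MonoidalCategory CartesianMonoidalCategory MonObj AlgebraicGeometry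
open TopologicalSpace

noncomputable section

namespace Groth.Agent.AVDeg

variable {k : Type u} [Field k] [IsAlgClosed k] {A B : Over (Spec (CommRingCat.of k))}
variable [GrpObj A] [IsProper A.hom] [GeometricallyIntegral A.hom] [IsCommMonObj A]
variable [GrpObj B] [IsProper B.hom] [GeometricallyIntegral B.hom] [IsCommMonObj B]
variable {l : ℕ} [Fact l.Prime]

/-- Divisibility on the Tate module gives divisibility in homomorphisms. -/
theorem exists_smul_eq_of_dvd_tate (hl : (l : k) ≠ 0) (f : EndAV.Hom A B) (n : ℕ)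
    (h : ∀ t, ∃ w, EndAV.Hom.tateMap l (one' k) f t = ((l : ℤ_[l]) ^ n) • w) :
    ∃ f₁ : EndAV.Hom A B, f = (l ^ n) • f₁ := by
  have hn := natCast_pow_ne_zero' hl n
  have hn0 : l ^ n ≠ 0 := pow_ne_zero n (Fact.out : l.Prime).ne_zero
  haveI := isMonHom_id_pow (A := A) (l ^ n)
  haveI := isFinite_pow_id (A := A) hn0
  haveI := surjective_pow_id (A := A) hn0
  haveI : Etale (𝟙 A ^ (l ^ n)).left := by
    rw [← zpow_natCast]
    exact FieldPow.etale_pow A (by rwa [Int.cast_natCast])
  have hkill : ∀ a : one' k ⟶ A, a ^ (l ^ n) = 1 → a ≫ f.toHom = 1 := fun a ha => by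
    obtain ⟨t, ht⟩ := exists_component_eq hl n (Additive.ofMul a) (congrArg Additive.ofMul ha)
    obtain ⟨w, hw⟩ := h t
    have h1 : ((EndAV.Hom.tateMap l (one' k) f t : AbDual.TateMod B l (one' k)) :
        ℕ → Additive (one' k ⟶ B)) n = Additive.ofMul (a ≫ f.toHom) := by
      show Additive.ofMul ((Additive.toMul ((t : ℕ → Additive (one' k ⟶ A)) n)) ≫ f.toHom) = _
      rw [ht]
      rfl
    rw [hw, AbDual.smul_component] at h1
    have h2 : ((l : ℤ_[l]) ^ n).appr n ≡ 0 [MOD l ^ n] := by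
      rw [← ZMod.natCast_eq_natCast_iff, ← AbDual.toZModPow_eq_appr, toZModPow_natCast_pow, Nat.cast_zero]
    rw [AbDual.nsmul_congr_of_modEq (w.torsion n) h2, zero_smul] at h1
    exact (congrArg Additive.toMul h1).symm
  obtain ⟨ρ, hρ, hfac, -⟩ := exists_factor (𝟙 A ^ (l ^ n)) f.toHom fun a ha => by
    rw [hkill a (by rw [pow_eq_comp, ha, eta_eq_one]), Hom.one_def, toUnit_unit, Category.id_comp]
  haveI := hρ
  refine ⟨EndAV.Hom.of ρ, EndAV.Hom.ext ?_⟩
  rw [EndAV.Hom.toHom_nsmul, EndAV.Hom.toHom_of, ← hfac, MonObj.pow_comp, Category.id_comp]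

/-- The block action on the product of Tate modules. -/
def blockMap : EndAV.Hom A B →+
    Module.End ℤ_[l] (AbDual.TateMod A l (one' k) × AbDual.TateMod B l (one' k)) :=
  AddMonoidHom.mk' (fun f => (LinearMap.inr ℤ_[l] _ _).comp ((EndAV.Hom.tateMap l (one' k) f).comp (LinearMap.fst ℤ_[l] _ _)))
    fun f g => by rw [map_add, LinearMap.add_comp, LinearMap.comp_add]

theorem blockMap_dvd (hl : (l : k) ≠ 0) (f : EndAV.Hom A B) (n : ℕ)
    (h : ∀ v, ∃ w, blockMap (l := l) f v = ((l : ℤ_[l]) ^ n) • w) : ∃ f₁, f = (l ^ n) • f₁ := by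
  refine exists_smul_eq_of_dvd_tate hl f n fun t => ?_
  obtain ⟨w, hw⟩ := h (t, 0)
  exact ⟨w.2, congrArg Prod.snd hw⟩

theorem moduleFinite_tate (hl : (l : k) ≠ 0) :
    Module.Finite ℤ_[l] (AbDual.TateMod A l (one' k)) ∧ Module.Free ℤ_[l] (AbDual.TateMod A l (one' k)) := by
  haveI : Nonempty A.left := ⟨η[A].left (IsLocalRing.closedPoint k)⟩
  obtain ⟨g, hg⟩ := exists_dim A
  obtain ⟨x, b, -, -, -⟩ := exists_tate_basis_av hg hl
  exact ⟨Module.Finite.of_basis b, Module.Free.of_basis b⟩

/-- Independent homomorphisms act independently on Tate modules. -/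
theorem linearIndependent_tateMap (hl : (l : k) ≠ 0) {σ : Type} (a : σ → EndAV.Hom A B) (ha : LinearIndependent ℤ a) :
    LinearIndependent ℤ_[l] fun i => EndAV.Hom.tateMap l (one' k) (a i) := by
  obtain ⟨β, hβs, hβp⟩ := exists_posDef_form (A := A) (B := B)
  have h := Groth.Agent.S12028.result l (EndAV.Hom A B) β hβs hβp
    (AbDual.TateMod A l (one' k) × AbDual.TateMod B l (one' k)) (blockMap (l := l)) (blockMap_dvd hl) σ a ha
  exact LinearIndependent.of_comp
    ((LinearMap.llcomp ℤ_[l] _ _ _ (LinearMap.inr ℤ_[l] (AbDual.TateMod A l (one' k)) _)).comp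
      (LinearMap.lcomp ℤ_[l] _ (LinearMap.fst ℤ_[l] _ (AbDual.TateMod B l (one' k))))) h

theorem exists_prime_ne_zero (k : Type u) [Field k] : ∃ l : ℕ, l.Prime ∧ (l : k) ≠ 0 := by
  by_cases h : (2 : k) = 0
  · refine ⟨3, Nat.prime_three, fun h3 => one_ne_zero (α := k) ?_⟩
    push_cast at h3
    calc (1 : k) = 3 - 2 := by norm_num
      _ = 0 := by rw [h3, h, sub_zero]
  · exact ⟨2, Nat.prime_two, by push_cast; exact h⟩

/-- The lattice of homomorphisms. -/
theorem hom_finite_free : Module.Finite ℤ (EndAV.Hom A B) ∧ Module.Free ℤ (EndAV.Hom A B) := by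
  obtain ⟨l, hp, hl⟩ := exists_prime_ne_zero k
  haveI := Fact.mk hp
  haveI := (moduleFinite_tate (A := A) hl).1
  haveI := (moduleFinite_tate (A := B) hl).1
  obtain ⟨β, hβs, hβp⟩ := exists_posDef_form (A := A) (B := B)
  haveI hfin : Module.Finite ℤ (EndAV.Hom A B) := Groth.Agent.S12029.result l (EndAV.Hom A B) β hβs hβp
    (AbDual.TateMod A l (one' k) × AbDual.TateMod B l (one' k)) (blockMap (l := l)) (blockMap_dvd hl)
  haveI := Groth.Agent.S15656.result k A B
  exact ⟨hfin, Module.free_of_finite_type_torsion_free'⟩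

theorem card_le_of_indep {g h : ℕ} (hg : topologicalKrullDim A.left = (g : WithBot ℕ∞))
    (hh : topologicalKrullDim B.left = (h : WithBot ℕ∞)) {σ : Type} [Fintype σ] (a : σ → EndAV.Hom A B)
    (ha : LinearIndependent ℤ a) : Fintype.card σ ≤ 4 * g * h := by
  obtain ⟨l, hp, hl⟩ := exists_prime_ne_zero k
  haveI := Fact.mk hp
  obtain ⟨x, bA, -, -, -⟩ := exists_tate_basis_av hg hl
  obtain ⟨y, bB, -, -, -⟩ := exists_tate_basis_av hh hl
  haveI := Module.Finite.of_basis bA
  haveI := Module.Finite.of_basis bB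
  haveI := Module.Free.of_basis bA
  haveI := Module.Free.of_basis bB
  refine (linearIndependent_tateMap hl a ha).fintype_card_le_finrank.trans_eq ?_
  rw [Module.finrank_linearMap, Module.finrank_eq_card_basis bA, Module.finrank_eq_card_basis bB, Fintype.card_fin,
    Fintype.card_fin]
  ring

theorem finrank_hom_le {g h : ℕ} (hg : topologicalKrullDim A.left = (g : WithBot ℕ∞))
    (hh : topologicalKrullDim B.left = (h : WithBot ℕ∞)) : Module.finrank ℤ (EndAV.Hom A B) ≤ 4 * g * h := by
  obtain ⟨hfin, hfree⟩ := hom_finite_free (A := A) (B := B)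
  have hb := card_le_of_indep hg hh (Module.finBasis ℤ (EndAV.Hom A B)) (Module.finBasis ℤ (EndAV.Hom A B)).linearIndependent
  rwa [Fintype.card_fin] at hb

end Groth.Agent.AVDeg
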