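import Groth.Agent.FinHopf.Frobenius
import Groth.Agent.FinHopf.Power

/-!
The order of an infinitesimal group scheme is at least `p` to the power of its embedding dimension.
-/

set_option autoImplicit false
set_option linter.unusedSectionVars false

universe u

open Coalgebra Bialgebra

noncomputable section

namespace Groth.Agent.AVDeg

open Groth.Agent.FinHopf

variable {k : Type u} [Field k] (p : ℕ) [hp : Fact p.Prime] [CharP k p]
variable (A : Type u) [CommRing A] [HopfAlgebra k A] [Module.Finite k A]

/-- The cotangent space, inside the algebra modulo the square of the augmentation ideal. -/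
def cotan : Submodule k (A ⧸ ((aug k A) ^ 2).restrictScalars k) :=
  ((aug k A).restrictScalars k).map (((aug k A) ^ 2).restrictScalars k).mkQ

/-- The order is at least `p` to the power of the embedding dimension. -/
theorem pow_finrank_cotan_le : p ^ Module.finrank k (cotan (k := k) A) ≤ Module.finrank k A := by
  classical
  let F := frobIdeal k A p
  let Q := A ⧸ F
  have h1 : ∀ x ∈ aug k Q, x ^ p = 0 := fun x hx => by
    rw [quot_pow_p, show frobCounit p x = 0 from hx]
    simp [zero_pow hp.out.ne_zero]
  obtain ⟨d, x, D, hx, -, hgen, hd⟩ := exists_coords_finrank_eq_pow (k := k) (A := Q) p h1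
  let π := Ideal.Quotient.mkₐ k F
  have hπ : Function.Surjective π := Ideal.Quotient.mk_surjective
  have hcounit : ∀ a, counit (R := k) (π a) = counit (R := k) a := fun a => rfl
  choose x' hx' using fun i => hπ (x i)
  have hx'a : ∀ i, x' i ∈ aug k A := fun i => by
    rw [mem_aug, ← hcounit, hx' i]
    exact mem_aug.1 (hx i)
  have hmap : (aug k A).map π.toRingHom = aug k Q := by
    refine le_antisymm (Ideal.map_le_iff_le_comap.2 fun a ha => ?_) fun q hq => ?_
    · exact mem_aug.2 ((hcounit a).trans (mem_aug.1 ha))
    · obtain ⟨a, rfl⟩ := hπ q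
      exact Ideal.mem_map_of_mem _ (mem_aug.2 ((hcounit a).symm.trans (mem_aug.1 hq)))
  have hF : F ≤ (aug k A) ^ 2 := Ideal.span_le.2 (by
    rintro _ ⟨y, hy, rfl⟩
    exact Ideal.pow_le_pow_right hp.out.two_le (Ideal.pow_mem_pow hy p))
  have hspan : cotan (k := k) A ≤ Submodule.span k
      (Set.range fun i => (((aug k A) ^ 2).restrictScalars k).mkQ (x' i)) := by
    rintro _ ⟨y, hy, rfl⟩
    obtain ⟨c, hc⟩ := hgen (π y) (mem_aug.2 ((hcounit y).trans (mem_aug.1 hy)))
    rw [← hmap, ← Ideal.map_pow] at hc
    have hz : π (y - ∑ i, c i • x' i) = π y - ∑ i, c i • x i := by simp [map_sum, hx']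
    rw [← hz] at hc
    obtain ⟨w, hw, hwe⟩ := (Ideal.mem_map_iff_of_surjective π.toRingHom hπ).1 hc
    have hmem : y - ∑ i, c i • x' i ∈ (aug k A) ^ 2 := by
      have : (y - ∑ i, c i • x' i) - w ∈ F := (Ideal.Quotient.eq).1 hwe.symm
      simpa using add_mem (hF this) hw
    rw [(Submodule.Quotient.eq _).2 (show y - ∑ i, c i • x' i ∈ ((aug k A) ^ 2).restrictScalars k from hmem) |>
      (fun h => (h : (((aug k A) ^ 2).restrictScalars k).mkQ y = _)), ← Submodule.mkQ_apply, map_sum]
    exact Submodule.sum_mem _ fun i _ => by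
      rw [map_smul]; exact Submodule.smul_mem _ _ (Submodule.subset_span ⟨i, rfl⟩)
  calc p ^ Module.finrank k (cotan (k := k) A) ≤ p ^ d := Nat.pow_le_pow_right hp.out.pos
        ((Submodule.finrank_mono hspan).trans ((finrank_range_le_card _).trans (Fintype.card_fin d).le))
    _ = Module.finrank k Q := hd.symm
    _ ≤ Module.finrank k A := LinearMap.finrank_le_finrank_of_surjective (f := π.toLinearMap) hπ

end Groth.Agent.AVDeg
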