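import Groth.Agent.W7Cube.Pic
import Groth.Agent.Nakai.HodgeNum
import Groth.Agent.Nakai.NumDim
import Groth.Agent.Intersect.Numer
import Groth.Agent.Intersect.Pos
import Groth.Agent.CurveRR.Tensor
import Groth.Agent.FEtRank.PushRank
import Groth.Agent.FlatModB.FiniteFlat
import Mathlib.LinearAlgebra.Multilinear.Basic

/-!
Top intersection numbers as a multilinear form on the Picard group, and their behaviour under proper maps.
-/

set_option autoImplicit false
set_option backward.isDefEq.respectTransparency false
set_option linter.style.haveILetI false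
set_option linter.unusedSectionVars false

universe u

open CategoryTheory CategoryTheory.Limits AlgebraicGeometry TopologicalSpace
open Groth.Agent.Intersect Groth.Agent.Nakai
open Groth.Agent.CurveRR.Multi (lenAt)

noncomputable section

namespace Groth.Agent.AVDeg

attribute [local instance] W7Cube.law

variable {k : Type u} [Field k] {X : Scheme.{u}}

/-- A representative of a class. -/
def rep (c : PicLoc.PicSet X) : X.Modules := (PicGrp.exists_eq_cls c).choose

theorem isInvertible_rep (c : PicLoc.PicSet X) : PicF.IsInvertible (rep c) :=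
  (PicGrp.exists_eq_cls c).choose_spec.choose

theorem cls_rep (c : PicLoc.PicSet X) : PicGrp.cls (rep c) (isInvertible_rep c) = c :=
  (PicGrp.exists_eq_cls c).choose_spec.choose_spec.symm

theorem nonempty_rep_iso {L : X.Modules} (hL : PicF.IsInvertible L) :
    Nonempty (rep (PicGrp.cls L hL) ≅ L) :=
  (PicGrp.cls_eq_cls_iff (isInvertible_rep _) hL).1 (cls_rep _)

theorem nonempty_rep_mul (a b : PicLoc.PicSet X) :
    Nonempty (rep (a * b) ≅ CohB1.tensorMod (rep a) (rep b)) := by
  refine (PicGrp.cl_eq_cl_iff _ _).1 ?_
  have h := PicGrp.cls_mul_cls_val (isInvertible_rep a) (isInvertible_rep b)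
  rw [cls_rep, cls_rep] at h
  rw [← h]
  exact congrArg Subtype.val (cls_rep (a * b))

variable [X.Over (Spec (CommRingCat.of k))] [IsProper (X ↘ Spec (CommRingCat.of k))] {r : ℕ}

variable (k) in
/-- The top intersection number. -/
def top (c : Fin r → PicLoc.PicSet X) : ℚ :=
  (-1 : ℚ) ^ r * alt (χt k (Coh.structureModule X) fun i => rep (c i))

theorem top_eq_D (c : Fin r → PicLoc.PicSet X) :
    top k c = (-1 : ℚ) ^ r * D k (List.ofFn fun i => rep (c i)) (Coh.structureModule X) := by
  rw [top, D_ofFn]

theorem D_congr_head {A B : X.Modules} (e : A ≅ B) (l : List X.Modules) (F : X.Modules) :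
    D k (A :: l) F = D k (B :: l) F := by
  rw [D, D, D_iso k l (PicGrp.tensorModIso (Iso.refl F) e)]

theorem top_update_mul (hd : topologicalKrullDim X ≤ (r : WithBot ℕ∞)) (c : Fin r → PicLoc.PicSet X) (i : Fin r)
    (a b : PicLoc.PicSet X) :
    top k (Function.update c i (a * b)) = top k (Function.update c i a) + top k (Function.update c i b) := by
  obtain ⟨n, rfl⟩ : ∃ n, r = n + 1 := ⟨r - 1, by have := i.2; omega⟩
  let σ : Equiv.Perm (Fin (n + 1)) := (finSuccEquiv n).trans (finSuccEquiv' i).symm
  have hperm : ∀ x : PicLoc.PicSet X, D k (List.ofFn fun j => rep (Function.update c i x j)) (Coh.structureModule X) =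
      D k (rep x :: List.ofFn fun j => rep (c (i.succAbove j))) (Coh.structureModule X) := fun x => by
    rw [← D_perm k (Equiv.Perm.ofFn_comp_perm σ _), List.ofFn_succ]
    refine congrArg₂ (fun A l => D k (A :: l) _) ?_ (congrArg List.ofFn (funext fun j => ?_))
    · simp [σ]
    · simp [σ, Function.update_of_ne (Fin.succAbove_ne i j)]
  rw [top_eq_D, top_eq_D, top_eq_D, hperm, hperm, hperm, ← mul_add]
  congr 1
  obtain ⟨e⟩ := nonempty_rep_mul a b
  rw [D_congr_head e, D_cons_get, D_cons_get k (rep a), D_cons_get k (rep b)]
  exact alt_additive k (isCoh_one k) (isInvertible_rep a) (isInvertible_rep b)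
    (forall_get (by simp [List.forall_mem_ofFn_iff, isInvertible_rep]))
    (lt_succ_of_le' ((dim_support_structure (X := X)).le.trans (hd.trans_eq (by simp))))

theorem update_toMul {G : Type*} (c : Fin r → Additive G) (i : Fin r) (x : Additive G) :
    (fun j => Additive.toMul (Function.update c i x j)) =
      Function.update (fun j => Additive.toMul (c j)) i (Additive.toMul x) := by
  funext j
  by_cases h : j = i
  · subst h; simp
  · simp [Function.update_of_ne h]

/-- The top number as a function of one argument. -/
def updateHom (hd : topologicalKrullDim X ≤ (r : WithBot ℕ∞)) (c : Fin r → PicLoc.PicSet X) (i : Fin r) :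
    Additive (PicLoc.PicSet X) →+ ℚ :=
  AddMonoidHom.mk' (fun x => top k (Function.update c i (Additive.toMul x)))
    fun x y => top_update_mul hd c i (Additive.toMul x) (Additive.toMul y)

variable (k) in
/-- The top intersection number as a multilinear form. -/
def topLin (hd : topologicalKrullDim X ≤ (r : WithBot ℕ∞)) :
    MultilinearMap ℤ (fun _ : Fin r => Additive (PicLoc.PicSet X)) ℚ where
  toFun c := top k fun i => Additive.toMul (c i)
  map_update_add' := by
    intro inst c i a b
    obtain rfl : inst = instDecidableEqFin r := Subsingleton.elim _ _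
    rw [update_toMul, update_toMul, update_toMul]
    exact top_update_mul hd _ i (Additive.toMul a) (Additive.toMul b)
  map_update_smul' := by
    intro inst c i z a
    obtain rfl : inst = instDecidableEqFin r := Subsingleton.elim _ _
    rw [update_toMul, update_toMul]
    exact map_zsmul (updateHom hd (fun j => Additive.toMul (c j)) i) z a

theorem topLin_apply (hd : topologicalKrullDim X ≤ (r : WithBot ℕ∞)) (c : Fin r → Additive (PicLoc.PicSet X)) :
    topLin k hd c = top k fun i => Additive.toMul (c i) := rfl

/-- Positivity of the self intersection of an ample class. -/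
theorem top_pos (hd : topologicalKrullDim X = (r : WithBot ℕ∞)) {H : X.Modules} (hH : CohB1.IsAmple H) :
    0 < top k (fun _ : Fin r => PicGrp.cls H hH.1) := by
  obtain ⟨e⟩ := nonempty_rep_iso hH.1
  rw [top, Intersect.χt_congr k _ (L' := fun _ : Fin r => H) fun _ => ⟨e⟩]
  exact alt_pos k r _ (fun _ => hH) _ (isCoh_one k) (dim_support_structure.trans hd)

section Push

variable {Y : Scheme.{u}} [Y.Over (Spec (CommRingCat.of k))] [IsProper (Y ↘ Spec (CommRingCat.of k))]
  (f : Y ⟶ X) [IsProper f] (hf : f ≫ (X ↘ Spec (CommRingCat.of k)) = Y ↘ Spec (CommRingCat.of k))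

include hf

theorem top_pull_eq (hdY : topologicalKrullDim Y ≤ (r : WithBot ℕ∞)) (c : Fin r → PicLoc.PicSet X) :
    top k (fun i => W7Cube.pull f (c i)) =
      (-1 : ℚ) ^ r * alt (χt k ((Scheme.Modules.pushforward f).obj (Coh.structureModule Y)) fun i => rep (c i)) := by
  rw [top]
  congr 1
  rw [Intersect.χt_congr k (Coh.structureModule Y) (L' := fun i => (Scheme.Modules.pullback f).obj (rep (c i))) fun i => ?_]
  · exact alt_push k f hf r _ (fun i => isInvertible_rep _) _ (isCoh_one k)
      ((dim_support_structure (X := Y)).le.trans hdY)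
  · conv => enter [1, 1, 1]; rw [← cls_rep (c i), W7Cube.pull_cls]
    exact nonempty_rep_iso _

/-- Pullback along a map with small image kills the top number. -/
theorem top_pull_eq_zero (hdY : topologicalKrullDim Y ≤ (r : WithBot ℕ∞))
    (himg : topologicalKrullDim (Set.range f) < (r : WithBot ℕ∞)) (c : Fin r → PicLoc.PicSet X) :
    top k (fun i => W7Cube.pull f (c i)) = 0 := by
  haveI := CurveRR.isNoetherian_of_proper k X
  rw [top_pull_eq f hf hdY, alt_eq_zero_of_dim k (isCoh_push' f (isCoh_one k)) (fun i => isInvertible_rep _), mul_zero]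
  refine lt_of_le_of_lt (dim_mono ((support_push_subset f (f.isClosedMap _ isClosed_univ) (Set.subset_univ _)).trans ?_)) himg
  rw [Set.image_univ]

/-- The degree formula for a finite flat map of constant rank. -/
theorem top_pull_finite [IsIntegral X] [IsFinite f] [Flat f] {d : ℕ} (hd : ∀ x, f.finrank x = d)
    (hdX : topologicalKrullDim X = (r : WithBot ℕ∞)) (hdY : topologicalKrullDim Y ≤ (r : WithBot ℕ∞))
    (c : Fin r → PicLoc.PicSet X) :
    top k (fun i => W7Cube.pull f (c i)) = (d : ℚ) * top k c := by
  haveI := CurveRR.isNoetherian_of_proper k X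
  haveI : LocallyOfFinitePresentation f := inferInstance
  have hE := FEtRank.isFinLocFreeOfRank_of_finrank_eq f hd
  let E := (Scheme.Modules.pushforward f).obj (Coh.structureModule Y)
  have hEc : Coh.IsCoh E := isCoh_push' f (isCoh_one k)
  let η := genericPoint X
  obtain ⟨W, hηW, ⟨e⟩⟩ := hE η
  obtain ⟨D₀, hD, hηD, hDW⟩ := exists_isAffineOpen_mem_and_subset hηW
  obtain ⟨l, -⟩ := FEtRank.finrank_sections_of_le e hD hDW
  haveI : Nonempty D₀ := ⟨⟨η, hηD⟩⟩
  have hfr : Module.finrank (X.presheaf.stalk η) (E.presheaf.stalk η) = d := by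
    rw [FlatModB.finrank_stalk_eq hEc.1 hD hηD, Module.rankAtStalk_eq_of_equiv l,
      Module.rankAtStalk_eq_finrank_of_free]
    simp
  have hlen : ∀ F : X.Modules, Coh.IsCoh F →
      (lenAt F η : ℚ) = Module.finrank (X.presheaf.stalk η) (F.presheaf.stalk η) := fun F hF => by
    letI : Field (X.presheaf.stalk η) := inferInstanceAs (Field X.functionField)
    haveI := RegDual.finite_stalk hF η
    rw [lenAt, Module.length_eq_finrank]
    simp
  have hO : Module.finrank (X.presheaf.stalk η) ((Coh.structureModule X).presheaf.stalk η) = 1 :=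
    CurveRR.finrank_stalk_inv TMul.isInvertible_structureModule
  have hO1 := alt_irreducible k hdX (fun i => isInvertible_rep (c i)) (isCoh_one k (X := X))
    (by rw [Intersect.support_structure]; trivial)
  rw [hlen _ (isCoh_one k), hO, Nat.cast_one, one_mul] at hO1
  rw [top_pull_eq f hf hdY, top, hO1]
  by_cases hη : η ∈ CohB1.support E
  · rw [alt_irreducible k hdX (fun i => isInvertible_rep (c i)) hEc hη, hlen _ hEc, hfr]
    ring
  · have hd0 : d = 0 := by
      rw [← hfr]
      haveI : Subsingleton (E.presheaf.stalk η) := not_not.1 hη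
      exact Module.finrank_zero_of_subsingleton
    rw [hd0, Nat.cast_zero, zero_mul]
    refine mul_eq_zero_of_right _ (alt_eq_zero_of_dim k hEc (fun i => isInvertible_rep _) ?_)
    refine dim_proper_lt (X := X) (ξ := η) ?_ (Groth.Agent.QC.isClosed_support hEc.2) (fun x _ => ?_) hη
    · rw [genericPoint_closure]
      exact lt_succ_of_le' ((topologicalKrullDim_subspace_le X _).trans hdX.le)
    · rw [genericPoint_closure]
      trivial

end Push

end Groth.Agent.AVDeg
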