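import Groth.Agent.AVDeg.PointFibre
import Groth.Agent.AVDeg.DivGroup
import Groth.Agent.FieldPow.Main
import Groth.Agent.S0382
import Groth.Prelude.Def_AbDual

/-!
Torsion points of abelian varieties over algebraically closed fields.
-/

set_option autoImplicit false
set_option backward.isDefEq.respectTransparency false
set_option linter.style.haveILetI false
set_option linter.unusedSectionVars false

universe u

open CategoryTheory CategoryTheory.Limits MonoidalCategory CartesianMonoidalCategory MonObj AlgebraicGeometry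
open TopologicalSpace

noncomputable section

namespace Groth.Agent.AVDeg

variable {k : Type u} [Field k] [IsAlgClosed k] {A : Over (Spec (CommRingCat.of k))}
variable [GrpObj A] [IsProper A.hom] [GeometricallyIntegral A.hom] [IsCommMonObj A]

theorem pow_eq_comp (a : one' k ⟶ A) (n : ℕ) : a ^ n = a ≫ (𝟙 A ^ n) := by
  rw [MonObj.comp_pow, Category.comp_id]

theorem surjective_pow_id {n : ℕ} (hn : n ≠ 0) : Surjective (𝟙 A ^ n).left := by
  haveI := isIntegral_av A
  haveI := isMonHom_id_pow (A := A) n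
  haveI := isFinite_pow_id (A := A) hn
  exact GrpField.surjective_of_isFinite _ rfl

/-- The group of points is divisible. -/
theorem surjective_nsmul_points {n : ℕ} (hn : n ≠ 0) :
    Function.Surjective fun a : Additive (one' k ⟶ A) => n • a := fun b => by
  haveI := surjective_pow_id (A := A) hn
  obtain ⟨a, ha⟩ := exists_point_comp (𝟙 A ^ n) (Additive.toMul b)
  exact ⟨Additive.ofMul a, congrArg Additive.ofMul ((pow_eq_comp a n).trans ha)⟩

theorem exists_pow_eq {n : ℕ} (hn : n ≠ 0) (b : one' k ⟶ A) : ∃ a : one' k ⟶ A, a ^ n = b := by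
  haveI := surjective_pow_id (A := A) hn
  obtain ⟨a, ha⟩ := exists_point_comp (𝟙 A ^ n) b
  exact ⟨a, (pow_eq_comp a n).trans ha⟩

theorem eta_eq_one : (η[A] : one' k ⟶ A) = 1 := by rw [Hom.one_def, toUnit_unit, Category.id_comp]

/-- Torsion points as a fibre. -/
def torsEquiv (n : ℕ) : tors (Additive (one' k ⟶ A)) n ≃ {a : one' k ⟶ A // a ≫ (𝟙 A ^ n) = η[A]} where
  toFun a := ⟨Additive.toMul a.1, by
    rw [← pow_eq_comp, eta_eq_one]
    exact congrArg Additive.toMul a.2⟩
  invFun a := ⟨Additive.ofMul a.1, congrArg Additive.ofMul (((pow_eq_comp a.1 n).trans a.2).trans eta_eq_one)⟩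
  left_inv _ := rfl
  right_inv _ := rfl

def torsPtsEquiv (n : ℕ) : AbDual.torsPts A n (one' k) ≃ tors (Additive (one' k ⟶ A)) n where
  toFun a := ⟨Additive.ofMul a.1, congrArg Additive.ofMul a.2⟩
  invFun a := ⟨Additive.toMul a.1, congrArg Additive.toMul a.2⟩
  left_inv _ := rfl
  right_inv _ := rfl

variable {g : ℕ}

theorem natCard_tors_le (hA : topologicalKrullDim A.left = (g : WithBot ℕ∞)) {n : ℕ} (hn : n ≠ 0) :
    Finite (tors (Additive (one' k ⟶ A)) n) ∧ Nat.card (tors (Additive (one' k ⟶ A)) n) ≤ n ^ (2 * g) ∧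
      (Nat.card (tors (Additive (one' k ⟶ A)) n) = n ^ (2 * g) → Etale (𝟙 A ^ n).left) := by
  haveI := isIntegral_av A
  haveI := isMonHom_id_pow (A := A) n
  haveI hfin := isFinite_pow_id (A := A) hn
  haveI := surjective_pow_id (A := A) hn
  haveI : Flat (𝟙 A ^ n).left := GrpField.flat_of_surjective _
  haveI : Finite {a : one' k ⟶ A // a ≫ (𝟙 A ^ n) = η[A]} := (natCard_fibre_le (𝟙 A ^ n) η[A]).1
  obtain ⟨-, hle, -⟩ := natCard_fibre_le (𝟙 A ^ n) η[A]
  have hr : (𝟙 A ^ n).left.finrank (η[A].left (IsLocalRing.closedPoint k)) = n ^ (2 * g) := by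
    rw [finrank_eq_deg hA _ hfin, deg_pow_id hA]
  refine ⟨Finite.of_equiv _ (torsEquiv (A := A) n).symm, ?_, fun h => etale_of_natCard_kernel (𝟙 A ^ n) ?_⟩
  · rw [Nat.card_congr (torsEquiv n), ← hr]
    exact hle
  · rw [hr, ← h, Nat.card_congr (torsEquiv n)]

theorem natCard_tors (hA : topologicalKrullDim A.left = (g : WithBot ℕ∞)) {n : ℕ} (hn : (n : k) ≠ 0) :
    Nat.card (tors (Additive (one' k ⟶ A)) n) = n ^ (2 * g) := by
  have hn0 : n ≠ 0 := fun h => hn (by rw [h, Nat.cast_zero])
  haveI := isMonHom_id_pow (A := A) n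
  haveI hfin := isFinite_pow_id (A := A) hn0
  haveI : Etale (𝟙 A ^ n).left := by
    rw [← zpow_natCast]
    exact FieldPow.etale_pow A (by rwa [Int.cast_natCast])
  rw [Nat.card_congr (torsEquiv n), natCard_fibre_etale, finrank_eq_deg hA _ hfin, deg_pow_id hA]

theorem natCard_tors_eq_iff (hA : topologicalKrullDim A.left = (g : WithBot ℕ∞)) (hg : 0 < g) {n : ℕ} (hn : n ≠ 0) :
    Nat.card (tors (Additive (one' k ⟶ A)) n) = n ^ (2 * g) ↔ (n : k) ≠ 0 := by
  refine ⟨fun h => ?_, natCard_tors hA⟩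
  have he := (natCard_tors_le hA hn).2.2 h
  rw [← zpow_natCast] at he
  have := (Groth.Agent.S0382.result k A (by rw [hA]; exact_mod_cast hg) (n : ℤ)).1 he
  rwa [Int.cast_natCast] at this

theorem natCard_tors_dvd (hA : topologicalKrullDim A.left = (g : WithBot ℕ∞)) (n : ℕ) (hn : n ≠ 0) :
    Nat.card (tors (Additive (one' k ⟶ A)) n) ∣ n ^ (2 * g) := by
  induction n using induction_on_primes with
  | zero => exact absurd rfl hn
  | one => simp [tors_one]
  | prime_mul p a hp ih =>
    have ha : a ≠ 0 := fun h => hn (by rw [h, mul_zero])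
    rw [natCard_tors_mul p a (surjective_nsmul_points hp.ne_zero), mul_pow]
    refine mul_dvd_mul ?_ (ih ha)
    haveI := Fact.mk hp
    obtain ⟨hfin, hle, -⟩ := natCard_tors_le hA hp.ne_zero
    have h1 := Module.natCard_eq_pow_finrank (K := ZMod p) (V := tors (Additive (one' k ⟶ A)) p)
    rw [Nat.card_zmod] at h1
    rw [h1] at hle ⊢
    exact pow_dvd_pow p ((Nat.pow_le_pow_iff_right hp.one_lt).1 hle)

/-- A basis of the torsion. -/
theorem exists_good_points (hA : topologicalKrullDim A.left = (g : WithBot ℕ∞)) {n : ℕ} (hn : (n : k) ≠ 0) :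
    ∃ x : Fin (2 * g) → Additive (one' k ⟶ A), Good n x :=
  exists_good (fun p hp => surjective_nsmul_points hp.ne_zero) n
    (Nat.pos_of_ne_zero fun h => hn (by rw [h, Nat.cast_zero])) fun m hm => natCard_tors hA fun h0 => by
      obtain ⟨d, rfl⟩ := hm
      exact hn (by rw [Nat.cast_mul, h0, zero_mul])

end Groth.Agent.AVDeg
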