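import Groth.Agent.AVDeg.KernelOrder
import Groth.Agent.AVDeg.HopfEmbDim
import Groth.Agent.AVDeg.Torsion
import Groth.Agent.FieldPow.Tangent
import Groth.Agent.S0354

/-!
A homomorphism killing all tangent vectors at the unit has an inseparable part of order at least `p ^ dim`.
-/

set_option autoImplicit false
set_option backward.isDefEq.respectTransparency false
set_option linter.style.haveILetI false
set_option linter.unusedSectionVars false

universe u

open CategoryTheory CategoryTheory.Limits MonoidalCategory CartesianMonoidalCategory MonObj AlgebraicGeometry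
open TopologicalSpace

noncomputable section

namespace Groth.Agent.AVDeg

/-- Functionals separating `m` modulo `m ^ 2` bound the Krull dimension. -/
theorem dim_le_finrank {k O : Type*} [Field k] [CommRing O] [Algebra k O] [IsLocalRing O] [IsNoetherianRing O]
    {M : Type*} [AddCommGroup M] [Module k M] (W : Submodule k M) [Module.Finite k W]
    (L : (IsLocalRing.maximalIdeal O).restrictScalars k →ₗ[k] M)
    (hLW : ∀ a, L a ∈ W) (hL : ∀ a, L a = 0 → (a : O) ∈ IsLocalRing.maximalIdeal O ^ 2)
    {g : ℕ} (hdim : ringKrullDim O = (g : WithBot ℕ∞)) : g ≤ Module.finrank k W := by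
  classical
  let L' := L.codRestrict W hLW
  let b := Module.finBasis k (LinearMap.range L')
  choose a ha using fun j => (b j).2
  let s : Fin (Module.finrank k (LinearMap.range L')) → O := fun j => (a j : O)
  have hle : IsLocalRing.maximalIdeal O ≤ Ideal.span (Set.range s) ⊔
      IsLocalRing.maximalIdeal O • IsLocalRing.maximalIdeal O := by
    intro x hx
    let y : LinearMap.range L' := ⟨L' ⟨x, hx⟩, ⟨_, rfl⟩⟩
    have hz : L' (⟨x, hx⟩ - ∑ j, b.repr y j • a j) = 0 := by
      rw [map_sub, map_sum, sub_eq_zero]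
      simp only [map_smul, ha]
      have := congrArg Subtype.val (b.sum_repr y)
      simp only [AddSubmonoidClass.coe_finset_sum, Submodule.coe_smul] at this
      exact this.symm
    have h2 := hL _ (congrArg Subtype.val hz)
    rw [pow_two, ← Ideal.smul_eq_mul] at h2
    refine Submodule.mem_sup.2 ⟨∑ j, b.repr y j • s j, ?_, _, h2, ?_⟩
    · exact Submodule.sum_mem _ fun j _ => by
        rw [Algebra.smul_def]; exact Ideal.mul_mem_left _ _ (Ideal.subset_span ⟨j, rfl⟩)
    · simp [s]
  have h3 : IsLocalRing.maximalIdeal O ≤ Ideal.span (Set.range s) :=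
    Submodule.le_of_le_smul_of_le_jacobson_bot (IsNoetherian.noetherian _)
      (IsLocalRing.maximalIdeal_le_jacobson _) hle
  have h4 : IsLocalRing.maximalIdeal O = Ideal.span (Set.range s) :=
    le_antisymm h3 (Ideal.span_le.2 (by rintro _ ⟨j, rfl⟩; exact (a j).2))
  have h5 : (IsLocalRing.maximalIdeal O).spanFinrank ≤ Module.finrank k (LinearMap.range L') := by
    refine le_trans (le_of_eq (congrArg Submodule.spanFinrank h4)) ?_
    refine (Submodule.spanFinrank_span_le_ncard_of_finite (Set.finite_range s)).trans ?_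
    rw [← Set.image_univ]
    exact (Set.ncard_image_le Set.finite_univ).trans (by rw [Set.ncard_univ, Nat.card_fin])
  have h6 : ringKrullDim O ≤ ((Module.finrank k (LinearMap.range L') : ℕ) : WithBot ℕ∞) :=
    (ringKrullDim_le_spanFinrank_maximalIdeal (R := O)).trans (by exact_mod_cast h5)
  rw [hdim] at h6
  exact le_trans (by exact_mod_cast h6) (Submodule.finrank_le _)

open Groth.Agent.FieldPow in
/-- The number of kernel points of a homomorphism killing the tangent space. -/
theorem exists_card_mul_kernel_pow {k : Type u} [Field k] [IsAlgClosed k] (p : ℕ) [Fact p.Prime] [CharP k p]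
    {A B : Over (Spec (CommRingCat.of k))} [GrpObj A] [IsProper A.hom] [GeometricallyIntegral A.hom] [IsCommMonObj A]
    [GrpObj B] [IsProper B.hom] (φ : A ⟶ B) [IsMonHom φ] [IsFinite φ.left] [Flat φ.left]
    {g : ℕ} (hA : topologicalKrullDim A.left = (g : WithBot ℕ∞))
    (hφ : ∀ P : tob k k ⟶ A, tzero k k ≫ P = 1 → P ≫ φ = 1) :
    ∃ e : ℕ, φ.left.finrank (η[B].left (IsLocalRing.closedPoint k)) =
        Nat.card {a : one' k ⟶ A // a ≫ φ = η[B]} * e ∧ p ^ g ≤ e := by
  classical
  haveI := isIntegral_av A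
  haveI : IsClosedImmersion η[B].left :=
    isClosedImmersion_of_comp_eq_id B.hom η[B].left (Over.w η[B])
  let q : pullback φ.left η[B].left ⟶ Spec (CommRingCat.of k) := pullback.snd φ.left η[B].left
  let K : Over (Spec (CommRingCat.of k)) := Over.mk q
  let i : K ⟶ A := Over.homMk (pullback.fst φ.left η[B].left) (by
    show pullback.fst φ.left η[B].left ≫ A.hom = q
    rw [← Over.w φ, ← Category.assoc, pullback.condition, Category.assoc, Over.w η[B]]
    exact Category.comp_id _)
  haveI : IsClosedImmersion i.left := MorphismProperty.pullback_fst _ _ ‹IsClosedImmersion η[B].left›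
  obtain ⟨hK, hi⟩ := GrpField.SchImg.exists_grpObj_of_div i
    ⟨Over.homMk (pullback.lift η[A].left (𝟙 _) (by
        rw [← Over.comp_left, IsMonHom.one_hom φ]; exact (Category.id_comp _).symm)) (pullback.lift_snd _ _ _),
      Over.OverMorphism.ext (pullback.lift_fst _ _ _)⟩
    fun T k₁ k₂ => by
      have hz : ∀ z : T ⟶ K, (z ≫ i) ≫ φ = 1 := fun z => Over.OverMorphism.ext (by
        have hz' : z.left ≫ q = T.hom := Over.w z
        rw [Hom.one_def, Over.comp_left, Over.comp_left, Over.comp_left, Category.assoc,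
          show i.left ≫ φ.left = q ≫ η[B].left from pullback.condition, ← Category.assoc, hz', Over.toUnit_left])
      have h0 : ((k₁ ≫ i)⁻¹ * (k₂ ≫ i)) ≫ φ = 1 := by
        rw [MonObj.mul_comp, GrpObj.inv_comp, hz, hz, inv_one, _root_.one_mul]
      refine ⟨Over.homMk (pullback.lift ((k₁ ≫ i)⁻¹ * (k₂ ≫ i)).left T.hom (by
        rw [← Over.comp_left, h0, Hom.one_def, Over.comp_left, Over.toUnit_left])) (pullback.lift_snd _ _ _), ?_⟩
      exact Over.OverMorphism.ext (pullback.lift_fst _ _ _)
  haveI := hi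
  haveI : IsFinite K.hom := MorphismProperty.pullback_snd _ _ ‹IsFinite φ.left›
  haveI : IsAffine K.left := isAffine_of_isAffineHom K.hom
  obtain ⟨C, hC, e, -⟩ := FinHopf.exists_hopf K
  letI := hC
  let f := Spec.map (CommRingCat.ofHom (algebraMap k C))
  have hf : f = e.hom.left ≫ K.hom := (Over.w e.hom).symm
  haveI : IsIso e.hom.left := inferInstanceAs (IsIso ((Over.forget _).map e.hom))
  have hfin : (algebraMap k C).Finite := by
    have : IsFinite f := by rw [hf]; infer_instance
    exact (IsFinite.SpecMap_iff _).mp this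
  haveI : Module.Finite k C := RingHom.finite_algebraMap.1 hfin
  obtain ⟨x, hH, n, -, -, hinf, -, Φ, hΦ⟩ := FinHopf.exists_decomposition (k := k) (A := C)
  haveI := hH
  let D := C ⧸ Ideal.span {x}
  haveI : Nontrivial D := FinHopf.nontrivial_of_hopf k D
  haveI : IsLocalRing D := .of_isUnit_or_isUnit_one_sub_self fun a => by
    by_cases h : Coalgebra.counit (R := k) a = 0
    · exact Or.inr (FinHopf.isUnit_of_counit_ne_zero hinf (by rw [map_sub, h, Bialgebra.counit_one, sub_zero]; exact one_ne_zero))
    · exact Or.inl (FinHopf.isUnit_of_counit_ne_zero hinf h)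
  have huniq : ∀ w : PrimeSpectrum D, w.asIdeal = IsLocalRing.maximalIdeal D := fun w => by
    refine le_antisymm (IsLocalRing.le_maximalIdeal w.isPrime.ne_top) fun a ha => ?_
    have h0 : Coalgebra.counit (R := k) a = 0 := by
      by_contra h
      exact ha (FinHopf.isUnit_of_counit_ne_zero hinf h)
    obtain ⟨m, hm⟩ := hinf a h0
    exact w.isPrime.mem_of_pow_mem m (by rw [hm]; exact zero_mem _)
  haveI : Subsingleton (PrimeSpectrum D) := ⟨fun a b => PrimeSpectrum.ext ((huniq a).trans (huniq b).symm)⟩
  haveI : Nonempty (PrimeSpectrum D) := inferInstance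
  haveI : Unique (PrimeSpectrum D) := uniqueOfSubsingleton (Classical.arbitrary _)
  refine ⟨Module.finrank k D, ?_, ?_⟩
  · have hg : Nat.card (PrimeSpectrum C) = n := by
      rw [Nat.card_congr (PrimeSpectrum.comapEquiv (RingEquiv.ofBijective Φ.toRingHom hΦ)).toEquiv,
        Nat.card_congr (Equiv.ofBijective (PrimeSpectrum.sigmaToPi fun _ : Fin n => D)
          ⟨PrimeSpectrum.sigmaToPi_injective _, fun w => by
            obtain ⟨j, v, hv⟩ := PrimeSpectrum.exists_comap_evalRingHom_eq w
            exact ⟨⟨j, v⟩, hv⟩⟩).symm, Nat.card_sigma]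
      simp [Nat.card_unique]
    haveI : DiscreteTopology ↥(pullback φ.left η[B].left) := SpQS.discrete_of_isFinite q
    have hcard : Nat.card {a : one' k ⟶ A // a ≫ φ = η[B]} = Nat.card (PrimeSpectrum C) := by
      refine Eq.trans ?_ (Nat.card_congr e.hom.left.homeomorph.toEquiv).symm
      exact Nat.card_congr ((fibreEquiv φ η[B]).trans
        (({ toFun := fun s => ⟨pullback.lift s.1 (𝟙 _) (by rw [s.2, Category.id_comp]), pullback.lift_snd _ _ _⟩
            invFun := fun w => ⟨w.1 ≫ pullback.fst _ _, by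
              rw [Category.assoc, pullback.condition, ← Category.assoc, w.2, Category.id_comp]⟩
            left_inv := fun s => Subtype.ext (pullback.lift_fst _ _ _)
            right_inv := fun w => Subtype.ext (pullback.hom_ext (pullback.lift_fst _ _ _)
              ((pullback.lift_snd _ _ _).trans w.2.symm)) } :
            {s : Spec (CommRingCat.of k) ⟶ A.left // s ≫ φ.left = η[B].left} ≃
              {w : Spec (CommRingCat.of k) ⟶ pullback φ.left η[B].left // w ≫ q = 𝟙 _}).trans
          ((pointEquivClosedPoint q).trans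
            (Equiv.subtypeUnivEquiv fun z => mem_closedPoints_iff.2 (isClosed_discrete {z})))))
    rw [hcard, hg, ← Scheme.Hom.finrank_pullback_snd φ.left η[B].left (IsLocalRing.closedPoint k)]
    show q.finrank _ = _
    have hflat : (algebraMap k C).Flat := RingHom.flat_algebraMap_iff.2 inferInstance
    rw [← Scheme.Hom.finrank_comp_left_of_isIso e.hom.left q, show e.hom.left ≫ q = f from hf.symm,
      Scheme.Hom.finrank_SpecMap_algebraMap k C, Module.rankAtStalk_eq_finrank_of_free]
    exact FinHopf.finrank_eq_of_decomposition Φ hΦ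
  -- the component of the unit
  let Ψ : C ≃+* (Fin n → D) := RingEquiv.ofBijective Φ.toRingHom hΦ
  let u0 : Spec (CommRingCat.of k) ⟶ pullback φ.left η[B].left := pullback.lift η[A].left (𝟙 _) (by
    rw [← Over.comp_left, IsMonHom.one_hom φ]; exact (Category.id_comp _).symm)
  obtain ⟨u, hu⟩ := Spec.map_surjective (u0 ≫ inv e.hom.left)
  let s : Fin n → C := fun j => Ψ.symm (Pi.single j 1)
  obtain ⟨j, hj⟩ : ∃ j, u.hom (s j) ≠ 0 := by
    by_contra h
    push Not at h
    have h1 : ∑ j, s j = 1 := by rw [← map_sum, Finset.univ_sum_single]; exact map_one _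
    have := congrArg u.hom h1
    rw [map_sum, Finset.sum_eq_zero fun j _ => h j, map_one] at this
    exact zero_ne_one this
  let prD : C →+* D := (Pi.evalRingHom (fun _ : Fin n => D) j).comp Ψ.toRingHom
  have hfac : ∀ {R : Type u} [CommRing R] (χ : C →+* R), IsUnit (χ (s j)) →
      ∃ χ' : D →+* R, χ'.comp prD = χ := by
    intro R _ χ hχ
    have hidem : χ (s j) * χ (s j) = χ (s j) := by
      rw [← map_mul, ← map_mul, ← Pi.single_mul, _root_.one_mul]
    have h1 : χ (s j) = 1 := hχ.mul_left_cancel (hidem.trans (_root_.mul_one _).symm)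
    refine ⟨{ toFun := fun d => χ (Ψ.symm (Pi.single j d))
              map_one' := h1
              map_mul' := fun a b => by rw [Pi.single_mul, map_mul, map_mul]
              map_zero' := by rw [Pi.single_zero, map_zero, map_zero]
              map_add' := fun a b => by rw [Pi.single_add, map_add, map_add] }, RingHom.ext fun c => ?_⟩
    show χ (Ψ.symm (Pi.single j (Ψ c j))) = χ c
    have : Pi.single j (Ψ c j) = Ψ c * Pi.single j 1 := funext fun l => by
      by_cases hl : l = j
      · subst hl; simp
      · simp [Pi.single_eq_of_ne hl]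
    rw [this, map_mul, Ψ.symm_apply_apply, map_mul, show χ (Ψ.symm (Pi.single j 1)) = 1 from h1, _root_.mul_one]
  obtain ⟨u', hu'⟩ := hfac u.hom (Ne.isUnit hj)
  -- the map from the local ring
  let gD : Spec (CommRingCat.of D) ⟶ A.left := Spec.map (CommRingCat.ofHom prD) ≫ e.hom.left ≫ i.left
  have hgD : gD (IsLocalRing.closedPoint D) = ept A := by
    have hpt : Spec.map (CommRingCat.ofHom u') (IsLocalRing.closedPoint k) = IsLocalRing.closedPoint D :=
      Subsingleton.elim (α := PrimeSpectrum D) _ _
    rw [← hpt, ← Scheme.Hom.comp_apply]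
    show (Spec.map (CommRingCat.ofHom u') ≫ Spec.map (CommRingCat.ofHom prD) ≫ e.hom.left ≫ i.left) _ = _
    rw [← Spec.map_comp_assoc, ← CommRingCat.ofHom_comp, hu']
    show (Spec.map u ≫ e.hom.left ≫ i.left) _ = _
    rw [hu, Category.assoc, IsIso.inv_hom_id_assoc]
    show (u0 ≫ pullback.fst _ _) _ = _
    rw [pullback.lift_fst]
    rfl
  obtain ⟨π, hπ⟩ := Cartier.exists_Spec_map_fromSpecStalk (A := CommRingCat.of D) gD hgD
  haveI : IsLocallyNoetherian A.left := LocallyOfFiniteType.isLocallyNoetherian A.hom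
  set m := IsLocalRing.maximalIdeal (O A)
  letI : Algebra k (O A) := (ic A).hom.toAlgebra
  have hπi : ∀ c : k, π.hom ((ic A).hom c) = algebraMap k D c := by
    have h : ic A ≫ π = CommRingCat.ofHom (algebraMap k D) := Spec.map_injective (by
      rw [Spec.map_comp, map_ic, reassoc_of% hπ]
      show (Spec.map (CommRingCat.ofHom prD) ≫ e.hom.left ≫ i.left) ≫ A.hom = _
      rw [Category.assoc, Category.assoc, Over.w i, ← hf, ← Spec.map_comp]
      congr 1
      ext c : 2
      exact congrFun (Φ.commutes c) j)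
    exact fun c => congrArg (fun h => h.hom c) h
  -- tangent vectors of the kernel
  have htan : ∀ (P : tob k k ⟶ A) (δ : O A → k), Rep P δ →
      ∃ χ : D →+* TrivSqZeroExt k k, ∀ a, (χ (π.hom a)).fst = (εc A).hom a ∧ (χ (π.hom a)).snd = δ a := by
    intro P δ hP
    have hz := hP.tzero
    have hker := hφ P hz
    obtain ⟨θ, hθ, hθf, hθs⟩ := hP
    let lP : Spec (CommRingCat.of (TrivSqZeroExt k k)) ⟶ pullback φ.left η[B].left :=
      pullback.lift P.left (tob k k).hom (by
        have := congrArg (fun r : tob k k ⟶ B => r.left) hker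
        simpa [Hom.one_def, Over.toUnit_left] using this)
    obtain ⟨χ, hχ⟩ := Spec.map_surjective (lP ≫ inv e.hom.left)
    let fK : CommRingCat.of (TrivSqZeroExt k k) ⟶ CommRingCat.of k :=
      CommRingCat.ofHom (TrivSqZeroExt.fstHom ℤ k k).toRingHom
    have hχu : χ ≫ fK = u := Spec.map_injective (by
      rw [Spec.map_comp, hχ, hu, ← Category.assoc]
      congr 1
      refine pullback.hom_ext ?_ ?_
      · rw [Category.assoc]
        show _ ≫ lP ≫ pullback.fst _ _ = u0 ≫ pullback.fst _ _
        rw [pullback.lift_fst, pullback.lift_fst]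
        have := congrArg (fun r : 𝟙_ (Over (Spec (CommRingCat.of k))) ⟶ A => r.left) hz
        simp only [Hom.one_def, Over.comp_left, Over.toUnit_left] at this
        exact this.trans (Category.id_comp _)
      · rw [Category.assoc]
        show _ ≫ lP ≫ pullback.snd _ _ = u0 ≫ pullback.snd _ _
        rw [pullback.lift_snd, pullback.lift_snd]
        exact Over.w (tzero k k))
    obtain ⟨χ', hχ'⟩ := hfac χ.hom (by
      rw [TrivSqZeroExt.isUnit_iff_isUnit_fst]
      have h1 : (χ.hom (s j)).fst = u.hom (s j) := congrArg (fun h => h.hom (s j)) hχu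
      rw [h1]
      exact Ne.isUnit hj)
    have hcomp : π ≫ CommRingCat.ofHom χ' = θ := Spec.map_injective ((cancel_mono (A.left.fromSpecStalk (ept A))).1 (by
      rw [Spec.map_comp, Category.assoc, hπ, hθ]
      show Spec.map (CommRingCat.ofHom χ') ≫ Spec.map (CommRingCat.ofHom prD) ≫ e.hom.left ≫ i.left = _
      rw [← Spec.map_comp_assoc, ← CommRingCat.ofHom_comp, hχ']
      show Spec.map χ ≫ e.hom.left ≫ i.left = _
      rw [hχ, Category.assoc, IsIso.inv_hom_id_assoc]
      exact pullback.lift_fst _ _ _))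
    refine ⟨χ', fun a => ?_⟩
    have h1 : χ' (π.hom a) = θ.hom a := congrArg (fun h => h.hom a) hcomp
    rw [h1]
    exact ⟨hθf a, hθs a⟩
  have haug : ∀ a ∈ m, π.hom a ∈ FinHopf.aug k D := by
    intro a ha
    by_contra h
    obtain ⟨χ, hχ⟩ := htan 1 _ rep_one
    have h1 := ((FinHopf.isUnit_of_counit_ne_zero hinf h).map χ)
    rw [TrivSqZeroExt.isUnit_iff_isUnit_fst, (hχ a).1] at h1
    have h0 : (εc A).hom a = 0 := by rw [← RingHom.mem_ker, ker_εc]; exact ha
    exact h1.ne_zero h0
  have hsep : ∀ a ∈ m, π.hom a ∈ (FinHopf.aug k D) ^ 2 → a ∈ m ^ 2 := by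
    intro a ha h2
    by_contra hne
    let V : Submodule k (O A) := (m ^ 2).restrictScalars k ⊔ Submodule.span k {(1 : O A)}
    have ha0 : (εc A).hom a = 0 := by rw [← RingHom.mem_ker, ker_εc]; exact ha
    have hbV : a ∉ V := by
      intro hb
      obtain ⟨z, hz, y, hy, e'⟩ := Submodule.mem_sup.1 hb
      obtain ⟨c, rfl⟩ := Submodule.mem_span_singleton.1 hy
      rw [Submodule.restrictScalars_mem] at hz
      have hz0 : (εc A).hom z = 0 := by
        rw [← RingHom.mem_ker, ker_εc]; exact Ideal.pow_le_self two_ne_zero hz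
      have hc : c = 0 := by
        have h := congrArg (εc A).hom e'
        rw [map_add, ha0, hz0, zero_add, Algebra.smul_def, _root_.mul_one] at h
        exact (εc_ic A c).symm.trans h
      rw [hc, zero_smul, add_zero] at e'
      exact hne (e' ▸ hz)
    obtain ⟨F, hFb, hFV⟩ := Submodule.exists_dual_map_eq_bot_of_notMem hbV inferInstance
    have hF0 : ∀ z ∈ V, F z = 0 := fun z hz => by
      have := Submodule.mem_map_of_mem (f := F) hz
      rwa [hFV] at this
    have hm : ∀ b, b - (ic A).hom ((εc A).hom b) ∈ m := fun b => by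
      rw [show m = _ from (ker_εc A).symm, RingHom.mem_ker, map_sub, εc_ic, sub_self]
    have hFi : ∀ c, F ((ic A).hom c) = 0 := fun c => hF0 _ (Submodule.mem_sup_right
      (Submodule.mem_span_singleton.2 ⟨c, by rw [Algebra.smul_def, _root_.mul_one]; rfl⟩))
    have hδ : ∀ z y, F (z * y) = (εc A).hom z • F y + (εc A).hom y • F z := by
      intro z y
      have h0 : F ((z - (ic A).hom ((εc A).hom z)) * (y - (ic A).hom ((εc A).hom y))) = 0 :=
        hF0 _ (Submodule.mem_sup_left (by
          rw [Submodule.restrictScalars_mem, pow_two]; exact Ideal.mul_mem_mul (hm z) (hm y)))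
      have e' : z * y = (εc A).hom z • y + (εc A).hom y • z
          - (ic A).hom ((εc A).hom z * (εc A).hom y)
          + (z - (ic A).hom ((εc A).hom z)) * (y - (ic A).hom ((εc A).hom y)) := by
        simp only [Algebra.smul_def, RingHom.algebraMap_toAlgebra, map_mul]; ring
      rw [e', map_add, map_sub, map_add, map_smul, map_smul, h0, hFi, sub_zero, add_zero]
    obtain ⟨P, hP⟩ := exists_rep_derivation F.toAddMonoidHom hδ hFi
    obtain ⟨χ, hχ⟩ := htan P _ hP
    have hnil : ∀ y ∈ FinHopf.aug k D, (χ y).fst = 0 := fun y hy => by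
      obtain ⟨r, hr⟩ := hinf y hy
      have := congrArg (fun z => ((TrivSqZeroExt.fstHom ℤ k k) z)) (congrArg χ hr)
      simp only [map_pow, map_zero] at this
      exact eq_zero_of_pow_eq_zero this
    have hsq : χ (π.hom a) = 0 := by
      rw [pow_two] at h2
      refine Submodule.mul_induction_on h2 (fun y hy z hz => ?_) fun y z hy hz => by rw [map_add, hy, hz, add_zero]
      rw [map_mul]
      exact TrivSqZeroExt.ext (by simp [hnil y hy]) (by simp [hnil y hy, hnil z hz])
    have := (hχ a).2
    rw [hsq] at this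
    exact hFb this.symm
  let S2 := ((FinHopf.aug k D) ^ 2).restrictScalars k
  let πl : O A →ₗ[k] D :=
    { toFun := fun a => π.hom a
      map_add' := fun a b => map_add _ a b
      map_smul' := fun c a => by
        show π.hom (c • a) = c • π.hom a
        rw [Algebra.smul_def, Algebra.smul_def, map_mul, RingHom.algebraMap_toAlgebra, hπi] }
  have hdim : ringKrullDim (O A) = (g : WithBot ℕ∞) := by
    refine (Groth.Agent.S0354.result k A (ept A) ?_).trans hA
    haveI : IsClosedImmersion η[A].left := isClosedImmersion_of_comp_eq_id A.hom η[A].left (Over.w η[A])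
    exact (pointEquivClosedPoint A.hom ⟨η[A].left, Over.w η[A]⟩).2
  refine le_trans (Nat.pow_le_pow_right (Fact.out : p.Prime).pos
    (dim_le_finrank (cotan (k := k) D) (S2.mkQ ∘ₗ πl ∘ₗ (m.restrictScalars k).subtype)
      (fun a => Submodule.mem_map_of_mem (haug _ a.2))
      (fun a ha => hsep _ a.2 ((Submodule.Quotient.mk_eq_zero _).1 ha)) hdim)) (pow_finrank_cotan_le p D)

end Groth.Agent.AVDeg

namespace Groth.Agent.AVDeg

open Groth.Agent.FieldPow in
/-- The `p`-rank. -/
theorem exists_pRank {k : Type u} [Field k] [IsAlgClosed k] (p : ℕ) [Fact p.Prime] [CharP k p]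
    {A : Over (Spec (CommRingCat.of k))} [GrpObj A] [IsProper A.hom] [GeometricallyIntegral A.hom] [IsCommMonObj A]
    {g : ℕ} (hA : topologicalKrullDim A.left = (g : WithBot ℕ∞)) :
    ∃ i : ℕ, i ≤ g ∧ (∀ m, Nat.card (tors (Additive (one' k ⟶ A)) (p ^ m)) = (p ^ m) ^ i) ∧
      ∀ m, Nonempty ((Fin i → ZMod (p ^ m)) ≃+ tors (Additive (one' k ⟶ A)) (p ^ m)) := by
  have hp : p.Prime := Fact.out
  obtain ⟨hfin, -, -⟩ := natCard_tors_le hA hp.ne_zero
  haveI := hfin
  obtain ⟨i, hi⟩ : ∃ i, Nat.card (tors (Additive (one' k ⟶ A)) p) = p ^ i :=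
    ⟨_, by rw [Module.natCard_eq_pow_finrank (K := ZMod p) (V := tors (Additive (one' k ⟶ A)) p), Nat.card_zmod]⟩
  haveI := isIntegral_av A
  haveI := isMonHom_id_pow (A := A) p
  haveI hff := isFinite_pow_id (A := A) hp.ne_zero
  haveI := surjective_pow_id (A := A) hp.ne_zero
  haveI : Flat (𝟙 A ^ p).left := GrpField.flat_of_surjective _
  have hkill : ∀ P : tob k k ⟶ A, tzero k k ≫ P = 1 → P ≫ (𝟙 A ^ p) = 1 := fun P hP => by
    obtain ⟨δ, hδ⟩ := exists_rep hP
    rw [MonObj.comp_pow, Category.comp_id, ← zpow_natCast]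
    refine (hδ.zpow (p : ℤ)).ext ?_
    convert rep_one (G := A) (M := k) using 1
    funext a
    rw [natCast_zsmul, nsmul_eq_mul, CharP.cast_eq_zero, zero_mul]
  obtain ⟨e, he, hle⟩ := exists_card_mul_kernel_pow p (𝟙 A ^ p) hA hkill
  rw [finrank_eq_deg hA _ hff, deg_pow_id hA, ← Nat.card_congr (torsEquiv p), hi] at he
  have hig : i ≤ g := by
    have h1 : p ^ i * p ^ g ≤ p ^ (2 * g) := he.symm ▸ Nat.mul_le_mul_left _ hle
    rw [← pow_add] at h1
    have := (Nat.pow_le_pow_iff_right hp.one_lt).1 h1
    omega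
  have hc : ∀ m, Nat.card (tors (Additive (one' k ⟶ A)) (p ^ m)) = (p ^ m) ^ i := fun m => by
    induction m with
    | zero => rw [pow_zero, tors_one, one_pow]; exact Nat.card_unique
    | succ m ih =>
      rw [pow_succ', natCard_tors_mul p (p ^ m) (surjective_nsmul_points hp.ne_zero), ih, hi, mul_pow]
  obtain ⟨x, -, hx⟩ := exists_good_seq (r := i) (surjective_nsmul_points (A := A) hp.ne_zero) hi
  exact ⟨i, hig, hc, fun m => by
    haveI : NeZero (p ^ m) := ⟨pow_ne_zero m hp.ne_zero⟩
    exact (hx m).nonempty_equiv (hc m)⟩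

end Groth.Agent.AVDeg
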