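import Groth.Agent.AVDeg.TateAV
import Groth.Agent.GrpField.RatClosure
import Groth.Agent.GrpComp.Identity
import Groth.Agent.ClosedRep.GeomIntegral

/-!
Abelian subvarieties spanned by groups of points.
-/

set_option autoImplicit false
set_option backward.isDefEq.respectTransparency false
set_option linter.style.haveILetI false
set_option linter.unusedSectionVars false

universe u

open CategoryTheory CategoryTheory.Limits MonoidalCategory CartesianMonoidalCategory MonObj AlgebraicGeometry
open TopologicalSpace
open Groth.Agent.GrpField.RatClosure (pt)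

noncomputable section

namespace Groth.Agent.AVDeg

attribute [local instance] overInst

variable {k : Type u} [Field k] [IsAlgClosed k] {A : Over (Spec (CommRingCat.of k))}
variable [GrpObj A] [IsProper A.hom] [GeometricallyIntegral A.hom] [IsCommMonObj A]

/-- An abelian subvariety containing a finite index part of a group of points, and contained in its closure. -/
theorem exists_subAV (S : Subgroup (one' k ⟶ A)) :
    ∃ (G₀ : Over (Spec (CommRingCat.of k))) (_ : GrpObj G₀) (j : G₀ ⟶ A) (_ : IsMonHom j) (F : Set (one' k ⟶ A)),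
      IsProper G₀.hom ∧ GeometricallyIntegral G₀.hom ∧ IsClosedImmersion j.left ∧ F.Finite ∧
        (∀ s ∈ S, ∃ f ∈ F, ∃ p : one' k ⟶ G₀, s = f * (p ≫ j)) ∧
        Set.range j.left ⊆ closure (pt '' (S : Set _)) := by
  classical
  obtain ⟨H, hH, i, hi, hic, hsm, hr⟩ := GrpField.RatClosure.exists_subgroup_closure (G := A) S
  haveI : IsProper (i.left ≫ A.hom) := inferInstance
  haveI : IsProper H.hom := by rw [← Over.w i]; infer_instance
  haveI := CurveRR.isNoetherian_of_proper k H.left
  obtain ⟨G₀, hG₀, incl, hincl, hc0, hfl, hr0, hgirr, -, -⟩ := GrpComp.exists_identity_subgroup H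
  haveI : IsProper (incl.left ≫ H.hom) := inferInstance
  haveI : IsProper G₀.hom := by rw [← Over.w incl]; infer_instance
  haveI : LocallyOfFinitePresentation incl.left := inferInstance
  haveI : IsOpenImmersion incl.left := IsOpenImmersion.of_flat_of_mono incl.left
  haveI : Smooth (incl.left ≫ H.hom) := inferInstance
  haveI : Smooth G₀.hom := by rw [← Over.w incl]; infer_instance
  haveI : GeometricallyConnected G₀.hom := ⟨fun K _ y Z fst snd h => by
    haveI : IrreducibleSpace Z := hgirr.geometrically_irreducibleSpace y fst snd h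
    infer_instance⟩
  haveI : GeometricallyIntegral G₀.hom := ClosedRep.GeomIntegral.geometricallyIntegral_of_smooth G₀.hom
  haveI : Surjective (𝟙 H.left) := inferInstance
  have key : ∀ a b : one' k ⟶ H, pt b ∈ connectedComponent (pt a) →
      ∃ p : one' k ⟶ G₀, a⁻¹ * b = p ≫ incl := fun a b hab => by
    let τ : H ⟶ H := (toUnit H ≫ a⁻¹) * 𝟙 H
    have hτ : ∀ c : one' k ⟶ H, c ≫ τ = a⁻¹ * c := fun c => by
      simp only [τ, MonObj.comp_mul, Category.comp_id, ← Category.assoc]
      rw [show c ≫ toUnit H = 𝟙 _ from toUnit_unique _ _, Category.id_comp]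
    have h1 : pt (a⁻¹ * b) ∈ connectedComponent (pt (a⁻¹ * a)) := by
      rw [← hτ a, ← hτ b]
      exact τ.left.continuous.image_connectedComponent_subset _ ⟨_, hab, rfl⟩
    have h2 : pt (a⁻¹ * a) = GrpComp.ept H := by
      rw [inv_mul_cancel, Hom.one_def, toUnit_unit, Category.id_comp]
      rfl
    rw [h2, ← hr0] at h1
    obtain ⟨g, hg⟩ := GrpComp.exists_factor_flat incl.left (a⁻¹ * b).left (by
      rintro _ ⟨z, rfl⟩
      have : Subsingleton (one' k).left := inferInstanceAs (Subsingleton (PrimeSpectrum k))
      rw [Subsingleton.elim z (IsLocalRing.closedPoint k)]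
      exact h1)
    exact ⟨Over.homMk g (by rw [← Over.w incl, ← Category.assoc, hg]; exact Over.w _),
      Over.OverMorphism.ext hg.symm⟩
  -- representatives of the components
  let c : (one' k ⟶ H) → Set H.left := fun a => connectedComponent (pt a)
  have hfin : (Set.range c).Finite := by
    refine ((NoetherianSpace.finite_irreducibleComponents (α := H.left)).image
      (fun Z => if h : Z.Nonempty then connectedComponent h.choose else ∅)).subset ?_
    rintro _ ⟨a, rfl⟩
    have hne : (irreducibleComponent (pt a)).Nonempty := ⟨_, mem_irreducibleComponent⟩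
    refine ⟨_, irreducibleComponent_mem_irreducibleComponents (pt a), ?_⟩
    simp only [dif_pos hne]
    exact (connectedComponent_eq (isIrreducible_irreducibleComponent.isConnected.isPreconnected.subset_connectedComponent
      mem_irreducibleComponent hne.choose_spec)).symm
  let rep' : Set.range c → (one' k ⟶ H) := fun z => z.2.choose
  haveI := hfin.to_subtype
  refine ⟨G₀, hG₀, incl ≫ i, inferInstance, Set.range (fun z => rep' z ≫ i), inferInstance, inferInstance, ?_,
    Set.finite_range _, fun s hs => ?_, ?_⟩
  · rw [Over.comp_left]; infer_instance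
  · obtain ⟨x, hx⟩ : pt s ∈ Set.range i.left := hr ▸ subset_closure ⟨s, hs, rfl⟩
    have hxc : IsClosed ({x} : Set H.left) := by
      have h := ((pointEquivClosedPoint A.hom ⟨s.left, point_comp_hom s⟩).2 : IsClosed ({pt s} : Set A.left)).preimage
        i.left.continuous
      convert h
      ext z
      exact ⟨fun hz => by rw [Set.mem_singleton_iff] at hz; rw [hz]; exact hx,
        fun hz => i.left.isClosedEmbedding.injective (hz.trans hx.symm)⟩
    let q := (pointEquivClosedPoint H.hom).symm ⟨x, hxc⟩
    let b : one' k ⟶ H := Over.homMk q.1 q.2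
    have hb : b ≫ i = s := point_ext (by
      rw [Over.comp_left, Scheme.Hom.comp_apply]
      exact (congrArg i.left
        (congrArg Subtype.val ((pointEquivClosedPoint H.hom).apply_symm_apply ⟨x, hxc⟩))).trans hx)
    let a := rep' ⟨c b, b, rfl⟩
    have ha : c a = c b := (⟨b, rfl⟩ : c b ∈ Set.range c).choose_spec
    obtain ⟨p, hp⟩ := key a b (show pt b ∈ c a from ha ▸ mem_connectedComponent)
    refine ⟨_, ⟨⟨c b, b, rfl⟩, rfl⟩, p, ?_⟩
    rw [← Category.assoc, ← hp, MonObj.mul_comp, GrpObj.inv_comp, hb, mul_inv_cancel_left]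
  · rw [Over.comp_left]
    rintro _ ⟨z, rfl⟩
    exact hr ▸ ⟨incl.left z, (Scheme.Hom.comp_apply _ _ _).symm⟩

end Groth.Agent.AVDeg
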