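import Groth.Agent.AgIsog.Simple
import Groth.Agent.AgVanish.Invariant
import Groth.Agent.AVDeg.SubAV
import Groth.Agent.AVDeg.FiniteKer
import Groth.Agent.PicFam.Product

/-!
Poincaré complete reducibility over an algebraically closed field, without the dual variety.
-/

set_option autoImplicit false
set_option backward.isDefEq.respectTransparency false
set_option backward.isDefEq.respectTransparency.types false
set_option maxHeartbeats 1000000
set_option linter.style.haveILetI false
set_option linter.unusedSectionVars false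

universe u

open CategoryTheory CategoryTheory.Limits MonoidalCategory CartesianMonoidalCategory MonObj GrpObj AlgebraicGeometry
open Groth.Agent.GrpField.RatClosure (pt)

noncomputable section

namespace Groth.Agent.AVDeg

attribute [local instance] W7Cube.law overInst

/-- A product of homomorphisms into a commutative group is a homomorphism. -/
theorem isMonHom_mul' {S : Scheme.{u}} {X G : Over S} [GrpObj X] [GrpObj G] [IsCommMonObj G]
    (f g : X ⟶ G) [IsMonHom f] [IsMonHom g] : IsMonHom (f * g) where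
  one_hom := by
    rw [MonObj.comp_mul, IsMonHom.one_hom, IsMonHom.one_hom, one_eq_one, _root_.one_mul]
  mul_hom := by
    rw [MonObj.comp_mul, IsMonHom.mul_hom, IsMonHom.mul_hom,
      show (μ[G] : G ⊗ G ⟶ G) = fst G G * snd G G by rw [Hom.mul_def, lift_fst_snd, Category.id_comp],
      MonObj.comp_mul, MonObj.comp_mul, MonObj.comp_mul, tensorHom_fst, tensorHom_snd,
      tensorHom_fst, tensorHom_snd, tensorHom_fst, tensorHom_snd, MonObj.comp_mul, MonObj.comp_mul,
      _root_.mul_mul_mul_comm]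

open W7Cube (pull pull_pull pc pull_pc pc_const pc_id pull_cls pc_one)

section Isogeny

variable {k : Type u} [Field k] {A B : Over (Spec (CommRingCat.of k))}
variable [GrpObj A] [IsProper A.hom] [GeometricallyIntegral A.hom] [IsCommMonObj A]
variable [GrpObj B] [IsProper B.hom] [GeometricallyIntegral B.hom]

/-- A finite surjective homomorphism of abelian varieties has a quasi-inverse. -/
theorem exists_quasiInverse' (f : A ⟶ B) [IsMonHom f] [IsFinite f.left] [Surjective f.left] :
    ∃ (g : B ⟶ A) (_ : IsMonHom g) (d : ℕ), d ≠ 0 ∧ f ≫ g = 𝟙 A ^ d ∧ g ≫ f = 𝟙 B ^ d := by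
  haveI : Subsingleton (Spec (CommRingCat.of k)) := inferInstanceAs (Subsingleton (PrimeSpectrum k))
  haveI : IsIntegral A.left := GeometricallyIntegral.isIntegral_of_subsingleton A.hom
  haveI : IsIntegral B.left := GeometricallyIntegral.isIntegral_of_subsingleton B.hom
  haveI : GeometricallyConnected B.hom := W7See.geometricallyConnected_of_geometricallyIntegral B.hom
  haveI : Flat f.left := GrpField.flat_of_surjective f
  haveI : IsLocallyNoetherian B.left := LocallyOfFiniteType.isLocallyNoetherian B.hom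
  haveI : LocallyOfFinitePresentation f.left := inferInstance
  let p : B.left := η[B].left (IsLocalRing.closedPoint k)
  have hd : f.left.finrank p ≠ 0 := by
    obtain ⟨x, hx⟩ := f.left.surjective p
    have := f.left.one_le_finrank_map x
    rw [hx] at this
    omega
  have hdeg : ∀ s : Spec (CommRingCat.of k), f.left.finrank (η[B].left s) = f.left.finrank p := fun s =>
    congrArg (fun s => f.left.finrank (η[B].left s)) (Subsingleton.elim s _)
  haveI : IsMonHom (𝟙 A ^ f.left.finrank p : A ⟶ A) := isMonHom_id_pow _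
  obtain ⟨g, hg⟩ := AgIsog.exists_factor f (e := 𝟙 A ^ f.left.finrank p) (fun T x hx => by
    rw [MonObj.comp_pow, Category.comp_id]
    exact AgIsog.pow_eq_one f _ hdeg x hx)
  haveI hgm : IsMonHom g := Rigid.isMonHom_of_unit (Rigid.goodFibres_of_geometrically B.hom)
    (Rigid.isPreconnected_fibre (X := B)) g (by
      conv_lhs => rw [← IsMonHom.one_hom (f := f), Category.assoc, hg]
      exact IsMonHom.one_hom _)
  refine ⟨g, hgm, _, hd, hg, Over.OverMorphism.ext ((cancel_epi f.left).1 ?_)⟩
  rw [← Over.comp_left, ← Over.comp_left]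
  congr 1
  rw [← Category.assoc, hg, MonObj.pow_comp, Category.id_comp, MonObj.comp_pow, Category.comp_id]

end Isogeny

variable {k : Type u} [Field k] [IsAlgClosed k] {A B : Over (Spec (CommRingCat.of k))}
variable [GrpObj A] [IsProper A.hom] [GeometricallyIntegral A.hom]
variable [GrpObj B] [IsProper B.hom] [GeometricallyIntegral B.hom]

/-- Translation of the source through a homomorphism. -/
theorem transl_comp (i : B ⟶ A) [IsMonHom i] (b : one' k ⟶ B) :
    i ≫ (𝟙 A * (toUnit A ≫ (b ≫ i))) = (𝟙 B * (toUnit B ≫ b)) ≫ i := by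
  rw [MonObj.comp_mul, MonObj.mul_comp, Category.comp_id, Category.id_comp, ← Category.assoc,
    toUnit_unique (i ≫ toUnit A) (toUnit B), Category.assoc]

/-- The restriction to `B` of `t_a^* c * c⁻¹`. -/
def resPhi (i : B ⟶ A) (c : PicLoc.PicSet A.left) (a : one' k ⟶ A) : PicLoc.PicSet B.left :=
  pc (pc c (𝟙 A * (toUnit A ≫ a)) * c⁻¹) i

theorem resPhi_mul (i : B ⟶ A) (c : PicLoc.PicSet A.left) (a y : one' k ⟶ A) :
    resPhi i c (a * y) = resPhi i c a * resPhi i c y := by
  show pull i.left _ = pull i.left _ * pull i.left _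
  rw [AgVanish.translate_div_mul, map_mul]

theorem resPhi_one (i : B ⟶ A) (c : PicLoc.PicSet A.left) : resPhi i c 1 = 1 := by
  have h := resPhi_mul i c 1 1
  rw [_root_.one_mul] at h
  exact left_eq_mul.mp h

theorem resPhi_invariant (i : B ⟶ A) [IsMonHom i] (c : PicLoc.PicSet A.left) (a : one' k ⟶ A)
    (b : one' k ⟶ B) : pc (resPhi i c a) (𝟙 B * (toUnit B ≫ b)) = resPhi i c a := by
  show pull (𝟙 B * (toUnit B ≫ b)).left (pull i.left _) = pull i.left _
  rw [pull_pull, ← Over.comp_left, ← transl_comp, Over.comp_left, ← pull_pull,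
    AgVanish.translate_div_invariant]

theorem resPhi_point (i : B ⟶ A) [IsMonHom i] (c : PicLoc.PicSet A.left) (b : one' k ⟶ B) :
    resPhi i c (b ≫ i) = pc (pc c i) (𝟙 B * (toUnit B ≫ b)) * (pc c i)⁻¹ := by
  show pull i.left _ = pull _ (pull i.left c) * (pull i.left c)⁻¹
  rw [map_mul, map_inv, pull_pull, ← Over.comp_left, ← transl_comp, Over.comp_left, ← pull_pull]
  rfl

/-- The locus where the restriction of `φ_c` is trivial is closed. -/
theorem exists_closed_resPhi (i : B ⟶ A) [IsMonHom i] (c : PicLoc.PicSet A.left) :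
    ∃ Z : Set A.left, IsClosed Z ∧ ∀ a : one' k ⟶ A, pt a ∈ Z ↔ resPhi i c a = 1 := by
  obtain ⟨M, hM, eM⟩ := PicGrp.exists_eq_cls
    (pc c ((fst B A ≫ i) * snd B A) * (pc c (fst B A ≫ i))⁻¹ * (pc c (snd B A))⁻¹)
  obtain ⟨_, _, _⟩ := AVAmple.fibre_facts (A := B) (W := A)
  haveI := W7See.geometricallyConnected_of_geometricallyIntegral (snd B A).left
  haveI : IsLocallyNoetherian A.left := LocallyOfFiniteType.isLocallyNoetherian A.hom
  refine ⟨_, W7See.isClosed_trivial_locus (snd B A).left (fun y => inferInstance)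
    (fun y => W7See.bijective_fiber _ y) M hM, fun a => ?_⟩
  rw [Set.mem_setOf_eq]
  show Nonempty (CohIII.fiberMod _ M (a.left (IsLocalRing.closedPoint k)) ≅ _) ↔ _
  rw [AVAmple.fiber_trivial_iff (A := B) (W := A) M a,
    ← PicGrp.cls_eq_one_iff (hL := PicLoc.isInvertible_pullback _ hM), ← pull_cls _ M hM, ← eM]
  have h1 : lift (𝟙 B) (toUnit B ≫ a) ≫ ((fst B A ≫ i) * snd B A) = i ≫ (𝟙 A * (toUnit A ≫ a)) := by
    rw [MonObj.comp_mul, MonObj.comp_mul, lift_fst_assoc, lift_snd, Category.id_comp, Category.comp_id,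
      ← Category.assoc, toUnit_unique (i ≫ toUnit A) (toUnit B)]
  rw [map_mul, map_mul, map_inv, map_inv, pull_pc, pull_pc, pull_pc, h1, lift_fst_assoc, lift_snd,
    Category.id_comp, pc_const, inv_one, _root_.mul_one]
  show pull (i ≫ _).left c * (pull i.left c)⁻¹ = 1 ↔ pull i.left (_ * c⁻¹) = 1
  rw [map_mul, map_inv, Over.comp_left, ← pull_pull]
  rfl

/-- A closed immersion of abelian varieties has a quasi-retraction. -/
theorem exists_complement [IsCommMonObj A] [IsCommMonObj B] (i : B ⟶ A) [IsMonHom i]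
    [IsClosedImmersion i.left] :
    ∃ (C : Over (Spec (CommRingCat.of k))) (_ : GrpObj C) (_ : IsCommMonObj C) (j : C ⟶ A) (_ : IsMonHom j),
      IsProper C.hom ∧ GeometricallyIntegral C.hom ∧ IsClosedImmersion j.left ∧
      Surjective ((fst B C ≫ i) * (snd B C ≫ j)).left ∧ IsFinite ((fst B C ≫ i) * (snd B C ≫ j)).left := by
  obtain ⟨L, hL⟩ := AgVanish.exists_ample (A := A)
  set c := PicGrp.cls L hL.1 with hc
  let H : Subgroup (one' k ⟶ A) :=
    { carrier := {a | resPhi i c a = 1}
      one_mem' := resPhi_one i c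
      mul_mem' := fun {a b} (ha : resPhi i c a = 1) (hb : resPhi i c b = 1) => by
        show resPhi i c (a * b) = 1
        rw [resPhi_mul, ha, hb, _root_.one_mul]
      inv_mem' := fun {a} (ha : resPhi i c a = 1) => by
        show resPhi i c a⁻¹ = 1
        rw [← resPhi_one i c, ← inv_mul_cancel a, resPhi_mul, ha, _root_.mul_one] }
  -- the restricted class
  haveI := CurveRR.isNoetherian_of_proper k B.left
  have hLB : CohB1.IsAmple ((Scheme.Modules.pullback i.left).obj L) :=
    TMul.isAmple_pullback i.left i.left.isClosedEmbedding.isInducing hL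
  have hcB : pc c i = PicGrp.cls _ hLB.1 := pull_cls i.left L hL.1
  have hfin : {b : one' k ⟶ B | pc (pc c i) (𝟙 B * (toUnit B ≫ b)) = pc c i}.Finite := by
    rw [hcB]; exact AVAmple.finite_fixing hLB
  have hsum : ∀ a : one' k ⟶ A, ∃ b : one' k ⟶ B, a * (b ≫ i)⁻¹ ∈ H := fun a => by
    obtain ⟨b, hb⟩ := AgVanish.exists_translate (pc c i) (resPhi i c a) hfin (resPhi_invariant i c a)
    refine ⟨b, ?_⟩
    have h1 : resPhi i c (b ≫ i) = resPhi i c a := by rw [resPhi_point, hb, mul_inv_cancel_right]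
    show resPhi i c _ = 1
    rw [resPhi_mul, ← h1, ← resPhi_mul, mul_inv_cancel, resPhi_one]
  obtain ⟨Z, hZc, hZ⟩ := exists_closed_resPhi i c
  obtain ⟨C, hC, j, hj, F, hCp, hCi, hjc, hF, hHF, hCr⟩ := exists_subAV H
  haveI := hCp
  haveI := hCi
  haveI : IsCommMonObj C := isCommMonObj_of_isProper_of_geometricallyIntegral C
  refine ⟨C, hC, inferInstance, j, hj, hCp, hCi, hjc, ?_⟩
  have hjH : ∀ p : one' k ⟶ C, resPhi i c (p ≫ j) = 1 := fun p => by
    refine (hZ _).1 ?_
    have hsub : closure (pt '' (H : Set _)) ⊆ Z := by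
      refine closure_minimal ?_ hZc
      rintro _ ⟨a, ha, rfl⟩
      exact (hZ a).2 ha
    exact hsub (hCr ⟨pt p, rfl⟩)
  set m := (fst B C ≫ i) * (snd B C ≫ j) with hm
  haveI : IsMonHom m := isMonHom_mul' _ _
  haveI : GeometricallyIntegral (B ⊗ C).hom :=
    W7Cube.geometricallyIntegral_prod (IsPullback.of_hasPullback B.hom C.hom) (B ⊗ C).hom rfl
  haveI : IsProper (B ⊗ C).hom := inferInstanceAs (IsProper (pullback.fst B.hom C.hom ≫ B.hom))
  haveI : Mono j.left := inferInstance
  haveI : Mono j := Over.mono_of_mono_left j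
  haveI hfinm : IsFinite m.left := isFinite_of_finite_kerPts m (by
    have hb : ∀ x : one' k ⟶ B ⊗ C, x ≫ m = 1 →
        pc (pc c i) (𝟙 B * (toUnit B ≫ (x ≫ fst B C))) = pc c i ∧
          (x ≫ snd B C) ≫ j = ((x ≫ fst B C) ≫ i)⁻¹ := by
      intro x hx
      rw [hm, MonObj.comp_mul, ← Category.assoc, ← Category.assoc] at hx
      have h2 := eq_inv_of_mul_eq_one_right hx
      refine ⟨?_, h2⟩
      have h3 : resPhi i c ((x ≫ fst B C) ≫ i) = 1 := by
        rw [eq_inv_of_mul_eq_one_left hx]
        exact H.inv_mem (hjH _)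
      rw [resPhi_point, mul_inv_eq_one] at h3
      exact h3
    refine Set.Finite.of_finite_image (f := fun x => x ≫ fst B C) (hfin.subset ?_) fun x hx y hy hxy => ?_
    · rintro _ ⟨x, hx, rfl⟩
      exact (hb x hx).1
    · refine CartesianMonoidalCategory.hom_ext _ _ hxy ?_
      rw [← cancel_mono j, (hb x hx).2, (hb y hy).2, show x ≫ fst B C = y ≫ fst B C from hxy])
  refine ⟨?_, hfinm⟩
  haveI : JacobsonSpace A.left := LocallyOfFiniteType.jacobsonSpace A.hom
  haveI : Subsingleton (Spec (CommRingCat.of k)) := inferInstanceAs (Subsingleton (PrimeSpectrum k))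
  haveI : IsIntegral A.left := GeometricallyIntegral.isIntegral_of_subsingleton A.hom
  let t : (one' k ⟶ A) → (A ⟶ A) := fun f => 𝟙 A * (toUnit A ≫ f)
  have ht : ∀ a f : one' k ⟶ A, a ≫ t f = a * f := fun a f => by
    rw [MonObj.comp_mul, Category.comp_id, ← Category.assoc,
      show a ≫ toUnit A = 𝟙 _ from toUnit_unique _ _, Category.id_comp]
  let U : Set A.left := ⋃ f ∈ F, (t f⁻¹).left ⁻¹' Set.range m.left
  have hUc : IsClosed U := hF.isClosed_biUnion fun f _ =>
    m.left.isClosedMap.isClosed_range.preimage (t f⁻¹).left.continuous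
  have hU : U = Set.univ := by
    refine Set.eq_univ_of_univ_subset ?_
    rw [← closure_closedPoints (X := A.left)]
    refine closure_minimal (fun y hy => ?_) hUc
    obtain ⟨a, rfl⟩ := AVAmple.exists_point (A := A) hy
    obtain ⟨b, hb⟩ := hsum a
    obtain ⟨f, hf, p, hp⟩ := hHF _ hb
    refine Set.mem_biUnion hf ⟨pt (lift b p), ?_⟩
    show m.left (pt (lift b p)) = (t f⁻¹).left (a.left (IsLocalRing.closedPoint k))
    show ((lift b p).left ≫ m.left) _ = (a.left ≫ (t f⁻¹).left) _
    rw [← Over.comp_left, ← Over.comp_left, ht, hm, MonObj.comp_mul, lift_fst_assoc, lift_snd_assoc]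
    have key : (b ≫ i) * (p ≫ j) = a * f⁻¹ := by
      rw [mul_inv_eq_iff_eq_mul] at hp
      rw [eq_mul_inv_iff_mul_eq, hp, _root_.mul_comm f, _root_.mul_comm _ (b ≫ i), _root_.mul_assoc]
    rw [key]
  obtain ⟨f, -, hf⟩ : ∃ f ∈ F, genericPoint A.left ∈ (t f⁻¹).left ⁻¹' Set.range m.left := by
    have := hU.symm.le (Set.mem_univ (genericPoint A.left))
    simpa [U] using this
  have hiso : Surjective (t f⁻¹).left := by
    refine ⟨fun y => ⟨(t f).left y, ?_⟩⟩
    rw [← Scheme.Hom.comp_apply, ← Over.comp_left]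
    have : t f ≫ t f⁻¹ = 𝟙 A := by
      simp only [t, MonObj.comp_mul, Category.comp_id, ← Category.assoc]
      rw [toUnit_unique ((𝟙 A * (toUnit A ≫ f)) ≫ toUnit A) (toUnit A), _root_.mul_assoc, ← MonObj.comp_mul,
        mul_inv_cancel, MonObj.comp_one, _root_.mul_one]
    rw [this]; rfl
  refine ⟨fun y => ?_⟩
  obtain ⟨z, rfl⟩ := hiso.surj y
  exact ((genericPoint_specializes z).mem_closed
    (m.left.isClosedMap.isClosed_range.preimage (t f⁻¹).left.continuous) hf)

/-- A closed immersion of abelian varieties has a quasi-retraction. -/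
theorem exists_quasiRetraction [IsCommMonObj A] [IsCommMonObj B] (i : B ⟶ A) [IsMonHom i]
    [IsClosedImmersion i.left] :
    ∃ (r : A ⟶ B) (_ : IsMonHom r) (d : ℕ), d ≠ 0 ∧ i ≫ r = 𝟙 B ^ d := by
  obtain ⟨C, _, _, j, _, _, _, _, hs, hf⟩ := exists_complement i
  haveI : GeometricallyIntegral (B ⊗ C).hom :=
    W7Cube.geometricallyIntegral_prod (IsPullback.of_hasPullback B.hom C.hom) (B ⊗ C).hom rfl
  haveI : IsProper (B ⊗ C).hom := inferInstanceAs (IsProper (pullback.fst B.hom C.hom ≫ B.hom))
  haveI := hs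
  haveI := hf
  haveI : IsMonHom ((fst B C ≫ i) * (snd B C ≫ j)) := isMonHom_mul' _ _
  obtain ⟨g, hg, d, hd, h1, -⟩ := exists_quasiInverse' ((fst B C ≫ i) * (snd B C ≫ j))
  refine ⟨g ≫ fst B C, inferInstance, d, hd, ?_⟩
  have h : i = lift (𝟙 B) 1 ≫ ((fst B C ≫ i) * (snd B C ≫ j)) := by
    rw [MonObj.comp_mul, lift_fst_assoc, lift_snd_assoc, Category.id_comp, MonObj.one_comp,
      _root_.mul_one]
  conv_lhs => rw [h]
  rw [← Category.assoc, Category.assoc _ _ g, h1, MonObj.comp_pow, Category.comp_id, MonObj.pow_comp,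
    lift_fst]

end Groth.Agent.AVDeg
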