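import Groth.Agent.AVDeg.EulerDegenerate

/-!
Degree of multiplication by `n`, and `g! χ(L) = (L^g)`.
-/

set_option autoImplicit false
set_option backward.isDefEq.respectTransparency false
set_option backward.isDefEq.respectTransparency.types false
set_option linter.style.haveILetI false
set_option linter.unusedSectionVars false

universe u

open CategoryTheory CategoryTheory.Limits MonoidalCategory CartesianMonoidalCategory MonObj AlgebraicGeometry
open TopologicalSpace
open Groth.Agent.Intersect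

noncomputable section

namespace Groth.Agent.AVDeg

attribute [local instance] W7Cube.law
attribute [local instance] overInst

variable {k : Type u} [Field k] {A : Over (Spec (CommRingCat.of k))}
variable [GrpObj A] [IsProper A.hom] [GeometricallyIntegral A.hom]

theorem isMonHom_id_pow [IsCommMonObj A] (n : ℕ) : IsMonHom (𝟙 A ^ n) := by
  haveI := isMonHom_zpow (𝟙 A) (n : ℤ)
  rw [← zpow_natCast]
  infer_instance

theorem deg_zpow_id [IsCommMonObj A] {g : ℕ} (hA : topologicalKrullDim A.left = (g : WithBot ℕ∞)) (n : ℤ) :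
    (deg (𝟙 A ^ n) : ℚ) = (n : ℚ) ^ (2 * g) := by
  haveI : ∀ i, IsMonHom (![𝟙 A] i) := fun i => by fin_cases i; exact inferInstanceAs (IsMonHom (𝟙 A))
  obtain ⟨D, hD, hDv⟩ := exists_deg_poly' hA ![𝟙 A]
  have hs : MvPolynomial.eval (fun _ : Fin 1 => (n : ℚ)) D =
      (n : ℚ) ^ (2 * g) * MvPolynomial.eval (fun _ : Fin 1 => (1 : ℚ)) D := by
    rw [MvPolynomial.eval_eq', MvPolynomial.eval_eq', Finset.mul_sum]
    refine Finset.sum_congr rfl fun m hm => ?_
    have hw := hD (MvPolynomial.mem_support_iff.1 hm)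
    rw [Finsupp.weight_apply, Finsupp.sum_fintype _ _ (fun _ => by simp)] at hw
    simp only [Fin.sum_univ_one, Fin.prod_univ_one, Pi.one_apply, smul_eq_mul, _root_.mul_one] at hw ⊢
    rw [hw, one_pow]; ring
  have h1 := hDv ![1]
  have hn := hDv ![n]
  simp only [Fin.prod_univ_one, Matrix.cons_val_zero, zpow_one, deg_id hA, Nat.cast_one] at h1 hn
  rw [show (fun i => (((![n]) i : ℤ) : ℚ)) = fun _ : Fin 1 => (n : ℚ) by funext i; fin_cases i; simp, hs] at hn
  rw [show (fun i => (((![(1 : ℤ)]) i : ℤ) : ℚ)) = fun _ : Fin 1 => (1 : ℚ) by funext i; fin_cases i; simp] at h1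
  rw [← hn, h1, _root_.mul_one]

theorem deg_pow_id [IsCommMonObj A] {g : ℕ} (hA : topologicalKrullDim A.left = (g : WithBot ℕ∞)) (n : ℕ) :
    deg (𝟙 A ^ n) = n ^ (2 * g) := by
  have h := deg_zpow_id hA (n : ℤ)
  rw [zpow_natCast, Int.cast_natCast] at h
  exact_mod_cast h

theorem isFinite_pow_id [IsCommMonObj A] {n : ℕ} (hn : n ≠ 0) : IsFinite (𝟙 A ^ n).left := by
  haveI : Nonempty A.left := ⟨η[A].left (IsLocalRing.closedPoint k)⟩
  obtain ⟨g, hg⟩ : ∃ g : ℕ, topologicalKrullDim A.left = (g : WithBot ℕ∞) := exists_dim A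
  haveI := isMonHom_id_pow (A := A) n
  by_contra hf
  have h := deg_pow_id hg n
  rw [deg_eq_zero_of_not_isFinite hf] at h
  exact pow_ne_zero _ hn h.symm

/-- The symmetrisation doubles the self intersection in every factor. -/
theorem top_mul_inv [IsCommMonObj A] {g : ℕ} (hA : topologicalKrullDim A.left = (g : WithBot ℕ∞))
    (l : PicLoc.PicSet A.left) :
    top k (fun _ : Fin g => l * W7Cube.pc l (𝟙 A)⁻¹) = 2 ^ g * top k (fun _ : Fin g => l) := by
  classical
  haveI := isIntegral_av A
  haveI : Nonempty A.left := ⟨η[A].left (IsLocalRing.closedPoint k)⟩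
  let x : Additive (PicLoc.PicSet A.left) := Additive.ofMul l
  let y : Additive (PicLoc.PicSet A.left) := Additive.ofMul (W7Cube.pc l (𝟙 A)⁻¹)
  let T : Finset (Fin g) → ℚ := fun s => topLin k hA.le (s.piecewise (fun _ => x) (fun _ => y))
  have hexp : ∀ a b : ℕ, topLin k hA.le (fun _ : Fin g => a • x + b • y) =
      ∑ s : Finset (Fin g), ((a : ℚ) ^ s.card * (b : ℚ) ^ (g - s.card)) * T s := fun a b => by
    rw [show (fun _ : Fin g => a • x + b • y) = (fun _ => a • x) + fun _ => b • y from rfl,
      MultilinearMap.map_add_univ]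
    refine Finset.sum_congr rfl fun s _ => ?_
    have h := (topLin k hA.le).map_smul_univ (s.piecewise (fun _ => (a : ℤ)) (fun _ => (b : ℤ)))
      (s.piecewise (fun _ => x) (fun _ => y))
    have he : (s.piecewise (fun _ => a • x) fun _ => b • y : Fin g → Additive (PicLoc.PicSet A.left)) =
        fun i => s.piecewise (fun _ => (a : ℤ)) (fun _ => (b : ℤ)) i • s.piecewise (fun _ => x) (fun _ => y) i := by
      funext i
      by_cases hi : i ∈ s <;> simp [hi]
    rw [he, h, zsmul_eq_mul]
    congr 1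
    rw [Finset.prod_piecewise, Finset.prod_const, Finset.prod_const, Finset.univ_inter, Finset.card_sdiff_of_subset
      (Finset.subset_univ s), Finset.card_univ, Fintype.card_fin]
    push_cast
    rfl
  let u : Polynomial ℚ := Polynomial.C (1 / 2 : ℚ) * (Polynomial.X ^ 2 + Polynomial.X)
  let v : Polynomial ℚ := Polynomial.C (1 / 2 : ℚ) * (Polynomial.X ^ 2 - Polynomial.X)
  let Q : Polynomial ℚ := ∑ s : Finset (Fin g), Polynomial.C (T s) * (u ^ s.card * v ^ (g - s.card))
  have hud : u.natDegree ≤ 2 := by simp only [u]; compute_degree!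
  have hvd : v.natDegree ≤ 2 := by simp only [v]; compute_degree!
  have hcoeff : Q.coeff (2 * g) = (1 / 2 : ℚ) ^ g * top k (fun _ : Fin g => l * W7Cube.pc l (𝟙 A)⁻¹) := by
    have h11 := hexp 1 1
    simp only [Nat.cast_one, one_pow, _root_.one_mul, one_smul] at h11
    rw [topLin_apply, show (fun i : Fin g => Additive.toMul (x + y)) = fun _ => l * W7Cube.pc l (𝟙 A)⁻¹ from rfl] at h11
    rw [h11, Finset.mul_sum, Polynomial.finset_sum_coeff]
    refine Finset.sum_congr rfl fun s _ => ?_
    have hs : s.card ≤ g := s.card_le_univ.trans_eq (Fintype.card_fin g)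
    rw [Polynomial.coeff_C_mul, mul_comm, show 2 * g = s.card * 2 + (g - s.card) * 2 by omega,
      Polynomial.coeff_mul_add_eq_of_natDegree_le
        (Polynomial.natDegree_pow_le.trans (Nat.mul_le_mul_left _ hud))
        (Polynomial.natDegree_pow_le.trans (Nat.mul_le_mul_left _ hvd)),
      Polynomial.coeff_pow_of_natDegree_le hud, Polynomial.coeff_pow_of_natDegree_le hvd,
      show u.coeff 2 = 1 / 2 by simp [u, Polynomial.coeff_X], show v.coeff 2 = 1 / 2 by simp [v, Polynomial.coeff_X],
      ← pow_add, Nat.add_sub_cancel' hs]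
  have hQ : Q = Polynomial.C (top k (fun _ : Fin g => l)) * Polynomial.X ^ (2 * g) := by
    refine Polynomial.eq_of_infinite_eval_eq _ _ (Set.infinite_of_injective_forall_mem
      (f := fun m : ℕ => ((m + 1 : ℕ) : ℚ)) (fun a b h => by simpa using h) fun m => ?_)
    show Polynomial.eval ((m + 1 : ℕ) : ℚ) Q = Polynomial.eval _ _
    generalize hn : m + 1 = n
    have hu : u.eval (n : ℚ) = ((n * (n + 1) / 2 : ℕ) : ℚ) := by
      rw [Nat.cast_div (even_iff_two_dvd.1 (Nat.even_mul_succ_self n)) two_ne_zero]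
      simp [u]; ring
    have hv : v.eval (n : ℚ) = ((n * (n - 1) / 2 : ℕ) : ℚ) := by
      rw [Nat.cast_div (even_iff_two_dvd.1 (Nat.even_mul_pred_self n)) two_ne_zero]
      subst hn
      simp [v]; ring
    simp only [Q, Polynomial.eval_finset_sum, Polynomial.eval_mul, Polynomial.eval_C, Polynomial.eval_pow,
      Polynomial.eval_X, hu, hv]
    rw [show ∀ (c : Finset (Fin g) → ℚ), (∑ s, T s * c s) = ∑ s, c s * T s from
      fun c => Finset.sum_congr rfl fun s _ => mul_comm _ _, ← hexp]
    haveI := isMonHom_id_pow (A := A) n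
    have hfin := isFinite_pow_id (A := A) (show n ≠ 0 by omega)
    have h := top_pc_finite hA hA (𝟙 A ^ n) hfin (genericPoint A.left) (fun _ : Fin g => l)
    rw [finrank_eq_deg hA _ hfin, deg_pow_id hA, W7Cube.pc_pow, Nat.cast_pow] at h
    rw [mul_comm (top k _) ((n : ℚ) ^ (2 * g)), ← h, topLin_apply]
    rfl
  rw [hQ, Polynomial.coeff_C_mul, Polynomial.coeff_X_pow_self, _root_.mul_one, one_div, inv_pow] at hcoeff
  rw [hcoeff]
  field_simp

/-- Riemann–Roch. -/
theorem factorial_mul_euler [IsCommMonObj A] {g : ℕ} (hA : topologicalKrullDim A.left = (g : WithBot ℕ∞))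
    (l : PicLoc.PicSet A.left) :
    (g.factorial : ℚ) * (Curv2.euler k A.left (rep l) : ℚ) = top k (fun _ : Fin g => l) := by
  have h := euler_eq_top hA l
  rw [top_mul_inv hA] at h
  exact mul_left_cancel₀ (pow_ne_zero g (two_ne_zero (α := ℚ))) (by rw [← h]; ring)

theorem intNum_inv_eq_top {g : ℕ} (hA : topologicalKrullDim A.left = (g : WithBot ℕ∞))
    (l : PicLoc.PicSet A.left) (M : A.left.Modules) (hM : Nonempty (rep l⁻¹ ≅ M)) :
    (FGA.intNum k A.left g (fun _ : Fin g => M) (Coh.structureModule A.left) : ℚ) = top k (fun _ : Fin g => l) := by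
  haveI := CurveRR.isNoetherian_of_proper k A.left
  rw [intNum_eq_alt k g hA.le, ← Intersect.χt_congr k _ (L := fun _ : Fin g => rep l⁻¹) fun _ => hM]
  have h2 : topLin k hA.le (fun _ : Fin g => (-1 : ℤ) • Additive.ofMul l) =
      (-1 : ℚ) ^ g * topLin k hA.le (fun _ : Fin g => Additive.ofMul l) := by
    have := (topLin k hA.le).map_smul_univ (fun _ => (-1 : ℤ)) (fun _ => Additive.ofMul l)
    simpa [zsmul_eq_mul] using this
  simp only [neg_smul, one_smul, topLin_apply, toMul_neg, toMul_ofMul] at h2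
  conv_lhs at h2 => rw [top]
  exact mul_left_cancel₀ (pow_ne_zero g (neg_ne_zero.2 one_ne_zero)) h2

end Groth.Agent.AVDeg
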