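import Groth.Agent.AVDeg.DegBC
import Groth.Agent.AgIsog.ProdAV
import Groth.Agent.AVDeg.Pow
import Groth.Agent.AVDeg.Poincare

/-!
Integer matrices acting on a power of an abelian variety.
-/

set_option autoImplicit false
set_option backward.isDefEq.respectTransparency false
set_option backward.isDefEq.respectTransparency.types false
set_option linter.style.haveILetI false
set_option linter.unusedSectionVars false
set_option synthInstance.maxHeartbeats 400000
set_option maxHeartbeats 1000000

universe u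

open CategoryTheory CategoryTheory.Limits MonoidalCategory CartesianMonoidalCategory MonObj AlgebraicGeometry
open TopologicalSpace
open scoped CategoryTheory.Obj

noncomputable section

namespace Groth.Agent.AVDeg

/-- Smith normal form of a non-singular integer matrix. -/
theorem exists_smith {n : Type*} [Fintype n] [DecidableEq n] (α : Matrix n n ℤ) (hα : α.det ≠ 0) :
    ∃ (U U' V V' : Matrix n n ℤ) (d : n → ℤ), U * U' = 1 ∧ V * V' = 1 ∧ α = U * Matrix.diagonal d * V := by
  let f := Matrix.toLin' α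
  let std := Pi.basisFun ℤ n
  have hf : Function.Injective f := Matrix.mulVec_injective_of_det_ne_zero hα
  obtain ⟨b', a, ab, hab⟩ := Submodule.exists_smith_normal_form_of_rank_eq (N := LinearMap.range f) std
    (LinearMap.finrank_range_of_inj hf)
  let e := ab.map (LinearEquiv.ofInjective f hf).symm
  have he : ∀ i, f (e i) = a i • b' i := fun i => by
    rw [← hab i]
    exact congrArg Subtype.val ((LinearEquiv.ofInjective f hf).apply_symm_apply (ab i))
  have hD : LinearMap.toMatrix e b' f = Matrix.diagonal a := by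
    ext i j
    rw [LinearMap.toMatrix_apply, he, map_smul, Finsupp.smul_apply, b'.repr_self, Finsupp.single_apply,
      Matrix.diagonal_apply]
    rcases eq_or_ne i j with rfl | h <;> simp [*, Ne.symm]
  refine ⟨std.toMatrix b', b'.toMatrix std, e.toMatrix std, std.toMatrix e, a, ?_, ?_, ?_⟩
  · exact std.toMatrix_mul_toMatrix_flip b'
  · exact e.toMatrix_mul_toMatrix_flip std
  · rw [← hD, basis_toMatrix_mul_linearMap_toMatrix_mul_basis_toMatrix]
    show α = LinearMap.toMatrix std std (Matrix.toLin' α)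
    rw [LinearMap.toMatrix_eq_toMatrix', LinearMap.toMatrix'_toLin']

variable {k : Type u} [Field k] {A : Over (Spec (CommRingCat.of k))} [GrpObj A] [IsProper A.hom] [GeometricallyIntegral A.hom]

/-- Torsion points over any field. -/
theorem natCard_tors_pt [IsCommMonObj A] (Ω : Type u) [Field Ω] [Algebra k Ω] [IsAlgClosed Ω] {g : ℕ}
    (hA : topologicalKrullDim A.left = (g : WithBot ℕ∞)) {n : ℕ} (hn : (n : Ω) ≠ 0) :
    Nat.card (tors (Additive (SGA7.pt (K := k) Ω ⟶ A)) n) = n ^ (2 * g) := by
  rw [← natCard_tors (A := bcK k Ω A) ((topologicalKrullDim_bcK Ω).trans hA) hn]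
  refine Nat.card_congr ((ptsBCAdd (A := A) Ω).toEquiv.subtypeEquiv fun x => ?_)
  rw [mem_tors, mem_tors, show (ptsBCAdd (A := A) Ω).toEquiv x = ptsBCAdd (A := A) Ω x from rfl, ← map_nsmul,
    AddEquiv.map_eq_zero_iff]

section Power

variable {r : ℕ} (D : AgIsog.ProdAV (fun _ : Fin r => A))

/-- Evaluation of homomorphisms after a fixed morphism. -/
def compHom {X P : Over (Spec (CommRingCat.of k))} [GrpObj P] (x : X ⟶ A) : (A ⟶ P) →* (X ⟶ P) where
  toFun y := x ≫ y
  map_one' := MonObj.comp_one _
  map_mul' a b := MonObj.comp_mul _ _ _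

theorem comp_prod {X Y P : Over (Spec (CommRingCat.of k))} [GrpObj P] [IsCommMonObj P] {σ : Type*}
    (s : Finset σ) (x : X ⟶ Y) (f : σ → (Y ⟶ P)) : x ≫ ∏ i ∈ s, f i = ∏ i ∈ s, x ≫ f i := by
  let H : (Y ⟶ P) →* (X ⟶ P) :=
    { toFun := fun y => x ≫ y, map_one' := MonObj.comp_one _, map_mul' := fun a b => MonObj.comp_mul _ _ _ }
  exact map_prod H f s

theorem prod_comp {X P Q : Over (Spec (CommRingCat.of k))} [GrpObj P] [IsCommMonObj P] [GrpObj Q] [IsCommMonObj Q]
    {σ : Type*} (s : Finset σ) (f : σ → (X ⟶ P)) (g : P ⟶ Q) [IsMonHom g] :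
    (∏ i ∈ s, f i) ≫ g = ∏ i ∈ s, f i ≫ g := by
  let H : (X ⟶ P) →* (X ⟶ Q) :=
    { toFun := fun y => y ≫ g, map_one' := MonObj.one_comp _, map_mul' := fun a b => MonObj.mul_comp _ _ _ }
  exact map_prod H f s

/-- Dimension of a power. -/
theorem dim_power {g : ℕ} (hA : topologicalKrullDim A.left = (g : WithBot ℕ∞)) :
    topologicalKrullDim D.P.left = ((g * r : ℕ) : WithBot ℕ∞) := by
  classical
  letI := D.grp
  haveI := D.proper
  haveI := D.geomInt
  haveI := D.pr_hom
  haveI := D.inj_hom
  haveI : IsCommMonObj A := isCommMonObj_of_isProper_of_geometricallyIntegral A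
  haveI : IsCommMonObj D.P := isCommMonObj_of_isProper_of_geometricallyIntegral D.P
  haveI : Nonempty D.P.left := ⟨η[D.P].left (IsLocalRing.closedPoint k)⟩
  obtain ⟨p, hp⟩ := exists_dim D.P (k := k)
  let Ω := AlgebraicClosure k
  obtain ⟨l, hl, hl0⟩ := exists_prime_ne_zero Ω
  let O := SGA7.pt (K := k) Ω
  let e : tors (Additive (O ⟶ D.P)) l ≃ (Fin r → tors (Additive (O ⟶ A)) l) :=
    { toFun := fun x t => ⟨Additive.ofMul (Additive.toMul x.1 ≫ D.pr t), mem_tors.2 (by
        show Additive.ofMul ((Additive.toMul x.1 ≫ D.pr t) ^ l) = 0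
        rw [← MonObj.pow_comp, show Additive.toMul x.1 ^ l = 1 from congrArg Additive.toMul (mem_tors.1 x.2),
          MonObj.one_comp]
        rfl)⟩
      invFun := fun y => ⟨Additive.ofMul (∏ t, Additive.toMul (y t).1 ≫ D.inj t), mem_tors.2 (by
        show Additive.ofMul ((∏ t, Additive.toMul (y t).1 ≫ D.inj t) ^ l) = 0
        rw [← Finset.prod_pow, Finset.prod_eq_one fun t _ => ?_]
        · rfl
        · rw [← MonObj.pow_comp, show Additive.toMul (y t).1 ^ l = 1 from
            congrArg Additive.toMul (mem_tors.1 (y t).2), MonObj.one_comp])⟩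
      left_inv := fun x => Subtype.ext (congrArg Additive.ofMul (by
        show ∏ t, (Additive.toMul x.1 ≫ D.pr t) ≫ D.inj t = Additive.toMul x.1
        simp only [Category.assoc]
        rw [← comp_prod, D.total, Category.comp_id]))
      right_inv := fun y => funext fun t => Subtype.ext (congrArg Additive.ofMul (by
        show (∏ s, Additive.toMul (y s).1 ≫ D.inj s) ≫ D.pr t = Additive.toMul (y t).1
        rw [prod_comp, Finset.prod_eq_single t (fun s _ hs => ?_) (fun h => absurd (Finset.mem_univ t) h)]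
        · rw [Category.assoc, D.self, Category.comp_id]
        · rw [Category.assoc, D.other t s (Ne.symm hs), MonObj.comp_one])) }
  have h := Nat.card_congr e
  rw [Nat.card_fun, natCard_tors_pt Ω hp hl0, natCard_tors_pt Ω hA hl0, ← pow_mul,
    Nat.card_eq_fintype_card, Fintype.card_fin] at h
  have h' := Nat.pow_right_injective hl.two_le h
  rw [hp, show g * r = p by rw [_root_.mul_assoc] at h'; omega]

/-- The action of an integer matrix. -/
def matEnd (α : Matrix (Fin r) (Fin r) ℤ) : D.P ⟶ D.P :=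
  letI := D.grp
  haveI := D.proper
  haveI := D.geomInt
  haveI : IsCommMonObj A := isCommMonObj_of_isProper_of_geometricallyIntegral A
  haveI : IsCommMonObj D.P := isCommMonObj_of_isProper_of_geometricallyIntegral D.P
  ∏ i, (∏ j, D.pr j ^ α i j) ≫ D.inj i

theorem matEnd_props (g : ℕ) (hA : topologicalKrullDim A.left = (g : WithBot ℕ∞))
    (α : Matrix (Fin r) (Fin r) ℤ) (hα : α.det ≠ 0) :
    letI := D.grp
    IsMonHom (matEnd D α) ∧ IsFinite (matEnd D α).left ∧ Flat (matEnd D α).left ∧
      ∀ y, (matEnd D α).left.finrank y = α.det.natAbs ^ (2 * g) := by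
  classical
  letI := D.grp
  haveI := D.proper
  haveI := D.geomInt
  haveI := D.pr_hom
  haveI := D.inj_hom
  haveI : IsCommMonObj A := isCommMonObj_of_isProper_of_geometricallyIntegral A
  haveI : IsCommMonObj D.P := isCommMonObj_of_isProper_of_geometricallyIntegral D.P
  have hP := dim_power D hA
  have hmon : ∀ M₁ : Matrix (Fin r) (Fin r) ℤ, IsMonHom (matEnd D M₁) := fun M₁ => by
    refine Finset.prod_induction _ (fun f : D.P ⟶ D.P => IsMonHom f)
      (fun a b ha hb => isMonHom_mul' a b) (by infer_instance) fun i _ => ?_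
    haveI : IsMonHom (∏ j, D.pr j ^ M₁ i j) := Finset.prod_induction _ (fun f : D.P ⟶ A => IsMonHom f)
      (fun a b ha hb => isMonHom_mul' a b) (by infer_instance) fun j _ => isMonHom_zpow _ _
    infer_instance
  have hpr : ∀ (M₁ : Matrix (Fin r) (Fin r) ℤ) (t : Fin r), matEnd D M₁ ≫ D.pr t = ∏ j, D.pr j ^ M₁ t j := by
    intro M₁ t
    show (∏ i, (∏ j, D.pr j ^ M₁ i j) ≫ D.inj i) ≫ D.pr t = _
    rw [prod_comp, Finset.prod_eq_single t (fun s _ hs => ?_) (fun h => absurd (Finset.mem_univ t) h)]
    · rw [Category.assoc, D.self, Category.comp_id]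
    · rw [Category.assoc, D.other t s (Ne.symm hs), MonObj.comp_one]
  have hext : ∀ f f' : D.P ⟶ D.P, (∀ t, f ≫ D.pr t = f' ≫ D.pr t) → f = f' := fun f f' h => by
    rw [← Category.comp_id f, ← Category.comp_id f', ← D.total, comp_prod, comp_prod]
    exact Finset.prod_congr rfl fun t _ => by rw [← Category.assoc, h, Category.assoc]
  have hz : ∀ {X : Over (Spec (CommRingCat.of k))} (x : X ⟶ A) (v : Fin r → ℤ), x ^ (∑ j, v j) = ∏ j, x ^ v j := by
    intro X x v
    generalize (Finset.univ : Finset (Fin r)) = S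
    induction S using Finset.induction_on with
    | empty => simp
    | insert a S ha ih => rw [Finset.sum_insert ha, Finset.prod_insert ha, zpow_add, ih]
  have hmul : ∀ M₁ M₂ : Matrix (Fin r) (Fin r) ℤ, matEnd D (M₁ * M₂) = matEnd D M₂ ≫ matEnd D M₁ := fun M₁ M₂ => by
    refine hext _ _ fun t => ?_
    rw [Category.assoc, hpr, hpr, comp_prod, Finset.prod_congr rfl (fun j _ => GrpObj.comp_zpow (matEnd D M₂) (D.pr j) (M₁ t j))]
    simp only [hpr, ← Finset.prod_zpow, ← zpow_mul, Matrix.mul_apply]
    rw [Finset.prod_comm]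
    refine Finset.prod_congr rfl fun s _ => ?_
    rw [hz]
    exact Finset.prod_congr rfl fun j _ => by rw [_root_.mul_comm]
  have hsc : ∀ n : ℕ, matEnd D (Matrix.diagonal fun _ => (n : ℤ)) = 𝟙 D.P ^ n := fun n => by
    refine hext _ _ fun t => ?_
    rw [hpr, MonObj.pow_comp, Category.id_comp, Finset.prod_eq_single t (fun s _ hs => by
      rw [Matrix.diagonal_apply_ne _ (Ne.symm hs), zpow_zero]) (fun h => absurd (Finset.mem_univ t) h),
      Matrix.diagonal_apply_eq, zpow_natCast]
  haveI := hmon
  let μd : Matrix (Fin r) (Fin r) ℤ →* ℕ :=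
    { toFun := fun M₁ => deg (matEnd D M₁)
      map_one' := by
        rw [show (1 : Matrix (Fin r) (Fin r) ℤ) = Matrix.diagonal fun _ => ((1 : ℕ) : ℤ) by simp, hsc, pow_one]
        exact deg_id hP
      map_mul' := fun M₁ M₂ => by
        show deg (matEnd D (M₁ * M₂)) = _
        rw [hmul, deg_comp hP, _root_.mul_comm] }
  have hunit : ∀ M₁ M₂, M₁ * M₂ = 1 → μd M₁ = 1 := fun M₁ M₂ h =>
    Nat.eq_one_of_mul_eq_one_right ((map_mul μd M₁ M₂).symm.trans (h ▸ map_one μd))
  have hscal : ∀ n : ℤ, μd (Matrix.diagonal fun _ => n) = n.natAbs ^ (2 * (g * r)) := fun n => by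
    rcases Int.natAbs_eq n with h | h
    · conv_lhs => rw [h]
      show deg (matEnd D _) = _
      rw [hsc, deg_pow_id hP]
    · conv_lhs => rw [h, show (fun _ : Fin r => -(n.natAbs : ℤ)) = fun i => (fun _ => (-1 : ℤ)) i * (fun _ => (n.natAbs : ℤ)) i by
        funext i; simp, ← Matrix.diagonal_mul_diagonal, map_mul,
        hunit _ (Matrix.diagonal fun _ => (-1 : ℤ)) (by simp [Matrix.diagonal_mul_diagonal])]
      rw [_root_.one_mul]
      show deg (matEnd D _) = _
      rw [hsc, deg_pow_id hP]
  -- one entry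
  let E : Fin r → ℤ → Matrix (Fin r) (Fin r) ℤ := fun i n => Matrix.diagonal (Pi.mulSingle i n)
  have hswap : ∀ (i j : Fin r) (n : ℤ), μd (E i n) = μd (E j n) := fun i j n => by
    let σ := Equiv.swap i j
    have hu : μd (σ.toPEquiv.toMatrix) = 1 := hunit _ (σ.symm.toPEquiv.toMatrix) (by
      rw [← PEquiv.toMatrix_trans, ← Equiv.toPEquiv_trans, Equiv.self_trans_symm, Equiv.toPEquiv_refl,
        PEquiv.toMatrix_refl])
    have hc : σ.toPEquiv.toMatrix * E i n = E j n * σ.toPEquiv.toMatrix := by
      ext a b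
      simp only [E, Matrix.mul_diagonal, Matrix.diagonal_mul, PEquiv.toMatrix_apply, Equiv.toPEquiv_apply,
        Option.mem_def, Option.some.injEq]
      split_ifs with hab
      · subst hab
        rw [_root_.one_mul, _root_.mul_one, Pi.mulSingle_apply, Pi.mulSingle_apply,
          if_congr ((Equiv.apply_eq_iff_eq_symm_apply σ).trans (by rw [Equiv.symm_swap, Equiv.swap_apply_left])) rfl rfl]
      · rw [zero_mul, mul_zero]
    have h := congrArg μd hc
    rwa [map_mul, map_mul, hu, _root_.one_mul, _root_.mul_one] at h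
  have hdiagprod : ∀ d : Fin r → ℤ, μd (Matrix.diagonal d) = ∏ i, μd (E i (d i)) := fun d => by
    have h1 : Matrix.diagonal d = (Matrix.diagonalRingHom (Fin r) ℤ) (∏ i, Pi.mulSingle i (d i)) := by
      rw [Finset.univ_prod_mulSingle]; rfl
    rw [h1]
    exact map_prod (μd.comp (Matrix.diagonalRingHom (Fin r) ℤ).toMonoidHom) _ _
  have hone : ∀ (i : Fin r) (n : ℤ), μd (E i n) = n.natAbs ^ (2 * g) := fun i n => by
    have h := hdiagprod fun _ => n
    rw [hscal, Finset.prod_congr rfl (fun j _ => hswap j i n), Finset.prod_const, Finset.card_univ,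
      Fintype.card_fin, ← _root_.mul_assoc, pow_mul] at h
    exact (Nat.pow_left_injective (fun hr : r = 0 => (hr ▸ i).elim0) h).symm
  obtain ⟨U, U', V, V', d, hU, hV, hUV⟩ := exists_smith α hα
  have hdeg : deg (matEnd D α) = α.det.natAbs ^ (2 * g) := by
    show μd α = _
    rw [hUV, map_mul, map_mul, hunit U U' hU, hunit V V' hV, hdiagprod, Finset.prod_congr rfl (fun i _ => hone i (d i)),
      Matrix.det_mul, Matrix.det_mul, Matrix.det_diagonal, Int.natAbs_mul, Int.natAbs_mul,
      Int.isUnit_iff_natAbs_eq.1 (Matrix.isUnit_det_of_right_inverse hU),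
      Int.isUnit_iff_natAbs_eq.1 (Matrix.isUnit_det_of_right_inverse hV), Finset.prod_pow]
    simp only [Nat.one_mul, Nat.mul_one]
    refine congrArg (· ^ (2 * g)) ?_
    generalize (Finset.univ : Finset (Fin r)) = S
    induction S using Finset.induction_on with
    | empty => simp
    | insert a S ha ih => rw [Finset.prod_insert ha, Finset.prod_insert ha, Int.natAbs_mul, ih]
  have hfin : IsFinite (matEnd D α).left := by
    by_contra hf
    rw [deg_eq_zero_of_not_isFinite hf] at hdeg
    exact pow_ne_zero _ (Int.natAbs_ne_zero.2 hα) hdeg.symm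
  haveI := hfin
  haveI := isIntegral_av D.P
  haveI : Surjective (matEnd D α).left := GrpField.surjective_of_isFinite (matEnd D α) rfl
  exact ⟨hmon α, hfin, GrpField.flat_of_surjective _, fun y => (finrank_eq_deg hP _ hfin y).trans hdeg⟩

end Power

end Groth.Agent.AVDeg
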