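import Groth.Agent.AVDeg.CharRoots
import Groth.Agent.AVDeg.DegBC
import Groth.Agent.AVDeg.HomBC
import Groth.Prelude.Def_EndRing
import Mathlib.RingTheory.Localization.Integral

/-!
The characteristic polynomial of an endomorphism with irreducible minimal polynomial.
-/

set_option autoImplicit false
set_option backward.isDefEq.respectTransparency false
set_option linter.style.haveILetI false
set_option linter.unusedSectionVars false
set_option synthInstance.maxHeartbeats 400000
set_option maxHeartbeats 2000000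

universe u

open CategoryTheory CategoryTheory.Limits MonoidalCategory CartesianMonoidalCategory MonObj AlgebraicGeometry
open TopologicalSpace Polynomial
open scoped CategoryTheory.Obj TensorProduct

noncomputable section

namespace Groth.Agent.AVDeg

/-- A monic polynomial all whose roots are roots of an irreducible `m` is a power of `m`. -/
theorem eq_pow_of_roots {K : Type*} [Field K] [IsAlgClosed K] [Algebra ℚ K] {m : ℚ[X]} (hm : Irreducible m)
    (hm1 : m.Monic) : ∀ (d : ℕ) (P : ℚ[X]), P.Monic → P.natDegree = d →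
      (∀ ω : K, aeval ω P = 0 → aeval ω m = 0) → P = m ^ (d / m.natDegree) := by
  intro d
  induction d using Nat.strong_induction_on with
  | _ d ih =>
    intro P hP hd hroots
    rcases Nat.eq_zero_or_pos d with h0 | h0
    · subst h0
      rw [Nat.zero_div, pow_zero]
      exact eq_one_of_monic_natDegree_zero hP hd
    · obtain ⟨ω, hω⟩ := IsAlgClosed.exists_aeval_eq_zero K P (by
        rw [degree_eq_natDegree hP.ne_zero, hd]; exact_mod_cast h0.ne')
      have hmω := hroots ω hω
      have hmin : m = minpoly ℚ ω := minpoly.eq_of_irreducible_of_monic hm hmω hm1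
      have hmP : m ∣ P := hmin ▸ minpoly.dvd ℚ ω hω
      obtain ⟨Q, rfl⟩ := hmP
      have hQ : Q.Monic := hm1.of_mul_monic_left hP
      have hmd : 0 < m.natDegree := hm.natDegree_pos
      rw [hm1.natDegree_mul hQ] at hd
      have := ih Q.natDegree (by omega) Q hQ rfl fun x hx => hroots x (by rw [map_mul, hx, mul_zero])
      rw [← hd, Nat.add_div_left _ hmd, pow_succ', ← this]

variable {k : Type u} [Field k] (Ω : Type u) [Field Ω] [Algebra k Ω]
variable {A : Over (Spec (CommRingCat.of k))} [GrpObj A] [IsProper A.hom] [GeometricallyIntegral A.hom] [IsCommMonObj A]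

theorem toEnd0_injective : Function.Injective (EndAV.toEnd0 : EndAV.End A →ₐ[ℤ] EndAV.End0 A) := by
  obtain ⟨g, hg⟩ : ∃ g : ℕ, topologicalKrullDim A.left = (g : WithBot ℕ∞) := by
    haveI : Nonempty A.left := ⟨η[A].left (IsLocalRing.closedPoint k : ↥(Spec (CommRingCat.of k)))⟩
    exact exists_dim A
  haveI : Module.Free ℤ (EndAV.End A) := (hom_lattice (A := A) (B := A) hg hg).1
  have h : Function.Injective ((Algebra.linearMap ℤ ℚ).rTensor (EndAV.End A)) :=
    Module.Flat.rTensor_preserves_injective_linearMap _ (RingHom.injective_int (algebraMap ℤ ℚ))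
  intro a b hab
  have := h (show (Algebra.linearMap ℤ ℚ).rTensor (EndAV.End A) ((1 : ℤ) ⊗ₜ a) =
    (Algebra.linearMap ℤ ℚ).rTensor (EndAV.End A) ((1 : ℤ) ⊗ₜ b) by
    simpa [LinearMap.rTensor_tmul, EndAV.toEnd0_apply] using hab)
  simpa using congrArg (TensorProduct.lid ℤ (EndAV.End A)) this

variable [IsAlgClosed Ω]

/-- The polynomial of degrees of an endomorphism with irreducible minimal polynomial is a power of it. -/
theorem charpoly_eq_minpoly_pow {g : ℕ} (hg : topologicalKrullDim A.left = (g : WithBot ℕ∞)) (φ : EndAV.End A)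
    (hirr : Irreducible (minpoly ℚ (EndAV.toEnd0 φ))) {P : Polynomial ℤ} (hP : P.Monic)
    (hPd : P.natDegree = 2 * g)
    (hPv : ∀ n : ℤ, P.eval n = deg (EndAV.End.toHom (endBC Ω φ - (n : EndAV.End (bcK k Ω A))))) :
    P.map (Int.castRingHom ℚ) =
      minpoly ℚ (EndAV.toEnd0 φ) ^ (2 * g / (minpoly ℚ (EndAV.toEnd0 φ)).natDegree) := by
  set x := EndAV.toEnd0 φ with hx
  set m := minpoly ℚ x with hm
  have hint : IsIntegral ℚ x := by
    by_contra h
    exact hirr.ne_zero (minpoly.eq_zero h)
  refine eq_pow_of_roots (K := AlgebraicClosure ℚ) hirr (minpoly.monic hint) _ _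
    (hP.map _) ((hP.natDegree_map _).trans hPd) fun ω hω => ?_
  by_contra hne
  set q := minpoly ℚ ω
  have hq : Irreducible q := minpoly.irreducible (Algebra.IsIntegral.isIntegral ω)
  have hqm : IsCoprime q m := (hq.coprime_iff_not_dvd).2 fun hdvd => hne (by
    obtain ⟨c, hc⟩ := hdvd
    rw [hc, map_mul, minpoly.aeval, zero_mul])
  obtain ⟨a, b, hab⟩ := hqm
  obtain ⟨N, hN, hN'⟩ := IsLocalization.integerNormalization_spec (nonZeroDivisors ℤ) (a * q)
  set T := IsLocalization.integerNormalization (nonZeroDivisors ℤ) (a * q)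
  change T.map (algebraMap ℤ ℚ) = (N : ℤ) • (a * q) at hN'
  have hT1 : aeval x (a * q) = 1 := by
    rw [show a * q = 1 - b * m by rw [← hab]; ring, map_sub, map_one, map_mul, minpoly.aeval, mul_zero, sub_zero]
  have hTx : aeval φ T = ((N : ℤ) : EndAV.End A) := by
    refine toEnd0_injective ?_
    rw [← aeval_algHom_apply, ← aeval_map_algebraMap ℚ x T, hN', map_zsmul, hT1, map_intCast, zsmul_one]
  have hTΩ : aeval (endBC Ω φ) T = ((N : ℤ) : EndAV.End (bcK k Ω A)) := by
    have h : endBC Ω (aeval φ T) = aeval (endBC Ω φ) T := by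
      rw [aeval_eq_sum_range, aeval_eq_sum_range, map_sum]
      exact Finset.sum_congr rfl fun i _ => by rw [map_zsmul, map_pow]
    rw [← h, hTx, map_intCast]
  have hTω : aeval ω T = 0 := by
    rw [← aeval_map_algebraMap ℚ ω T, hN', map_zsmul, map_mul, minpoly.aeval, mul_zero, smul_zero]
  have hgΩ := (topologicalKrullDim_bcK (A := A) Ω).trans hg
  have h1 := deg_aeval hgΩ (endBC Ω φ) hP hPd hPv (AlgebraicClosure ℚ) T
  have h2 := deg_aeval hgΩ (endBC Ω φ) hP hPd hPv (AlgebraicClosure ℚ) (C (N : ℤ))
  rw [hTΩ] at h1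
  rw [aeval_C, eq_intCast, h1] at h2
  have hmem : ω ∈ (P.map (Int.castRingHom (AlgebraicClosure ℚ))).roots := by
    rw [mem_roots (hP.map _).ne_zero, IsRoot.def, Polynomial.eval_map]
    rw [show (Int.castRingHom ℚ) = algebraMap ℤ ℚ from RingHom.ext_int _ _, aeval_map_algebraMap, aeval_def] at hω
    exact (congrArg (fun f => Polynomial.eval₂ f ω P) (RingHom.ext_int _ _)).trans hω
  rw [Multiset.prod_eq_zero (Multiset.mem_map.2 ⟨ω, hmem, hTω⟩)] at h2
  simp only [aeval_C, Multiset.map_const', Multiset.prod_replicate] at h2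
  exact pow_ne_zero _ (by simpa using nonZeroDivisors.ne_zero hN) h2.symm

end Groth.Agent.AVDeg
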