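import Groth.Agent.AVDeg.TateCoker
import Groth.Agent.GrpField.SchDomFlat
import Groth.Prelude.Def_AlgGrp

/-!
Kernels of isogenies and Tate modules under base change.
-/

set_option autoImplicit false
set_option backward.isDefEq.respectTransparency false
set_option linter.style.haveILetI false
set_option linter.unusedSectionVars false
set_option synthInstance.maxHeartbeats 400000

universe u

open CategoryTheory CategoryTheory.Limits MonoidalCategory CartesianMonoidalCategory MonObj AlgebraicGeometry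
open TopologicalSpace
open scoped CategoryTheory.Obj

noncomputable section

namespace Groth.Agent.AVDeg

variable {k : Type u} (Ω : Type u) [Field k] [Field Ω] [Algebra k Ω]
variable {A B : Over (Spec (CommRingCat.of k))} [GrpObj A] [GrpObj B]

theorem ptsBC_comp (x : SGA7.pt (K := k) Ω ⟶ A) (φ : A ⟶ B) :
    ptsBC Ω (x ≫ φ) = ptsBC Ω x ≫ bcMap Ω φ := by
  show unitPt Ω ≫ (Over.pullback (specMap k Ω)).map (x ≫ φ) = _
  rw [Functor.map_comp, ← Category.assoc]
  rfl

theorem ptsBC_one : ptsBC Ω (1 : SGA7.pt (K := k) Ω ⟶ A) = 1 := by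
  show unitPt Ω ≫ (Over.pullback (specMap k Ω)).map 1 = _
  rw [Functor.map_one, MonObj.comp_one]

variable [IsProper A.hom] [GeometricallyIntegral A.hom] [IsCommMonObj A]
variable [IsProper B.hom] [GeometricallyIntegral B.hom] [IsCommMonObj B]

/-- Points of the kernel. -/
theorem exists_kerBC {N : Over (Spec (CommRingCat.of k))} [GrpObj N] (i : N ⟶ A) [IsMonHom i] (φ : A ⟶ B)
    [IsMonHom φ] (hN : AlgGrp.IsKernel i φ) :
    ∃ E : (SGA7.pt (K := k) Ω ⟶ N) →* kerPts (bcMap Ω φ), Function.Bijective E := by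
  have hmem : ∀ x : SGA7.pt (K := k) Ω ⟶ N, ptsBC Ω (x ≫ i) ∈ kerPts (bcMap Ω φ) := fun x => by
    show ptsBC Ω (x ≫ i) ≫ bcMap Ω φ = 1
    rw [← ptsBC_comp, Category.assoc, hN.w, ← Category.assoc, show x ≫ toUnit N = toUnit _ from toUnit_unique _ _,
      ← Hom.one_def, ptsBC_one]
  let E : (SGA7.pt (K := k) Ω ⟶ N) →* kerPts (bcMap Ω φ) := MonoidHom.mk' (fun x => ⟨_, hmem x⟩)
    fun x y => Subtype.ext (by
      show ptsBC Ω ((x * y) ≫ i) = ptsBC Ω (x ≫ i) * ptsBC Ω (y ≫ i)
      rw [MonObj.mul_comp, ptsBC_mul])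
  refine ⟨E, fun x y h => hN.hom_ext ((ptsBC Ω).injective (congrArg Subtype.val h)) (toUnit_unique _ _),
    fun z => ?_⟩
  obtain ⟨a, ha⟩ := (ptsBC (A := A) Ω).surjective z.1
  refine ⟨hN.lift a (toUnit _) ((ptsBC Ω).injective ?_), Subtype.ext ?_⟩
  · rw [ptsBC_comp, ha, show (toUnit _ ≫ η[B] : SGA7.pt (K := k) Ω ⟶ B) = 1 from Hom.one_def.symm, ptsBC_one]
    exact z.2
  · show ptsBC Ω (_ ≫ i) = z.1
    rw [hN.lift_fst, ha]

variable [IsAlgClosed Ω] {l : ℕ} [Fact l.Prime]

/-- An isogeny on Tate modules. -/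
theorem tateMap_isogeny (hl : (l : k) ≠ 0) (φ : A ⟶ B) [IsMonHom φ] [IsFinite φ.left] [Surjective φ.left]
    {N : Over (Spec (CommRingCat.of k))} [GrpObj N] [IsCommMonObj N] (i : N ⟶ A) [IsMonHom i] (hN : AlgGrp.IsKernel i φ) :
    Function.Injective (AbDual.tateMapₗ (l := l) (T := SGA7.pt (K := k) Ω) φ) ∧
      Nonempty ((AbDual.TateMod B l (SGA7.pt (K := k) Ω) ⧸
          LinearMap.range (AbDual.tateMapₗ (l := l) (T := SGA7.pt (K := k) Ω) φ)) ≃+
        Additive ↥(CommGroup.primaryComponent (SGA7.pt (K := k) Ω ⟶ N) l)) := by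
  haveI := isIntegral_av A
  haveI := isIntegral_av B
  haveI : Nonempty A.left := ⟨η[A].left (IsLocalRing.closedPoint k)⟩
  obtain ⟨r, hA⟩ := exists_dim A
  have hB : topologicalKrullDim B.left = (r : WithBot ℕ∞) := (GrpField.dim_eq_of_isFinite φ).symm.trans hA
  haveI : IsFinite (bcMap Ω φ).left := (isFinite_bcMap_iff Ω φ).2 inferInstance
  have hl' := ne_zero_bc Ω hl
  have hconj : ∀ x, tateBC Ω (AbDual.tateMapₗ (l := l) (T := SGA7.pt (K := k) Ω) φ x) =
      AbDual.tateMapₗ (l := l) (T := one' Ω) (bcMap Ω φ) (tateBC Ω x) := fun x =>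
    tateBC_tateMap Ω (EndAV.Hom.of φ) x
  refine ⟨fun x y h => (tateBC Ω).injective (injective_tate_of_isFinite (l := l) (bcMap Ω φ) (by
    rw [← hconj, ← hconj, h])), ?_⟩
  obtain ⟨E, hE⟩ := exists_kerBC Ω i φ hN
  let E' := MulEquiv.ofBijective E hE
  haveI : Finite (kerPts (bcMap Ω φ)) := (finite_kerPts_of_isFinite (bcMap Ω φ)).to_subtype
  haveI : Finite (SGA7.pt (K := k) Ω ⟶ N) := Finite.of_equiv _ E'.symm.toEquiv
  obtain ⟨n₀, hn₀⟩ := exists_coker_equiv (l := l) hl' ((topologicalKrullDim_bcK Ω).trans hA)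
    ((topologicalKrullDim_bcK Ω).trans hB) (bcMap Ω φ)
  obtain ⟨n₁, hn₁⟩ := exists_primary_eq (l := l) (G := (SGA7.pt (K := k) Ω ⟶ N))
  obtain ⟨C⟩ := hn₀ (max n₀ n₁) (le_max_left _ _)
  let n := max n₀ n₁
  have hrange : (LinearMap.range (AbDual.tateMapₗ (l := l) (T := SGA7.pt (K := k) Ω) φ)).map
      (tateBC (A := B) (l := l) Ω).toLinearMap =
      LinearMap.range (AbDual.tateMapₗ (l := l) (T := one' Ω) (bcMap Ω φ)) := by
    rw [← LinearMap.range_comp]
    refine le_antisymm ?_ ?_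
    · rintro _ ⟨x, rfl⟩
      exact ⟨tateBC Ω x, (hconj x).symm⟩
    · rintro _ ⟨y, rfl⟩
      exact ⟨(tateBC Ω).symm y, by
        show tateBC Ω (AbDual.tateMapₗ (l := l) (T := SGA7.pt (K := k) Ω) φ ((tateBC Ω).symm y)) = _
        rw [hconj, LinearEquiv.apply_symm_apply]⟩
  refine ⟨((Submodule.Quotient.equiv _ _ (tateBC (A := B) (l := l) Ω) hrange).toAddEquiv.trans C).trans ?_⟩
  exact MulEquiv.toAdditive
    { toFun := fun x => ⟨E'.symm x.1, (hn₁ n (le_max_right _ _)).le (show (E'.symm x.1) ^ (l ^ n) = 1 by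
        rw [← map_pow, show x.1 ^ (l ^ n) = 1 from x.2, map_one])⟩
      invFun := fun y => ⟨E' y.1, show (E' y.1) ^ (l ^ n) = 1 by
        rw [← map_pow, show y.1 ^ (l ^ n) = 1 from (hn₁ n (le_max_right _ _)).ge y.2, map_one]⟩
      left_inv := fun x => Subtype.ext (E'.apply_symm_apply _)
      right_inv := fun y => Subtype.ext (E'.symm_apply_apply _)
      map_mul' := fun a b => Subtype.ext (map_mul E'.symm _ _) }

/-- A closed immersion on Tate modules. -/
theorem tateMap_closedImmersion (hl : (l : k) ≠ 0) (i : A ⟶ B) [IsMonHom i] [IsClosedImmersion i.left] :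
    Function.Injective (AbDual.tateMapₗ (l := l) (T := SGA7.pt (K := k) Ω) i) ∧
      Module.Free ℤ_[l] (AbDual.TateMod B l (SGA7.pt (K := k) Ω) ⧸
        LinearMap.range (AbDual.tateMapₗ (l := l) (T := SGA7.pt (K := k) Ω) i)) := by
  haveI : Mono i := (Over.forget _).mono_of_mono_map (inferInstanceAs (Mono i.left))
  let T := SGA7.pt (K := k) Ω
  have hpt : ∀ x y : Additive (T ⟶ A), Additive.toMul x ≫ i = Additive.toMul y ≫ i → x = y :=
    fun x y h => Additive.toMul.injective ((cancel_mono i).1 h)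
  have hcomp : ∀ (x : AbDual.TateMod A l T) n,
      ((AbDual.tateMapₗ (l := l) (T := T) i x : AbDual.TateMod B l T) : ℕ → Additive (T ⟶ B)) n =
        Additive.ofMul (Additive.toMul ((x : ℕ → Additive (T ⟶ A)) n) ≫ i) := fun x n => rfl
  have hinj : Function.Injective (AbDual.tateMapₗ (l := l) (T := T) i) := fun x y h =>
    AbDual.TateMod.ext fun n => hpt _ _ (congrArg Additive.toMul
      ((hcomp x n).symm.trans ((congrArg (fun s : AbDual.TateMod B l T => (s : ℕ → Additive (T ⟶ B)) n) h).trans (hcomp y n))))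
  refine ⟨hinj, ?_⟩
  obtain ⟨hfin', hfree'⟩ := moduleFinite_tate (A := bcK k Ω B) (ne_zero_bc Ω hl)
  haveI := hfin'
  haveI := hfree'
  haveI : Module.Finite ℤ_[l] (AbDual.TateMod B l T) := Module.Finite.equiv (tateBC (A := B) (l := l) Ω).symm
  let R := LinearMap.range (AbDual.tateMapₗ (l := l) (T := T) i)
  -- divisibility by `l` descends
  have key : ∀ y, (l : ℤ_[l]) • y ∈ R → y ∈ R := by
    rintro y ⟨x, hx⟩
    have hx1 : (x : ℕ → Additive (T ⟶ A)) 1 = 0 := hpt _ _ (by
      have h1 := congrArg (fun s : AbDual.TateMod B l T => (s : ℕ → Additive (T ⟶ B)) 1) hx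
      simp only [hcomp, Nat.cast_smul_eq_nsmul] at h1
      show Additive.toMul _ ≫ i = (1 : T ⟶ A) ≫ i
      rw [MonObj.one_comp i]
      refine (congrArg Additive.toMul h1).trans ?_
      show Additive.toMul (l • (y : ℕ → Additive (T ⟶ B)) 1) = 1
      have := y.torsion 1
      rw [pow_one] at this
      rw [this]
      rfl)
    let x' : AbDual.TateMod A l T := ⟨fun m => (x : ℕ → Additive (T ⟶ A)) (m + 1), fun m => by
      show (l ^ m) • (x : ℕ → Additive (T ⟶ A)) (m + 1) = 0
      induction m with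
      | zero => rw [hx1, smul_zero]
      | succ m ih => rw [pow_succ, mul_smul, x.compat]; exact ih, fun m => x.compat (m + 1)⟩
    refine ⟨x', AbDual.TateMod.ext fun m => ?_⟩
    have h2 := congrArg (fun s : AbDual.TateMod B l T => (s : ℕ → Additive (T ⟶ B)) (m + 1)) hx
    simp only [hcomp, Nat.cast_smul_eq_nsmul] at h2
    rw [hcomp]
    exact h2.trans (y.compat m)
  haveI : Module.IsTorsionFree ℤ_[l] (AbDual.TateMod B l T ⧸ R) := by
    refine Module.IsTorsionFree.of_smul_eq_zero fun c q hcq => ?_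
    obtain ⟨y, rfl⟩ := Submodule.Quotient.mk_surjective R q
    refine or_iff_not_imp_left.2 fun hc => (Submodule.Quotient.mk_eq_zero R).2 ?_
    rw [← Submodule.Quotient.mk_smul, Submodule.Quotient.mk_eq_zero, PadicInt.unitCoeff_spec hc, mul_smul] at hcq
    have h3 : ((l : ℤ_[l]) ^ c.valuation) • y ∈ R := by
      have := R.smul_mem ((PadicInt.unitCoeff hc)⁻¹ : ℤ_[l]ˣ).val hcq
      rwa [smul_smul, Units.inv_mul, one_smul] at this
    clear hcq
    generalize c.valuation = m at h3
    induction m with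
    | zero => rwa [pow_zero, one_smul] at h3
    | succ m ih => exact ih (key _ (by rwa [smul_smul, ← pow_succ']))
  exact Module.free_of_finite_type_torsion_free'

end Groth.Agent.AVDeg

namespace Groth.Agent.AVDeg

theorem natCard_tors_le_of_hom {G H : Type*} [AddCommGroup G] [AddCommGroup H] (f : G →+ H) [Finite f.ker] (n : ℕ)
    [Finite (tors G n)] [Finite (tors H n)] :
    Nat.card (tors G n) ≤ Nat.card f.ker * Nat.card (tors H n) := by
  let φ : tors G n →+ tors H n := (f.comp (tors G n).subtype).codRestrict _ fun x => by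
    show n • f x.1 = 0
    rw [← map_nsmul, show n • x.1 = 0 from x.2, map_zero]
  rw [AddSubgroup.card_eq_card_quotient_mul_card_addSubgroup φ.ker,
    Nat.card_congr (QuotientAddGroup.quotientKerEquivRange φ).toEquiv, mul_comm]
  refine Nat.mul_le_mul ?_ ?_
  · exact Nat.card_le_card_of_injective (fun x => (⟨x.1.1, congrArg Subtype.val x.2⟩ : f.ker))
      fun a b h => Subtype.ext (Subtype.ext (congrArg (fun z : f.ker => z.1) h))
  · exact Nat.card_le_card_of_injective Subtype.val Subtype.val_injective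

theorem natCard_tors_le_of_surjective {G H : Type*} [AddCommGroup G] [AddCommGroup H] (f : G →+ H) [Finite f.ker]
    (hf : Function.Surjective f) (n : ℕ) [Finite (tors G n)] [Finite (tors H n)] :
    Nat.card (tors H n) ≤ Nat.card f.ker * Nat.card (tors G n) := by
  let S := f.ker.comap (nsmulAddMonoidHom (α := G) n)
  let ψ : S →+ f.ker := ((nsmulAddMonoidHom (α := G) n).comp S.subtype).codRestrict _ fun x => x.2
  haveI : Finite ψ.ker := Finite.of_injective (fun x => (⟨x.1.1, congrArg Subtype.val x.2⟩ : tors G n))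
    fun a b h => Subtype.ext (Subtype.ext (congrArg (fun z : tors G n => z.1) h))
  haveI : Finite S := by
    haveI : Finite (S ⧸ ψ.ker) := Finite.of_equiv _ (QuotientAddGroup.quotientKerEquivRange ψ).symm.toEquiv
    exact Finite.of_equiv _ (AddSubgroup.addGroupEquivQuotientProdAddSubgroup (s := ψ.ker)).symm
  have h1 : Nat.card (tors H n) ≤ Nat.card S := by
    refine Nat.card_le_card_of_surjective (fun x : S => (⟨f x.1, ?_⟩ : tors H n)) fun y => ?_
    · show n • f x.1 = 0
      rw [← map_nsmul]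
      exact x.2
    · obtain ⟨a, ha⟩ := hf y.1
      refine ⟨⟨a, show f (n • a) = 0 by rw [map_nsmul, ha]; exact y.2⟩, Subtype.ext ha⟩
  refine h1.trans ?_
  rw [AddSubgroup.card_eq_card_quotient_mul_card_addSubgroup ψ.ker,
    Nat.card_congr (QuotientAddGroup.quotientKerEquivRange ψ).toEquiv]
  refine Nat.mul_le_mul (Nat.card_le_card_of_injective Subtype.val Subtype.val_injective) ?_
  exact Nat.card_le_card_of_injective (fun x => (⟨x.1.1, congrArg Subtype.val x.2⟩ : tors G n))
    fun a b h => Subtype.ext (Subtype.ext (congrArg (fun z : tors G n => z.1) h))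

variable {k : Type u} (Ω : Type u) [Field k] [Field Ω] [Algebra k Ω]
variable {A : Over (Spec (CommRingCat.of k))} [GrpObj A] [IsProper A.hom] [GeometricallyIntegral A.hom] [IsCommMonObj A]

/-- Torsion points and torsion of the base change. -/
theorem natCard_tors_bc (n : ℕ) :
    Nat.card (tors (Additive (one' Ω ⟶ bcK k Ω A)) n) = Nat.card (AbDual.torsPts A n (SGA7.pt (K := k) Ω)) :=
  (Nat.card_congr
    { toFun := fun a => ⟨ptsBCAdd Ω (Additive.ofMul a.1), by
        show n • ptsBCAdd Ω (Additive.ofMul a.1) = 0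
        rw [← map_nsmul, show n • Additive.ofMul a.1 = 0 from congrArg Additive.ofMul a.2, map_zero]⟩
      invFun := fun y => ⟨Additive.toMul ((ptsBCAdd Ω).symm y.1), by
        rw [AbDual.mem_torsPts]
        refine congrArg Additive.toMul (show n • (ptsBCAdd Ω).symm y.1 = 0 from ?_)
        rw [← map_nsmul, show n • y.1 = 0 from y.2, map_zero]⟩
      left_inv := fun a => Subtype.ext (congrArg Additive.toMul ((ptsBCAdd Ω).symm_apply_apply _))
      right_inv := fun y => Subtype.ext ((ptsBCAdd Ω).apply_symm_apply _) }).symm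

variable [IsAlgClosed Ω] {B : Over (Spec (CommRingCat.of k))}
variable [GrpObj B] [IsProper B.hom] [GeometricallyIntegral B.hom] [IsCommMonObj B]

/-- The `p`-rank is an isogeny invariant. -/
theorem pRank_isogeny (p : ℕ) [Fact p.Prime] (h : A ⟶ B) [IsMonHom h] [IsFinite h.left] [Surjective h.left] (i j : ℕ)
    (hi : ∀ m, Nat.card (AbDual.torsPts A (p ^ m) (SGA7.pt (K := k) Ω)) = (p ^ m) ^ i)
    (hj : ∀ m, Nat.card (AbDual.torsPts B (p ^ m) (SGA7.pt (K := k) Ω)) = (p ^ m) ^ j) : i = j := by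
  haveI : IsFinite (bcMap Ω h).left := (isFinite_bcMap_iff Ω h).2 inferInstance
  haveI : Surjective (bcMap Ω h).left := MorphismProperty.of_isPullback (isPullback_bcMap Ω h) ‹_›
  haveI := isIntegral_av (bcK k Ω A)
  let f : Additive (one' Ω ⟶ bcK k Ω A) →+ Additive (one' Ω ⟶ bcK k Ω B) :=
    ⟨⟨fun y => Additive.ofMul (Additive.toMul y ≫ bcMap Ω h), congrArg Additive.ofMul (MonObj.one_comp _)⟩,
      fun y z => congrArg Additive.ofMul (MonObj.mul_comp _ _ _)⟩
  haveI : Finite (kerPts (bcMap Ω h)) := (finite_kerPts_of_isFinite (bcMap Ω h)).to_subtype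
  haveI : Finite f.ker := Finite.of_injective
    (fun x => (⟨Additive.toMul x.1, congrArg Additive.toMul x.2⟩ : kerPts (bcMap Ω h)))
    fun a b hab => Subtype.ext (congrArg (fun z : kerPts (bcMap Ω h) => Additive.ofMul z.1) hab)
  have hsurj : Function.Surjective f := fun y => by
    obtain ⟨a, ha⟩ := exists_point_comp (bcMap Ω h) (Additive.toMul y)
    exact ⟨Additive.ofMul a, congrArg Additive.ofMul ha⟩
  have hp : p.Prime := Fact.out
  have hfA : ∀ m, Finite (tors (Additive (one' Ω ⟶ bcK k Ω A)) (p ^ m)) := fun m =>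
    Nat.finite_of_card_ne_zero (by rw [natCard_tors_bc, hi]; exact pow_ne_zero _ (pow_ne_zero _ hp.ne_zero))
  have hfB : ∀ m, Finite (tors (Additive (one' Ω ⟶ bcK k Ω B)) (p ^ m)) := fun m =>
    Nat.finite_of_card_ne_zero (by rw [natCard_tors_bc, hj]; exact pow_ne_zero _ (pow_ne_zero _ hp.ne_zero))
  haveI := hfA
  haveI := hfB
  let c := Nat.card f.ker
  have hlt : c < p ^ c := Nat.lt_pow_self hp.one_lt
  have h1 : (p ^ c) ^ i ≤ c * (p ^ c) ^ j := by
    have := natCard_tors_le_of_hom f (p ^ c)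
    rwa [natCard_tors_bc, natCard_tors_bc, hi, hj] at this
  have h2 : (p ^ c) ^ j ≤ c * (p ^ c) ^ i := by
    have := natCard_tors_le_of_surjective f hsurj (p ^ c)
    rwa [natCard_tors_bc, natCard_tors_bc, hi, hj] at this
  have key : ∀ a b : ℕ, (p ^ c) ^ a ≤ c * (p ^ c) ^ b → a ≤ b := fun a b hab => by
    by_contra hlt'
    have h3 : (p ^ c) ^ (b + 1) ≤ (p ^ c) ^ a := Nat.pow_le_pow_right (pow_pos hp.pos _) (by omega)
    rw [pow_succ'] at h3
    exact absurd (Nat.le_of_mul_le_mul_right (h3.trans hab) (pow_pos (pow_pos hp.pos _) _)) hlt.not_ge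
  exact le_antisymm (key i j h1) (key j i h2)

end Groth.Agent.AVDeg
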