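import Groth.Agent.AVDeg.WeilRoots
import Groth.Agent.AVDeg.TateKerBC
import Groth.Agent.AVDeg.FiniteKer
import Groth.Agent.FinPts.NoTangent
import Groth.Agent.WeilLib.FixedPts

/-!
`π^n - 1` is separable, so the number of points over the extension of degree `n` is its degree.
-/

set_option autoImplicit false
set_option backward.isDefEq.respectTransparency false
set_option backward.isDefEq.respectTransparency.types false
set_option linter.style.haveILetI false
set_option linter.unusedSectionVars false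
set_option synthInstance.maxHeartbeats 400000
set_option maxHeartbeats 1000000

universe u

open CategoryTheory CategoryTheory.Limits MonoidalCategory CartesianMonoidalCategory MonObj AlgebraicGeometry
open TopologicalSpace
open scoped CategoryTheory.Obj

noncomputable section

namespace Groth.Agent.AVDeg

attribute [local instance] overInst

/-- Frobenius kills the nilpotent part of the dual numbers. -/
theorem iterateFrobenius_dualNumber {K : Type u} [Field K] (p : ℕ) [Fact p.Prime] [CharP K p]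
    [ExpChar K p] [ExpChar (DualNumber K) p] {E : ℕ} (hE : 0 < E) :
    iterateFrobenius (DualNumber K) p E = (algebraMap K (DualNumber K)).comp
      ((iterateFrobenius K p E).comp (TrivSqZeroExt.fstHom K K K).toRingHom) := by
  refine RingHom.ext fun x => ?_
  rw [iterateFrobenius_def]
  refine TrivSqZeroExt.ext (by rw [TrivSqZeroExt.fst_pow]; rfl) ?_
  rw [TrivSqZeroExt.snd_pow]
  show (p ^ E) • _ = (0 : K)
  rw [nsmul_eq_mul, Nat.cast_pow, CharP.cast_eq_zero, zero_pow hE.ne', zero_mul]

section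

variable {k : Type u} [Field k] [Finite k] (Ω : Type u) [Field Ω] [Algebra k Ω]
variable {A : Over (Spec (CommRingCat.of k))} [GrpObj A] [IsProper A.hom] [GeometricallyIntegral A.hom] [IsCommMonObj A]
variable (p : ℕ) [Fact p.Prime] [CharP k p]

/-- Powers of the Frobenius are Frobenius iterates. -/
theorem toHom_pow_left [FrobSch.IsCharP A.left p] (e : ℕ) (φ : EndAV.End A)
    (hφ : (EndAV.End.toHom φ).left = WeilLib.frobPow p A.left e) (n : ℕ) :
    (EndAV.End.toHom (φ ^ n)).left = WeilLib.frobPow p A.left (e * n) := by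
  induction n with
  | zero => simp [WeilLib.frobPow]
  | succ n ih =>
    rw [pow_succ', EndAV.End.toHom_mul, Over.comp_left, ih, hφ, Nat.mul_succ, WeilLib.frobPow_add]

variable [IsAlgClosed Ω] [CharP Ω p] [ExpChar Ω p]

theorem toHom_endBC_pow_sub_one (φ : EndAV.End A) (n : ℕ) :
    EndAV.End.toHom (endBC Ω φ ^ n - 1) = bcMap Ω (EndAV.End.toHom (φ ^ n)) / 𝟙 _ := by
  rw [EndAV.End.toHom_sub, ← map_pow, toHom_endBC, EndAV.End.toHom_one]

theorem comp_div_id_eq_one_iff {k : Type u} [Field k] {A T : Over (Spec (CommRingCat.of k))} [GrpObj A]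
    (a : T ⟶ A) (F : A ⟶ A) : a ≫ (F / 𝟙 A) = 1 ↔ a ≫ F = a := by
  rw [GrpObj.comp_div, Category.comp_id, div_eq_one]

/-- The kernel of `π^n - 1` is the set of Frobenius-fixed geometric points. -/
def kerEquivFixed [FrobSch.IsCharP A.left p] (e : ℕ) (φ : EndAV.End A)
    (hφ : (EndAV.End.toHom φ).left = WeilLib.frobPow p A.left e) (n : ℕ) :
    {a : one' Ω ⟶ bcK k Ω A // a ≫ EndAV.End.toHom (endBC Ω φ ^ n - 1) = η[bcK k Ω A]} ≃
      WeilLib.FixedPts Ω A.hom p (e * n) := by
  haveI : FrobSch.IsCharP (SGA7.pt (K := k) Ω).left p := inferInstanceAs (FrobSch.IsCharP (Spec (CommRingCat.of Ω)) p)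
  refine ((ptsBC (A := A) Ω).symm.subtypeEquiv
    (q := fun x : SGA7.pt (K := k) Ω ⟶ A => x ≫ EndAV.End.toHom (φ ^ n) = x) fun a => ?_).trans ?_
  · obtain ⟨x, rfl⟩ := (ptsBC (A := A) Ω).surjective a
    rw [eta_eq_one, toHom_endBC_pow_sub_one, comp_div_id_eq_one_iff, ← ptsBC_comp, Equiv.symm_apply_apply,
      (ptsBC (A := A) Ω).injective.eq_iff]
  · exact
      { toFun := fun x => ⟨x.1.left, Over.w x.1,
          (WeilLib.frobPow_comp p x.1.left (e * n)).trans (by
            rw [← toHom_pow_left p e φ hφ n]; exact congrArg CommaMorphism.left x.2)⟩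
        invFun := fun a => ⟨Over.homMk a.1 a.2.1, Over.OverMorphism.ext (by
          show a.1 ≫ (EndAV.End.toHom (φ ^ n)).left = a.1
          rw [toHom_pow_left p e φ hφ n]
          exact (WeilLib.frobPow_comp p a.1 (e * n)).symm.trans a.2.2)⟩
        left_inv := fun x => Subtype.ext (Over.OverMorphism.ext rfl)
        right_inv := fun a => rfl }

/-- The degree of `π^n - 1` is the number of Frobenius-fixed geometric points, once it is finite. -/
theorem deg_eq_card_fixed [FrobSch.IsCharP A.left p] (e : ℕ) (he : 0 < e) (φ : EndAV.End A)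
    (hφ : (EndAV.End.toHom φ).left = WeilLib.frobPow p A.left e) {r : ℕ}
    (hA : topologicalKrullDim A.left = (r : WithBot ℕ∞)) (n : ℕ) (hn : 0 < n)
    (hne : deg (EndAV.End.toHom (endBC Ω φ ^ n - 1)) ≠ 0) :
    Finite (WeilLib.FixedPts Ω A.hom p (e * n)) ∧
      deg (EndAV.End.toHom (endBC Ω φ ^ n - 1)) = Nat.card (WeilLib.FixedPts Ω A.hom p (e * n)) := by
  set ψ := EndAV.End.toHom (endBC Ω φ ^ n - 1) with hψ
  have hAΩ := (topologicalKrullDim_bcK (A := A) Ω).trans hA
  haveI := isIntegral_av (bcK k Ω A)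
  haveI : IsFinite ψ.left := by
    by_contra hf
    exact hne (deg_eq_zero_of_not_isFinite hf)
  haveI : Surjective ψ.left := GrpField.surjective_of_isFinite ψ rfl
  haveI : Flat ψ.left := GrpField.flat_of_surjective ψ
  have hfin : Finite {a : one' Ω ⟶ bcK k Ω A // a ≫ ψ = η[bcK k Ω A]} := by
    haveI : Finite (kerPts ψ) := (finite_kerPts_of_isFinite ψ).to_subtype
    exact Finite.of_equiv (kerPts ψ) (Equiv.subtypeEquivRight fun x => (by rw [eta_eq_one]; exact Iff.rfl :
        x ∈ kerPts ψ ↔ x ≫ ψ = η[bcK k Ω A]))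
  haveI := hfin
  refine ⟨Finite.of_equiv _ (kerEquivFixed Ω p e φ hφ n), ?_⟩
  rw [← Nat.card_congr (kerEquivFixed Ω p e φ hφ n), ← finrank_eq_deg hAΩ ψ inferInstance
    (η[bcK k Ω A].left (IsLocalRing.closedPoint Ω))]
  haveI : IsClosedImmersion η[bcK k Ω A].left :=
    isClosedImmersion_of_comp_eq_id (bcK k Ω A).hom η[bcK k Ω A].left (Over.w η[bcK k Ω A])
  let q : pullback ψ.left η[bcK k Ω A].left ⟶ Spec (CommRingCat.of Ω) := pullback.snd ψ.left η[bcK k Ω A].left
  haveI : IsFinite q := MorphismProperty.pullback_snd _ _ ‹IsFinite ψ.left›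
  have hfst : pullback.fst ψ.left η[bcK k Ω A].left ≫ (bcK k Ω A).hom = q := by
    rw [← Over.w ψ, ← Category.assoc, pullback.condition, Category.assoc, Over.w η[bcK k Ω A]]
    exact Category.comp_id _
  rw [← Scheme.Hom.finrank_pullback_snd ψ.left η[bcK k Ω A].left (IsLocalRing.closedPoint Ω)]
  show q.finrank _ = _
  rw [FinPts.finrank_eq_card_sections q ?_ (IsLocalRing.closedPoint Ω)]
  · exact Nat.card_congr ((
      { toFun := fun s => ⟨pullback.lift s.1 (𝟙 _) (by rw [s.2, Category.id_comp]), pullback.lift_snd _ _ _⟩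
        invFun := fun t => ⟨t.1 ≫ pullback.fst _ _, by
          rw [Category.assoc, pullback.condition, ← Category.assoc, t.2, Category.id_comp]⟩
        left_inv := fun s => Subtype.ext (pullback.lift_fst _ _ _)
        right_inv := fun t => Subtype.ext (pullback.hom_ext (pullback.lift_fst _ _ _)
          ((pullback.lift_snd _ _ _).trans t.2.symm)) } :
        {s : Spec (CommRingCat.of Ω) ⟶ (bcK k Ω A).left // s ≫ ψ.left = η[bcK k Ω A].left} ≃
          {t : Spec (CommRingCat.of Ω) ⟶ pullback ψ.left η[bcK k Ω A].left // t ≫ q = 𝟙 _}).symm.trans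
      (fibreEquiv ψ η[bcK k Ω A]).symm)
  intro t ht
  -- a tangent vector of the kernel is fixed by Frobenius, hence constant
  let D := DualNumber Ω
  haveI : CharP D p := charP_of_injective_algebraMap (algebraMap Ω D).injective p
  haveI : ExpChar D p := ExpChar.prime Fact.out
  have hg : pullback.fst A.hom (specMap k Ω) ≫ A.hom =
      pullback.snd A.hom (specMap k Ω) ≫ specMap k Ω := pullback.condition
  let a : Over.mk (FinPts.dualStr Ω) ⟶ bcK k Ω A := Over.homMk (t ≫ pullback.fst ψ.left η[bcK k Ω A].left) (by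
    show (t ≫ pullback.fst ψ.left η[bcK k Ω A].left) ≫ (bcK k Ω A).hom = FinPts.dualStr Ω
    rw [Category.assoc, hfst, ht])
  have ha1 : a ≫ ψ = 1 := Over.OverMorphism.ext (by
    rw [Hom.one_def, Over.comp_left, Over.comp_left, Over.toUnit_left]
    show (t ≫ pullback.fst ψ.left η[bcK k Ω A].left) ≫ ψ.left = FinPts.dualStr Ω ≫ η[bcK k Ω A].left
    rw [Category.assoc, pullback.condition, ← Category.assoc, ht])
  rw [hψ, toHom_endBC_pow_sub_one, comp_div_id_eq_one_iff] at ha1
  set g := pullback.fst A.hom (specMap k Ω)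
  let b : Spec (CommRingCat.of D) ⟶ A.left := a.left ≫ g
  have hfb : WeilLib.frobPow p (Spec (CommRingCat.of D)) (e * n) ≫ b = b := by
    rw [WeilLib.frobPow_comp p b, ← toHom_pow_left p e φ hφ n]
    show (a.left ≫ g) ≫ (EndAV.End.toHom (φ ^ n)).left = a.left ≫ g
    conv_rhs => rw [← ha1, Over.comp_left, Category.assoc]
    rw [Category.assoc]
    exact congrArg (a.left ≫ ·) (pullback.lift_fst _ _ _).symm
  rw [WeilLib.frobPow_Spec p D, iterateFrobenius_dualNumber p (Nat.mul_pos he hn), CommRingCat.ofHom_comp,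
    CommRingCat.ofHom_comp, Spec.map_comp, Spec.map_comp] at hfb
  have hz : FinPts.dualPt Ω ≫ FinPts.dualStr Ω = 𝟙 _ := by
    rw [← Spec.map_comp, ← Spec.map_id]
    refine congrArg Spec.map (CommRingCat.hom_ext (RingHom.ext fun c => ?_))
    rfl
  simp only [Category.assoc] at hfb
  have hb : b = FinPts.dualStr Ω ≫ FinPts.dualPt Ω ≫ b := by
    have h1 := congrArg (FinPts.dualPt Ω ≫ ·) hfb
    simp only [reassoc_of% hz] at h1
    rw [← h1]
    exact hfb.symm
  haveI : IsClosedImmersion (pullback.fst ψ.left η[bcK k Ω A].left) :=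
    MorphismProperty.pullback_fst _ _ ‹IsClosedImmersion η[bcK k Ω A].left›
  refine (cancel_mono (pullback.fst ψ.left η[bcK k Ω A].left)).1 (pullback.hom_ext ?_ ?_)
  · simpa [b, a, g] using hb
  · have hsnd : (t ≫ pullback.fst ψ.left η[bcK k Ω A].left) ≫ pullback.snd A.hom (specMap k Ω) = FinPts.dualStr Ω :=
      Over.w a
    simp only [Category.assoc] at hsnd ⊢
    rw [hsnd, hz, Category.comp_id]

end


section Frob

variable {k : Type u} [Field k] [Finite k]

/-- The `q`-Frobenius of a scheme over the field with `q = p^e` elements. -/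
def frobOver (p e : ℕ) [Fact p.Prime] [CharP k p] (hq : Nat.card k = p ^ e) (A : Over (Spec (CommRingCat.of k))) : A ⟶ A :=
  haveI : FrobSch.IsCharP A.left p := FrobSch.IsCharP.of_hom A.hom p
  Over.homMk (WeilLib.frobPow p A.left e) (by
    haveI : ExpChar k p := ExpChar.prime Fact.out
    haveI := Fintype.ofFinite k
    rw [WeilLib.frobPow_comp p A.hom, WeilLib.frobPow_Spec p k,
      show CommRingCat.ofHom (iterateFrobenius k p e) = 𝟙 _ from ?_, Spec.map_id, Category.comp_id]
    ext r
    show iterateFrobenius k p e r = r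
    rw [iterateFrobenius_def, ← hq, Nat.card_eq_fintype_card, FiniteField.pow_card])

variable {p e : ℕ} [Fact p.Prime] [CharP k p] (hq : Nat.card k = p ^ e) {A B : Over (Spec (CommRingCat.of k))}

theorem frobOver_comp (f : A ⟶ B) : frobOver p e hq A ≫ f = f ≫ frobOver p e hq B := by
  haveI : FrobSch.IsCharP A.left p := FrobSch.IsCharP.of_hom A.hom p
  haveI : FrobSch.IsCharP B.left p := FrobSch.IsCharP.of_hom B.hom p
  exact Over.OverMorphism.ext (WeilLib.frobPow_comp p f.left e)

theorem isMonHom_frobOver [GrpObj A] : IsMonHom (frobOver p e hq A) := by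
  have h1 : frobOver p e hq (𝟙_ (Over (Spec (CommRingCat.of k)))) = 𝟙 _ := toUnit_unique _ _
  refine ⟨?_, ?_⟩
  · rw [← frobOver_comp hq, h1, Category.id_comp]
  · have h2 : frobOver p e hq A ⊗ₘ frobOver p e hq A = frobOver p e hq (A ⊗ A) := by
      apply CartesianMonoidalCategory.hom_ext
      · rw [tensorHom_fst, frobOver_comp hq]
      · rw [tensorHom_snd, frobOver_comp hq]
    rw [h2, frobOver_comp hq]

theorem frobOver_base (A : Over (Spec (CommRingCat.of k))) : (frobOver p e hq A).left.base = 𝟙 _ := by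
  haveI : FrobSch.IsCharP A.left p := FrobSch.IsCharP.of_hom A.hom p
  exact TopCat.ext fun x => WeilLib.frobPow_apply p e x

theorem le_frobOver (A : Over (Spec (CommRingCat.of k))) (U : A.left.Opens) :
    U ≤ (frobOver p e hq A).left ⁻¹ᵁ U := by
  haveI : FrobSch.IsCharP A.left p := FrobSch.IsCharP.of_hom A.hom p
  exact (WeilLib.frobPow_preimage p e U).ge

theorem frobOver_app (A : Over (Spec (CommRingCat.of k))) (U : A.left.Opens) (s : Γ(A.left, U)) :
    ((frobOver p e hq A).left.appLE U U (le_frobOver hq A U)).hom s = s ^ Nat.card k := by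
  haveI : FrobSch.IsCharP A.left p := FrobSch.IsCharP.of_hom A.hom p
  rw [hq]
  refine (WeilLib.frobPow_app p e U U _ le_rfl s).trans ?_
  rw [show (homOfLE (le_refl U)).op = 𝟙 _ from rfl, CategoryTheory.Functor.map_id]
  rfl

end Frob

section Count

variable {k : Type u} [Field k] [Finite k] (Ω : Type u) [Field Ω] [Algebra k Ω] [IsAlgClosed Ω]
variable {A : Over (Spec (CommRingCat.of k))} [GrpObj A] [IsProper A.hom] [GeometricallyIntegral A.hom] [IsCommMonObj A]

/-- The number of points over the extension of degree `n` is `∏ (ω^n - 1)`. -/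
theorem card_points_eq_prod (πA : A ⟶ A) [IsMonHom πA] (hb : πA.left.base = 𝟙 _)
    (hle : ∀ U : A.left.Opens, U ≤ πA.left ⁻¹ᵁ U)
    (happ : ∀ (U : A.left.Opens) (s : Γ(A.left, U)), (πA.left.appLE U U (hle U)).hom s = s ^ Nat.card k)
    {r : ℕ} (hA : topologicalKrullDim A.left = (r : WithBot ℕ∞))
    {P : Polynomial ℤ} (hP : P.Monic) (hPd : P.natDegree = 2 * r)
    (hPv : ∀ n : ℤ, P.eval n =
      deg (EndAV.End.toHom (endBC Ω (EndAV.End.of πA) - (n : EndAV.End (bcK k Ω A))))) :
    (∀ m : ℕ, 0 < m → (Zeta.nPts A.hom m : ℂ) =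
      (((P.map (Int.castRingHom ℂ)).roots.map fun ω => ω ^ m - 1)).prod) ∧
    ∀ (k' : Type u) [Field k'] [Algebra k k'] [Finite k'],
      (Nat.card (Over.mk (Spec.map (CommRingCat.ofHom (algebraMap k k'))) ⟶ A) : ℂ) =
        (((P.map (Int.castRingHom ℂ)).roots.map fun ω => ω ^ Module.finrank k k' - 1)).prod := by
  obtain ⟨p, hp⟩ := CharP.exists k
  haveI := Fintype.ofFinite k
  obtain ⟨e, hpr, hcard⟩ := FiniteField.card k p
  haveI := Fact.mk hpr
  haveI : CharP Ω p := charP_of_injective_algebraMap (algebraMap k Ω).injective p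
  haveI : ExpChar Ω p := ExpChar.prime hpr
  haveI : FrobSch.IsCharP A.left p := FrobSch.IsCharP.of_hom A.hom p
  have hq : Nat.card k = p ^ (e : ℕ) := by rw [Nat.card_eq_fintype_card]; exact hcard
  have hφ : (EndAV.End.toHom (EndAV.End.of πA)).left = WeilLib.frobPow p A.left e :=
    WeilLib.eq_frobPow p e πA.left hb hle fun U s => by rw [happ U s, hq]
  set φ := endBC Ω (EndAV.End.of πA)
  have key : ∀ m : ℕ, 0 < m → Finite (WeilLib.FixedPts Ω A.hom p (e * m)) ∧
      (Nat.card (WeilLib.FixedPts Ω A.hom p (e * m)) : ℂ) =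
        (((P.map (Int.castRingHom ℂ)).roots.map fun ω => ω ^ m - 1)).prod := by
    intro m hm
    have h := deg_aeval ((topologicalKrullDim_bcK Ω).trans hA) φ hP hPd hPv ℂ (Polynomial.X ^ m - 1)
    simp only [map_sub, map_pow, Polynomial.aeval_X, map_one] at h
    have hne : deg (EndAV.End.toHom (φ ^ m - 1)) ≠ 0 := by
      intro h0
      rw [h0, Nat.cast_zero] at h
      obtain ⟨ω, hω, hω0⟩ := Multiset.mem_map.1 (Multiset.prod_eq_zero_iff.1 h.symm)
      have hn := riemann_hypothesis Ω πA hb hle happ hA hP hPd hPv ω hω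
      have h1 : ‖ω‖ ^ m = 1 := by rw [← norm_pow, sub_eq_zero.1 hω0, norm_one]
      rw [hn] at h1
      exact (one_lt_pow₀ (Real.lt_sqrt_of_sq_lt (by rw [one_pow]; exact_mod_cast Finite.one_lt_card)) hm.ne').ne' h1
    obtain ⟨h1, h2⟩ := deg_eq_card_fixed Ω p e e.pos (EndAV.End.of πA) hφ hA m hm hne
    exact ⟨h1, by rw [← h2, h]⟩
  refine ⟨fun m hm => ?_, fun k' _ _ _ => ?_⟩
  · haveI := (key m hm).1
    rw [← WeilLib.card_fixedPts_eq_nPts Ω A.hom p e hq m hm, (key m hm).2]
  · haveI : Module.Finite k k' := Module.Finite.of_finite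
    haveI := (key _ (Module.finrank_pos (R := k) (M := k'))).1
    rw [← (key _ (Module.finrank_pos (R := k) (M := k'))).2, ← WeilLib.card_points_eq_fixedPts Ω A.hom p e hq k']
    refine congrArg Nat.cast (Nat.card_congr
      { toFun := fun x => ⟨x.left, Over.w x⟩
        invFun := fun g => Over.homMk g.1 g.2
        left_inv := fun x => rfl
        right_inv := fun g => rfl })

end Count

end Groth.Agent.AVDeg
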