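import Groth.Agent.AVDeg.Fibrewise
import Groth.Agent.FEtRank.Count
import Groth.Agent.SpQS.UnivBddScheme
import Groth.Agent.GrpField.SurjSmooth
import Mathlib.AlgebraicGeometry.AlgClosed.Basic

/-!
Points of fibres of homomorphisms over an algebraically closed field.
-/

set_option autoImplicit false
set_option backward.isDefEq.respectTransparency false
set_option linter.style.haveILetI false
set_option linter.unusedSectionVars false

universe u

open CategoryTheory CategoryTheory.Limits MonoidalCategory CartesianMonoidalCategory MonObj AlgebraicGeometry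
open TopologicalSpace

noncomputable section

namespace Groth.Agent.AVDeg

variable {k : Type u} [Field k] [IsAlgClosed k] {A B : Over (Spec (CommRingCat.of k))}

/-- The unit object. -/
abbrev one' (k : Type u) [Field k] : Over (Spec (CommRingCat.of k)) := 𝟙_ (Over (Spec (CommRingCat.of k)))

theorem point_comp_hom (a : one' k ⟶ A) : a.left ≫ A.hom = 𝟙 _ := Over.w a

theorem point_ext [LocallyOfFiniteType A.hom] {a b : one' k ⟶ A}
    (h : a.left (IsLocalRing.closedPoint k) = b.left (IsLocalRing.closedPoint k)) : a = b := by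
  refine Over.OverMorphism.ext ?_
  exact congrArg Subtype.val ((pointEquivClosedPoint A.hom).injective (a₁ := ⟨a.left, point_comp_hom a⟩)
    (a₂ := ⟨b.left, point_comp_hom b⟩) (Subtype.ext h))

/-- A surjective map is surjective on points. -/
theorem exists_point_comp [LocallyOfFiniteType A.hom] [LocallyOfFiniteType B.hom] (φ : A ⟶ B) [Surjective φ.left]
    (b : one' k ⟶ B) : ∃ a : one' k ⟶ A, a ≫ φ = b := by
  haveI : JacobsonSpace A.left := LocallyOfFiniteType.jacobsonSpace A.hom
  obtain ⟨x, hx⟩ := φ.left.surjective (b.left (IsLocalRing.closedPoint k))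
  have hbc : IsClosed ({b.left (IsLocalRing.closedPoint k)} : Set B.left) :=
    (pointEquivClosedPoint B.hom ⟨b.left, point_comp_hom b⟩).2
  obtain ⟨y, hy, hyc⟩ := nonempty_inter_closedPoints (Z := φ.left ⁻¹' {b.left (IsLocalRing.closedPoint k)})
    ⟨x, hx⟩ (hbc.preimage φ.left.continuous).isLocallyClosed
  let p := (pointEquivClosedPoint A.hom).symm ⟨y, hyc⟩
  refine ⟨Over.homMk p.1 p.2, point_ext ?_⟩
  rw [Over.comp_left, Scheme.Hom.comp_apply]
  show φ.left (p.1 _) = _
  have hp := congrArg Subtype.val ((pointEquivClosedPoint A.hom).apply_symm_apply ⟨y, hyc⟩)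
  rw [show p.1 (IsLocalRing.closedPoint k) = y from hp]
  exact hy

/-- Points of a fibre as sections. -/
def fibreEquiv (φ : A ⟶ B) (b : one' k ⟶ B) :
    {a : one' k ⟶ A // a ≫ φ = b} ≃ {s : Spec (CommRingCat.of k) ⟶ A.left // s ≫ φ.left = b.left} where
  toFun a := ⟨a.1.left, congrArg Over.Hom.left a.2⟩
  invFun s := ⟨Over.homMk s.1 (by
      show s.1 ≫ A.hom = 𝟙 _
      rw [← Over.w φ, ← Category.assoc, s.2]
      exact point_comp_hom b), Over.OverMorphism.ext s.2⟩
  left_inv _ := rfl
  right_inv _ := rfl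

/-- Finite etale maps have degree many points in each fibre. -/
theorem natCard_fibre_etale (φ : A ⟶ B) [IsFinite φ.left] [Etale φ.left] (b : one' k ⟶ B) :
    Nat.card {a : one' k ⟶ A // a ≫ φ = b} = φ.left.finrank (b.left (IsLocalRing.closedPoint k)) := by
  let Y : FEt.Cat B.left := MorphismProperty.Over.mk ⊤ φ.left ⟨‹_›, ‹_›⟩
  exact (Nat.card_congr (fibreEquiv φ b)).trans (FEtRank.natCard_fiber (X := B.left) b.left Y)

/-- A finite reduced scheme over an algebraically closed field is etale; here: one with degree many points. -/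
theorem etale_of_natCard_eq {P : Scheme.{u}} (q : P ⟶ Spec (CommRingCat.of k)) [IsFinite q]
    (h : Nat.card P = q.finrank (IsLocalRing.closedPoint k)) : Etale q := by
  haveI : IsAffine P := isAffine_of_isAffineHom q
  obtain ⟨φ, hφ⟩ := Spec.map_surjective (P.isoSpec.inv ≫ q)
  obtain ⟨hfin, he⟩ := SpQS.finrank_eq_of_field q φ hφ
  suffices hs : Etale (Spec.map φ) by
    rw [hφ] at hs
    exact (MorphismProperty.cancel_left_of_respectsIso @Etale P.isoSpec.inv q).1 hs
  algebraize [φ.hom]
  haveI : Module.Finite k Γ(P, ⊤) := hfin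
  haveI : IsArtinianRing Γ(P, ⊤) := isArtinian_of_tower k inferInstance
  haveI : Fintype (PrimeSpectrum Γ(P, ⊤)) := Fintype.ofFinite _
  let f : Γ(P, ⊤) →ₐ[k] ∀ I : PrimeSpectrum Γ(P, ⊤), Γ(P, ⊤) ⧸ I.asIdeal :=
    Pi.algHom k _ fun I => Ideal.Quotient.mkₐ k I.asIdeal
  haveI hmax : ∀ I : PrimeSpectrum Γ(P, ⊤), I.asIdeal.IsMaximal := fun I =>
    IsArtinianRing.isMaximal_of_isPrime I.asIdeal
  have hsurj : Function.Surjective f := by
    intro y
    obtain ⟨z, hz⟩ := Ideal.quotientInfToPiQuotient_surj (I := fun I : PrimeSpectrum Γ(P, ⊤) => I.asIdeal)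
      (fun I J hIJ => Ideal.isCoprime_iff_sup_eq.2
        ((hmax I).coprime_of_ne (hmax J) fun e => hIJ (PrimeSpectrum.ext e))) y
    obtain ⟨a, rfl⟩ := Ideal.Quotient.mk_surjective z
    exact ⟨a, funext fun I => congrFun hz I⟩
  have h1 : ∀ I : PrimeSpectrum Γ(P, ⊤), Function.Bijective (algebraMap k (Γ(P, ⊤) ⧸ I.asIdeal)) := fun I => by
    letI := Ideal.Quotient.field I.asIdeal
    exact IsAlgClosed.algebraMap_bijective_of_isIntegral
  let e₂ : (∀ I : PrimeSpectrum Γ(P, ⊤), Γ(P, ⊤) ⧸ I.asIdeal) ≃ₐ[k] (PrimeSpectrum Γ(P, ⊤) → k) :=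
    AlgEquiv.piCongrRight fun I => (AlgEquiv.ofBijective (Algebra.ofId k _) (h1 I)).symm
  let F := (e₂.toAlgHom.comp f)
  have hF : Function.Surjective F := e₂.surjective.comp hsurj
  have hdim : Module.finrank k Γ(P, ⊤) = Module.finrank k (PrimeSpectrum Γ(P, ⊤) → k) := by
    rw [Module.finrank_fintype_fun_eq_card, ← Nat.card_eq_fintype_card, ← he, ← h]
    exact Nat.card_congr P.isoSpec.hom.homeomorph.toEquiv
  have hinj : Function.Injective F :=
    (LinearMap.injective_iff_surjective_of_finrank_eq_finrank hdim (f := F.toLinearMap)).2 hF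
  haveI : Algebra.Etale k Γ(P, ⊤) := Algebra.Etale.of_equiv (AlgEquiv.ofBijective F ⟨hinj, hF⟩).symm
  exact (HasRingHomProperty.Spec_iff (P := @Etale)).2 (RingHom.etale_algebraMap.2 inferInstance)

/-- At most degree many points in a fibre. -/
theorem natCard_fibre_le [LocallyOfFiniteType A.hom] (φ : A ⟶ B) [IsFinite φ.left] [Flat φ.left] (b : one' k ⟶ B) :
    Finite {a : one' k ⟶ A // a ≫ φ = b} ∧
    Nat.card {a : one' k ⟶ A // a ≫ φ = b} ≤ φ.left.finrank (b.left (IsLocalRing.closedPoint k)) ∧
      (Nat.card {a : one' k ⟶ A // a ≫ φ = b} = φ.left.finrank (b.left (IsLocalRing.closedPoint k)) →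
        Etale (pullback.snd φ.left b.left)) := by
  let q := pullback.snd φ.left b.left
  haveI : DiscreteTopology ↥(pullback φ.left b.left) := SpQS.discrete_of_isFinite q
  obtain ⟨hfin, hle⟩ := SpQS.natCard_le_finrank q
  let e : {a : one' k ⟶ A // a ≫ φ = b} ≃ ↥(pullback φ.left b.left) :=
    (fibreEquiv φ b).trans
      (({ toFun := fun s => ⟨pullback.lift s.1 (𝟙 _) (by rw [s.2, Category.id_comp]), pullback.lift_snd _ _ _⟩
          invFun := fun p => ⟨p.1 ≫ pullback.fst _ _, by
            rw [Category.assoc, pullback.condition, ← Category.assoc, p.2, Category.id_comp]⟩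
          left_inv := fun s => Subtype.ext (pullback.lift_fst _ _ _)
          right_inv := fun p => Subtype.ext (pullback.hom_ext (pullback.lift_fst _ _ _)
            ((pullback.lift_snd _ _ _).trans p.2.symm)) } :
          {s : Spec (CommRingCat.of k) ⟶ A.left // s ≫ φ.left = b.left} ≃
            {p : Spec (CommRingCat.of k) ⟶ pullback φ.left b.left // p ≫ q = 𝟙 _}).trans
        ((pointEquivClosedPoint q).trans
          (Equiv.subtypeUnivEquiv fun z => mem_closedPoints_iff.2 (isClosed_discrete {z}))))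
  have hr : q.finrank (IsLocalRing.closedPoint k) = φ.left.finrank (b.left (IsLocalRing.closedPoint k)) :=
    Scheme.Hom.finrank_pullback_snd φ.left b.left _
  refine ⟨Finite.of_equiv _ e.symm, ?_, fun h => etale_of_natCard_eq q ?_⟩
  · rw [Nat.card_congr e, ← hr]; exact hle
  · rw [← Nat.card_congr e, hr, h]

/-- A homomorphism with degree many points in its kernel is etale. -/
theorem etale_of_natCard_kernel [GrpObj A] [GrpObj B] [LocallyOfFiniteType A.hom] [LocallyOfFiniteType B.hom]
    [IsReduced B.left] (φ : A ⟶ B) [IsMonHom φ] [IsFinite φ.left] [Flat φ.left] [Surjective φ.left]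
    (h : Nat.card {a : one' k ⟶ A // a ≫ φ = η[B]} = φ.left.finrank (η[B].left (IsLocalRing.closedPoint k))) :
    Etale φ.left := by
  have hK := (natCard_fibre_le φ η[B]).2.2 h
  apply MorphismProperty.of_pullback_snd_of_descendsAlong
    (Q := @Surjective ⊓ @Flat ⊓ @QuasiCompact) (f := φ.left) (g := φ.left)
  · exact ⟨⟨inferInstance, inferInstance⟩, inferInstance⟩
  · rw [GrpField.translate_iff φ @Etale φ (𝟙 A)⁻¹, GrpObj.inv_comp, Category.id_comp, mul_inv_cancel,
      show (1 : A ⟶ B) = toUnit A ≫ η from rfl, Over.comp_left]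
    exact GrpField.snd_of_comp φ @Etale _ _ hK

end Groth.Agent.AVDeg
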