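import Groth.Agent.AVDeg.FormOf
import Groth.Agent.TMul.AmpleBasis
import Groth.Agent.AVDeg.Char

/-!
Automorphisms of polarized abelian varieties.
-/

set_option autoImplicit false
set_option backward.isDefEq.respectTransparency false
set_option backward.isDefEq.respectTransparency.types false
set_option linter.style.haveILetI false
set_option linter.unusedSectionVars false

universe u

open CategoryTheory CategoryTheory.Limits MonoidalCategory CartesianMonoidalCategory MonObj AlgebraicGeometry
open TopologicalSpace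

noncomputable section

namespace Groth.Agent.AVDeg

attribute [local instance] W7Cube.law
attribute [local instance] overInst

variable {k : Type u} [Field k] [IsAlgClosed k] {A : Over (Spec (CommRingCat.of k))}
variable [GrpObj A] [IsProper A.hom] [GeometricallyIntegral A.hom] [IsCommMonObj A]

theorem cls_tensorMod {X : Scheme.{u}} {L M : X.Modules} (hL : PicF.IsInvertible L) (hM : PicF.IsInvertible M) :
    PicGrp.cls (CohB1.tensorMod L M) (TMul.isInvertible_tensorMod hL hM) =
      PicGrp.cls L hL * PicGrp.cls M hM :=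
  Subtype.ext (PicGrp.cls_mul_cls_val hL hM).symm

theorem cls_tensorPow {X : Scheme.{u}} {L : X.Modules} (hL : PicF.IsInvertible L) (n : ℕ) :
    PicGrp.cls (CohB1.tensorPow L n) (TMul.isInvertible_tensorPow hL n) = PicGrp.cls L hL ^ n :=
  Subtype.ext (PicGrp.cls_pow_val hL n).symm

theorem Null.mul {n : ℕ} (hd : topologicalKrullDim A.left ≤ (n : WithBot ℕ∞)) {a b : PicLoc.PicSet A.left}
    (ha : Null k n a) (hb : Null k n b) : Null k n (a * b) := fun c i => by
  rw [top_update_mul hd, ha c i, hb c i, add_zero]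

theorem top_mul_null {n : ℕ} (hd : topologicalKrullDim A.left ≤ (n : WithBot ℕ∞)) {ν : PicLoc.PicSet A.left}
    (hν : Null k n ν) (a : PicLoc.PicSet A.left) (c : Fin n → PicLoc.PicSet A.left) (i : Fin n) :
    top k (Function.update c i (a * ν)) = top k (Function.update c i a) := by
  rw [top_update_mul hd, hν c i, add_zero]

/-- Replacing every argument by a multiple by a null class. -/
theorem top_mul_null_all {n : ℕ} (hd : topologicalKrullDim A.left ≤ (n : WithBot ℕ∞)) {ν : PicLoc.PicSet A.left}
    (hν : Null k n ν) (a : PicLoc.PicSet A.left) :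
    top k (fun _ : Fin n => a * ν) = top k (fun _ : Fin n => a) := by
  classical
  have key : ∀ s : Finset (Fin n), top k (fun j => if j ∈ s then a * ν else a) = top k (fun _ : Fin n => a) := by
    intro s
    induction s using Finset.induction_on with
    | empty => simp
    | insert i s hi ih =>
      have e1 : (fun j => if j ∈ insert i s then a * ν else a) =
          Function.update (fun j => if j ∈ s then a * ν else a) i (a * ν) := funext fun j => by
        by_cases h : j = i
        · subst h; simp
        · simp [h]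
      have e2 : Function.update (fun j => if j ∈ s then a * ν else a) i a = fun j => if j ∈ s then a * ν else a := by
        rw [Function.update_eq_self_iff]
        simp [hi]
      rw [e1, top_mul_null hd hν, e2, ih]
  simpa using key Finset.univ

theorem deg_eq_one_of_isIso {g : ℕ} (hA : topologicalKrullDim A.left = (g : WithBot ℕ∞)) (α : A ⟶ A) [IsMonHom α]
    [IsIso α] : deg α = 1 := by
  haveI : IsMonHom (inv α) :=
    { one_hom := by rw [IsIso.comp_inv_eq, IsMonHom.one_hom]
      mul_hom := by rw [← cancel_mono α, Category.assoc, IsIso.inv_hom_id, Category.comp_id, Category.assoc,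
          IsMonHom.mul_hom α, ← Category.assoc, MonoidalCategory.tensorHom_comp_tensorHom, IsIso.inv_hom_id,
          MonoidalCategory.id_tensorHom_id, Category.id_comp] }
  have h := deg_comp hA α (inv α)
  rw [IsIso.hom_inv_id, deg_id hA] at h
  exact Nat.eq_one_of_mul_eq_one_right h.symm

/-- Automorphisms preserving a polarization up to algebraic equivalence form a finite set. -/
theorem finite_polarized_aut (L : A.left.Modules) (hLi : PicF.IsInvertible L) (hL : CohB1.IsAmple L) :
    Set.Finite {α : A ⟶ A | IsMonHom α ∧ IsIso α ∧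
      ∃ (m m' : ℕ) (N : A.left.Modules), 0 < m ∧ 0 < m' ∧ PicF.IsInvertible N ∧ Pic13.IsAlgEquivZero k A.left N ∧
        Nonempty (CohB1.tensorMod (CohB1.tensorPow ((Scheme.Modules.pullback α.left).obj L) m') N ≅
          CohB1.tensorPow L m)} := by
  classical
  haveI := isIntegral_av A
  haveI : Nonempty A.left := ⟨η[A].left (IsLocalRing.closedPoint k)⟩
  obtain ⟨g, hA⟩ := exists_dim A
  obtain ⟨hfin, hfree⟩ := hom_finite_free (A := A) (B := A)
  haveI := hfin
  haveI := hfree
  rcases g with _ | r
  · refine (Set.finite_singleton (1 : A ⟶ A)).subset fun α hα => ?_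
    haveI := hα.1
    have h0 : Module.finrank ℤ (EndAV.Hom A A) = 0 := Nat.le_zero.1 ((finrank_hom_le hA hA).trans_eq (by simp))
    haveI : Subsingleton (EndAV.Hom A A) := Module.finrank_zero_iff.1 h0
    exact congrArg EndAV.Hom.toHom (Subsingleton.elim (EndAV.Hom.of α) 0)
  let inv' : A ⟶ A := (𝟙 A)⁻¹
  haveI : IsMonHom inv' := by
    have := isMonHom_zpow (𝟙 A) (-1)
    rwa [zpow_neg_one] at this
  have hii : inv' ≫ inv' = 𝟙 A := by rw [GrpObj.comp_inv, Category.comp_id, _root_.inv_inv]
  haveI : IsIso inv' := ⟨inv', hii, hii⟩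
  haveI : IsIso inv'.left := inferInstanceAs (IsIso ((Over.forget _).map inv'))
  have hL' : CohB1.IsAmple ((Scheme.Modules.pullback inv'.left).obj L) :=
    TMul.isAmple_pullback_of_isAffineHom _ hL
  let H := CohB1.tensorMod L ((Scheme.Modules.pullback inv'.left).obj L)
  have hH : CohB1.IsAmple H := TMul.isAmple_tensorMod hL hL'.1 fun x => by
    obtain ⟨n, s, hs, -⟩ := hL'.2.2 x
    exact ⟨n, s, hs⟩
  let l := PicGrp.cls L hLi
  let h := PicGrp.cls H hH.1
  have hh : h = l * W7Cube.pc l inv' := by
    show PicGrp.cls (CohB1.tensorMod L _) _ = _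
    rw [W7Cube.pc, W7Cube.pull_cls]
    exact cls_tensorMod hLi hL'.1
  have hpc2 : ∀ c : PicLoc.PicSet A.left, W7Cube.pc (W7Cube.pc c inv') inv' = c := fun c => by
    show W7Cube.pull inv'.left (W7Cube.pc c inv') = c
    rw [W7Cube.pull_pc, hii, W7Cube.pc_id]
  have hsym : W7Cube.pc h inv' = h := by
    rw [hh]
    show W7Cube.pull inv'.left (l * W7Cube.pc l inv') = _
    rw [map_mul]
    show W7Cube.pc l inv' * W7Cube.pc (W7Cube.pc l inv') inv' = _
    rw [hpc2, _root_.mul_comm]
  obtain ⟨β, hβs, hβp, hβ⟩ := exists_posDef_form_of hA H hH H hH hsym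
  set C : ℚ := 2 * top k (Function.update (fun _ : Fin (r + 1) => h) 0 h) with hC
  have hval : ∀ α : A ⟶ A, ∀ [IsMonHom α], IsIso α → ∀ (m m' : ℕ) (N : A.left.Modules), 0 < m → 0 < m' →
      PicF.IsInvertible N → Pic13.IsAlgEquivZero k A.left N →
      Nonempty (CohB1.tensorMod (CohB1.tensorPow ((Scheme.Modules.pullback α.left).obj L) m') N ≅
        CohB1.tensorPow L m) →
      2 * top k (Function.update (fun _ : Fin (r + 1) => h) 0 (W7Cube.pc h α)) = C := by
    intro α _ hiso m m' N hm hm' hN halg ⟨e⟩
    haveI := hiso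
    have hinvL := PicLoc.isInvertible_pullback α.left hLi
    have hrel : W7Cube.pc l α ^ m' * PicGrp.cls N hN = l ^ m := by
      rw [W7Cube.pc, W7Cube.pull_cls, ← cls_tensorPow hinvL, ← cls_tensorMod (TMul.isInvertible_tensorPow hinvL m') hN,
        ← cls_tensorPow hLi]
      exact (PicGrp.cls_eq_cls_iff _ _).2 ⟨e⟩
    have hν : Null k (r + 1) (PicGrp.cls N hN) := null_of_algEquivZero hN halg
    have hν' : Null k (r + 1) (W7Cube.pc (PicGrp.cls N hN) inv') := fun c i => by
      have h1 := top_pc hA inv' (Function.update (fun j => W7Cube.pc (c j) inv') i (PicGrp.cls N hN))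
      rw [hν, mul_zero] at h1
      rw [← h1]
      congr 1
      funext j
      by_cases hj : j = i
      · subst hj; simp
      · simp [Function.update_of_ne hj, hpc2]
    have hcomm : α ≫ inv' = inv' ≫ α := by
      rw [GrpObj.comp_inv, Category.comp_id, GrpObj.inv_comp, Category.id_comp]
    have hν'' := hν.mul hA.le hν'
    have hrel' : W7Cube.pc h α ^ m' * (PicGrp.cls N hN * W7Cube.pc (PicGrp.cls N hN) inv') = h ^ m := by
      have h2 := congrArg (W7Cube.pull inv'.left) hrel
      rw [map_mul, map_pow, map_pow, W7Cube.pull_pc] at h2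
      have h3 : W7Cube.pc h α = W7Cube.pc l α * W7Cube.pc l (inv' ≫ α) := by
        rw [hh]
        show W7Cube.pull α.left (l * W7Cube.pc l inv') = _
        rw [map_mul, W7Cube.pull_pc, hcomm]
        rfl
      rw [h3, hh, _root_.mul_pow, _root_.mul_pow, _root_.mul_mul_mul_comm, hrel]
      exact congrArg (_ * ·) h2
    have hdeg : deg α = 1 := deg_eq_one_of_isIso hA α
    have hlin : ∀ (a : PicLoc.PicSet A.left) (j : ℕ), top k (fun _ : Fin (r + 1) => a ^ j) =
        (j : ℚ) ^ (r + 1) * top k (fun _ : Fin (r + 1) => a) := fun a j => by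
      have := (topLin k hA.le).map_smul_univ (fun _ => (j : ℤ)) (fun _ => Additive.ofMul a)
      simpa [topLin_apply, zsmul_eq_mul, toMul_zsmul, zpow_natCast] using this
    have hmm : m' = m := by
      have h1 := hlin h m
      rw [← hrel', top_mul_null_all hA.le hν'', hlin, top_pc hA α, hdeg, Nat.cast_one, _root_.one_mul] at h1
      have hpos := top_pos (k := k) hA hH
      have h2 := mul_right_cancel₀ hpos.ne' h1
      exact_mod_cast (pow_left_inj₀ (by positivity) (by positivity) (Nat.succ_ne_zero r)).1 h2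
    subst hmm
    let U := updateHom (k := k) hA.le (fun _ : Fin (r + 1) => h) 0
    have h4 := congrArg (fun x => U (Additive.ofMul x)) hrel'
    simp only [ofMul_mul, ofMul_pow, map_add, map_nsmul] at h4
    rw [← map_add U, ← ofMul_mul, show U (Additive.ofMul (PicGrp.cls N hN * W7Cube.pc (PicGrp.cls N hN) inv')) = 0 from
      hν'' _ _, add_zero, nsmul_eq_mul, nsmul_eq_mul] at h4
    rw [hC]
    congr 1
    exact mul_left_cancel₀ (Nat.cast_ne_zero.2 hm'.ne') h4
  have hmem : ∀ α : A ⟶ A, IsMonHom α → IsIso α → (∃ (m m' : ℕ) (N : A.left.Modules), 0 < m ∧ 0 < m' ∧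
      PicF.IsInvertible N ∧ Pic13.IsAlgEquivZero k A.left N ∧
        Nonempty (CohB1.tensorMod (CohB1.tensorPow ((Scheme.Modules.pullback α.left).obj L) m') N ≅
          CohB1.tensorPow L m)) →
      ∃ f : EndAV.Hom A A, f.toHom = α ∧ ((β f f : ℤ) : ℚ) = C := fun α h1 h2 ⟨m, m', N, hm, hm', hN, halg, he⟩ =>
    ⟨@EndAV.Hom.of _ _ _ _ A A _ _ _ _ α h1, rfl, (hβ _).trans (hval α h2 m m' N hm hm' hN halg he)⟩
  by_cases hex : ∃ z : ℤ, (z : ℚ) = C
  · obtain ⟨z, hz⟩ := hex
    refine ((finite_setOf_form_eq β hβs hβp z).image EndAV.Hom.toHom).subset fun α ⟨h1, h2, h3⟩ => ?_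
    obtain ⟨f, hf, hfv⟩ := hmem α h1 h2 h3
    exact ⟨f, Int.cast_injective (α := ℚ) (hfv.trans hz.symm), hf⟩
  · refine Set.finite_empty.subset fun α ⟨h1, h2, h3⟩ => ?_
    obtain ⟨f, -, hfv⟩ := hmem α h1 h2 h3
    exact absurd ⟨_, hfv⟩ hex

end Groth.Agent.AVDeg
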