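import Groth.Agent.AVDeg.Char
import Groth.Agent.EulerMult.Isogeny
import Groth.Agent.Intersect.Apps
import Mathlib.RingTheory.Polynomial.Pochhammer

/-!
`χ(L) = (M^g) / (2^g g!)` for `M = L ⊗ (-1)^* L` on an abelian variety.
-/

set_option autoImplicit false
set_option backward.isDefEq.respectTransparency false
set_option backward.isDefEq.respectTransparency.types false
set_option linter.style.haveILetI false
set_option linter.unusedSectionVars false

universe u

open CategoryTheory CategoryTheory.Limits MonoidalCategory CartesianMonoidalCategory MonObj AlgebraicGeometry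
open TopologicalSpace
open Groth.Agent.Intersect

noncomputable section

namespace Groth.Agent.AVDeg

attribute [local instance] W7Cube.law
attribute [local instance] overInst

/-- The top coefficient of a substitution in a polynomial of bounded total degree. -/
theorem coeff_aeval_top {P : MvPolynomial (Fin 2) ℚ} {g e : ℕ} (hP : ∀ m ∈ P.support, m 0 + m 1 ≤ g)
    {u v : Polynomial ℚ} {t : ℚ} (hu : u.natDegree ≤ e) (hv : v.natDegree ≤ e) (hut : u.coeff e = t)
    (hvt : v.coeff e = t) (he : 1 ≤ e) :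
    (MvPolynomial.aeval ![u, v] P).natDegree ≤ g * e ∧
      (MvPolynomial.aeval ![u, v] P).coeff (g * e) = t ^ g * ∑ m ∈ P.support with m 0 + m 1 = g, P.coeff m := by
  classical
  have hexp : MvPolynomial.aeval ![u, v] P = ∑ m ∈ P.support, Polynomial.C (P.coeff m) * (u ^ m 0 * v ^ m 1) := by
    conv_lhs => rw [P.as_sum]
    rw [map_sum]
    refine Finset.sum_congr rfl fun d _ => ?_
    rw [MvPolynomial.aeval_monomial, Finsupp.prod_fintype _ _ (fun _ => pow_zero _), Fin.prod_univ_two,
      Polynomial.algebraMap_eq]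
    simp
  have hb : ∀ m : Fin 2 →₀ ℕ, (u ^ m 0 * v ^ m 1).natDegree ≤ (m 0 + m 1) * e := fun m => by
    refine Polynomial.natDegree_mul_le.trans ?_
    rw [add_mul]
    exact add_le_add (Polynomial.natDegree_pow_le.trans (Nat.mul_le_mul_left _ hu))
      (Polynomial.natDegree_pow_le.trans (Nat.mul_le_mul_left _ hv))
  refine ⟨hexp ▸ Polynomial.natDegree_sum_le_of_forall_le _ _ fun m hm => (Polynomial.natDegree_C_mul_le _ _).trans
    ((hb m).trans (Nat.mul_le_mul_right _ (hP m hm))), ?_⟩
  rw [hexp, Polynomial.finset_sum_coeff, Finset.mul_sum, Finset.sum_filter]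
  refine Finset.sum_congr rfl fun m hm => ?_
  rw [Polynomial.coeff_C_mul]
  by_cases h : m 0 + m 1 = g
  · rw [if_pos h, ← h, add_mul, Polynomial.coeff_mul_add_eq_of_natDegree_le
      (Polynomial.natDegree_pow_le.trans (Nat.mul_le_mul_left _ hu))
      (Polynomial.natDegree_pow_le.trans (Nat.mul_le_mul_left _ hv)),
      Polynomial.coeff_pow_of_natDegree_le hu, Polynomial.coeff_pow_of_natDegree_le hv, hut, hvt, ← pow_add, mul_comm]
  · rw [if_neg h, Polynomial.coeff_eq_zero_of_natDegree_lt, mul_zero]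
    refine lt_of_le_of_lt (hb m) (Nat.mul_lt_mul_of_pos_right ?_ he)
    exact lt_of_le_of_ne (hP m hm) h

/-- The class of a product of powers. -/
theorem nonempty_rep_pows {X : Scheme.{u}} (c d : PicLoc.PicSet X) (a b : ℕ) :
    Nonempty (rep (c ^ a * d ^ b) ≅ Intersect.N ![rep c, rep d] ![a, b]) := by
  obtain ⟨e⟩ := nonempty_rep_mul (c ^ a) (d ^ b)
  have hp : ∀ (c : PicLoc.PicSet X) (n : ℕ), Nonempty (rep (c ^ n) ≅ CohB1.tensorPow (rep c) n) := fun c n => by
    refine (PicGrp.cl_eq_cl_iff _ _).1 ?_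
    rw [← PicGrp.cls_pow_val (isInvertible_rep c) n, cls_rep]
    exact congrArg Subtype.val (cls_rep (c ^ n))
  obtain ⟨e₁⟩ := hp c a
  obtain ⟨e₂⟩ := hp d b
  exact ⟨e ≪≫ PicGrp.tensorModIso (e₁ ≪≫ (TMul.leftUnitIso _).symm) e₂⟩

variable {k : Type u} [Field k]

/-- The diagonal growth of Euler characteristics. -/
theorem exists_diag_poly {X : Scheme.{u}} [X.Over (Spec (CommRingCat.of k))]
    [IsProper (X ↘ Spec (CommRingCat.of k))] {g : ℕ} (hd : topologicalKrullDim X ≤ (g : WithBot ℕ∞))
    (c : PicLoc.PicSet X) :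
    ∃ p : Polynomial ℚ, p.coeff g * g.factorial = top k (fun _ : Fin g => c) ∧
      ∀ m : ℕ, p.eval (m : ℚ) = (Curv2.euler k X (rep (c ^ m)) : ℚ) := by
  haveI := CurveRR.isNoetherian_of_proper k X
  let M := rep c⁻¹
  let a : ℕ → ℚ := fun i => alt (χt k (Coh.structureModule X) fun _ : Fin i => M)
  let p : Polynomial ℚ := ∑ i ∈ Finset.range (g + 1), Polynomial.C (a i / i.factorial) * ascPochhammer ℚ i
  refine ⟨p, ?_, fun m => ?_⟩
  · have h1 : p.coeff g = a g / g.factorial := by
      simp only [p, Polynomial.finset_sum_coeff, Polynomial.coeff_C_mul]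
      rw [Finset.sum_range_succ, Finset.sum_eq_zero fun i hi => ?_]
      · rw [zero_add]
        have hmon := (monic_ascPochhammer ℚ g).coeff_natDegree
        rw [ascPochhammer_natDegree] at hmon
        rw [hmon, _root_.mul_one]
      · rw [Polynomial.coeff_eq_zero_of_natDegree_lt (by rw [ascPochhammer_natDegree]; exact Finset.mem_range.1 hi),
          mul_zero]
    rw [h1, div_mul_cancel₀ _ (Nat.cast_ne_zero.2 g.factorial_ne_zero)]
    have h2 : topLin k hd (fun _ : Fin g => (-1 : ℤ) • Additive.ofMul c) =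
        (-1 : ℚ) ^ g * topLin k hd (fun _ : Fin g => Additive.ofMul c) := by
      have := (topLin k hd).map_smul_univ (fun _ => (-1 : ℤ)) (fun _ => Additive.ofMul c)
      simpa [zsmul_eq_mul] using this
    simp only [neg_smul, one_smul, topLin_apply, toMul_neg, toMul_ofMul, top] at h2
    exact mul_left_cancel₀ (pow_ne_zero g (neg_ne_zero.2 one_ne_zero)) h2
  · obtain ⟨e₀⟩ : Nonempty (CohB1.tensorMod (rep c) M ≅ Coh.structureModule X) := by
      refine (PicGrp.cl_eq_cl_iff _ _).1 ?_
      have h := PicGrp.cls_mul_cls_val (isInvertible_rep c) (isInvertible_rep c⁻¹)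
      rw [cls_rep, cls_rep, mul_inv_cancel] at h
      exact h.symm
    have h := euler_pow_eq_binSum k (isInvertible_rep c) (isInvertible_rep c⁻¹) e₀ g m (Coh.structureModule X)
      RefStalk.isCoh_structureModule (lt_succ_of_le' ((dim_support_structure (X := X)).le.trans hd))
    obtain ⟨e⟩ : Nonempty (rep (c ^ m) ≅ CohB1.tensorMod (CohB1.tensorPow (rep c) m) (Coh.structureModule X)) := by
      refine (PicGrp.cl_eq_cl_iff _ _).1 ?_
      rw [(PicGrp.cl_eq_cl_iff (CohB1.tensorMod (CohB1.tensorPow (rep c) m) (Coh.structureModule X))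
          (CohB1.tensorPow (rep c) m)).2 ⟨TMul.commIso _ _ ≪≫ TMul.leftUnitIso _⟩,
        ← PicGrp.cls_pow_val (isInvertible_rep c) m, cls_rep]
      exact congrArg Subtype.val (cls_rep (c ^ m))
    rw [CurveRR.euler_eq_of_iso e, h, binSum, Polynomial.eval_finset_sum]
    refine Finset.sum_congr rfl fun i _ => ?_
    rw [Polynomial.eval_mul, Polynomial.eval_C, ← ascPochhammer_eval_cast, ascPochhammer_nat_eq_ascFactorial,
      Nat.ascFactorial_eq_factorial_mul_choose']
    push_cast
    field_simp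
    exact mul_comm _ _

variable {A : Over (Spec (CommRingCat.of k))} [GrpObj A] [IsProper A.hom] [GeometricallyIntegral A.hom]

/-- Riemann–Roch for the symmetrisation. -/
theorem euler_eq_top [IsCommMonObj A] {g : ℕ} (hA : topologicalKrullDim A.left = (g : WithBot ℕ∞))
    (l : PicLoc.PicSet A.left) :
    (Curv2.euler k A.left (rep l) : ℚ) * (2 ^ g * g.factorial) =
      top k (fun _ : Fin g => l * W7Cube.pc l (𝟙 A)⁻¹) := by
  haveI := CurveRR.isNoetherian_of_proper k A.left
  haveI := isIntegral_av A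
  let l' := W7Cube.pc l (𝟙 A)⁻¹
  obtain ⟨P, hP, hPv⟩ := exists_mvPolynomial (χt_mem k (L := ![rep l, rep l'])
    (fun i => by fin_cases i <;> exact isInvertible_rep _) (g + 1) (Coh.structureModule A.left)
    RefStalk.isCoh_structureModule (lt_succ_of_le' ((dim_support_structure (X := A.left)).le.trans hA.le)))
  have hPd : ∀ m ∈ P.support, m 0 + m 1 ≤ g := fun m hm => by
    have := hP m hm
    rw [Finsupp.sum_fintype _ _ (fun _ => rfl), Fin.sum_univ_two] at this
    omega
  have hval : ∀ a b : ℕ, MvPolynomial.eval ![(a : ℚ), (b : ℚ)] P = (Curv2.euler k A.left (rep (l ^ a * l' ^ b)) : ℚ) := by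
    intro a b
    obtain ⟨e⟩ := nonempty_rep_pows l l' a b
    rw [show ![(a : ℚ), (b : ℚ)] = (fun i => ((![a, b] i : ℕ) : ℚ)) by funext i; fin_cases i <;> simp, ← hPv, χt,
      CurveRR.euler_eq_of_iso (TMul.leftUnitIso _ ≪≫ e.symm)]
  have hev : ∀ (u v : Polynomial ℚ) (x : ℚ), (MvPolynomial.aeval ![u, v] P).eval x =
      MvPolynomial.eval ![u.eval x, v.eval x] P := fun u v x => by
    rw [← Polynomial.coe_aeval_eq_eval, ← AlgHom.comp_apply, MvPolynomial.comp_aeval]
    exact congrArg (fun w => MvPolynomial.eval w P) (funext fun i => by fin_cases i <;> simp)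
  obtain ⟨hd1, hc1⟩ := coeff_aeval_top (e := 1) hPd (u := Polynomial.X) (v := Polynomial.X) (t := 1)
    Polynomial.natDegree_X_le Polynomial.natDegree_X_le Polynomial.coeff_X_one Polynomial.coeff_X_one le_rfl
  obtain ⟨p, hp, hpv⟩ := exists_diag_poly (k := k) hA.le (l * l')
  have hpd : MvPolynomial.aeval ![(Polynomial.X : Polynomial ℚ), Polynomial.X] P = p := by
    refine Polynomial.eq_of_infinite_eval_eq _ _ (Set.infinite_of_injective_forall_mem
      (f := fun m : ℕ => (m : ℚ)) Nat.cast_injective fun m => ?_)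
    show Polynomial.eval (m : ℚ) (MvPolynomial.aeval ![(Polynomial.X : Polynomial ℚ), Polynomial.X] P) = p.eval (m : ℚ)
    rw [hev, Polynomial.eval_X, hpv, hval, mul_pow]
  let u : Polynomial ℚ := Polynomial.C (1 / 2 : ℚ) * (Polynomial.X ^ 2 + Polynomial.X)
  let v : Polynomial ℚ := Polynomial.C (1 / 2 : ℚ) * (Polynomial.X ^ 2 - Polynomial.X)
  obtain ⟨hd2, hc2⟩ := coeff_aeval_top (e := 2) hPd (u := u) (v := v) (t := 1 / 2)
    (by simp only [u]; compute_degree!) (by simp only [v]; compute_degree!)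
    (by simp [u, Polynomial.coeff_X]) (by simp [v, Polynomial.coeff_X]) (by norm_num)
  let χ₀ : ℚ := Curv2.euler k A.left (rep l)
  haveI : ∀ i, IsMonHom (![𝟙 A] i) := fun i => by fin_cases i; exact inferInstanceAs (IsMonHom (𝟙 A))
  obtain ⟨D, hD, hDv⟩ := exists_deg_poly' hA ![𝟙 A]
  have hdeg : ∀ n : ℕ, (deg (𝟙 A ^ n) : ℚ) = (n : ℚ) ^ (2 * g) := fun n => by
    have hs : MvPolynomial.eval (fun _ : Fin 1 => (n : ℚ)) D = (n : ℚ) ^ (2 * g) * MvPolynomial.eval (fun _ : Fin 1 => (1 : ℚ)) D := by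
      rw [MvPolynomial.eval_eq', MvPolynomial.eval_eq', Finset.mul_sum]
      refine Finset.sum_congr rfl fun m hm => ?_
      have hw := hD (MvPolynomial.mem_support_iff.1 hm)
      rw [Finsupp.weight_apply, Finsupp.sum_fintype _ _ (fun _ => by simp)] at hw
      simp only [Fin.sum_univ_one, Fin.prod_univ_one, Pi.one_apply, smul_eq_mul, _root_.mul_one] at hw ⊢
      rw [hw, one_pow]; ring
    have h1 := hDv ![1]
    have hn := hDv ![(n : ℤ)]
    simp only [Fin.prod_univ_one, Matrix.cons_val_zero, zpow_one, zpow_natCast, deg_id hA, Nat.cast_one] at h1 hn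
    rw [show (fun i => (((![(n : ℤ)]) i : ℤ) : ℚ)) = fun _ : Fin 1 => (n : ℚ) by funext i; fin_cases i; simp, hs] at hn
    rw [show (fun i => (((![(1 : ℤ)]) i : ℤ) : ℚ)) = fun _ : Fin 1 => (1 : ℚ) by funext i; fin_cases i; simp] at h1
    rw [← hn, h1, _root_.mul_one]
  have hq : MvPolynomial.aeval ![u, v] P = Polynomial.C χ₀ * Polynomial.X ^ (2 * g) := by
    refine Polynomial.eq_of_infinite_eval_eq _ _ (Set.infinite_of_injective_forall_mem
      (f := fun m : ℕ => ((m + 1 : ℕ) : ℚ)) (fun a b h => by simpa using h) fun m => ?_)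
    show Polynomial.eval ((m + 1 : ℕ) : ℚ) (MvPolynomial.aeval ![u, v] P) = Polynomial.eval _ _
    generalize hn : m + 1 = n
    have hu : u.eval (n : ℚ) = ((n * (n + 1) / 2 : ℕ) : ℚ) := by
      rw [Nat.cast_div (even_iff_two_dvd.1 (Nat.even_mul_succ_self n)) two_ne_zero]
      simp [u]; ring
    have hv : v.eval (n : ℚ) = ((n * (n - 1) / 2 : ℕ) : ℚ) := by
      rw [Nat.cast_div (even_iff_two_dvd.1 (Nat.even_mul_pred_self n)) two_ne_zero]
      subst hn
      simp [v]; ring
    rw [hev, hu, hv, hval, ← W7Cube.pc_pow, Polynomial.eval_mul, Polynomial.eval_C, Polynomial.eval_pow,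
      Polynomial.eval_X, ← hdeg]
    haveI := isMonHom_zpow (𝟙 A) (n : ℤ)
    haveI : IsMonHom (𝟙 A ^ n) := by rw [← zpow_natCast]; infer_instance
    have hpos : deg (𝟙 A ^ n) ≠ 0 := fun h0 => by
      have := hdeg n
      rw [h0, Nat.cast_zero] at this
      exact pow_ne_zero _ (Nat.cast_ne_zero.2 (by omega)) this.symm
    have hfin : IsFinite (𝟙 A ^ n).left := by
      by_contra hf
      exact hpos (deg_eq_zero_of_not_isFinite hf)
    haveI := hfin
    haveI : Surjective (𝟙 A ^ n).left := GrpField.surjective_of_isFinite _ rfl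
    haveI : Flat (𝟙 A ^ n).left := GrpField.flat_of_surjective _
    haveI : LocallyOfFinitePresentation (𝟙 A ^ n).left := inferInstance
    haveI : Nonempty A.left := ⟨η[A].left (IsLocalRing.closedPoint k)⟩
    obtain ⟨e⟩ := EulerMult.nonempty_self_trivial (𝟙 A ^ n) (fun y => finrank_eq_deg hA _ hfin y)
    have h := EulerMult.euler_pullback_of_trivial (k := k) (𝟙 A ^ n).left (Over.w (𝟙 A ^ n))
      (fun y => finrank_eq_deg hA _ hfin y) (𝟙 A ^ n).left e (rep l) (CurveRR.isCoh_of_inv (isInvertible_rep l))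
    have h3 : W7Cube.pc l (𝟙 A ^ n) = PicGrp.cls _ (PicLoc.isInvertible_pullback (𝟙 A ^ n).left (isInvertible_rep l)) := by
      conv_lhs => rw [← cls_rep l]
      exact W7Cube.pull_cls _ _ _
    obtain ⟨i⟩ := nonempty_rep_iso (PicLoc.isInvertible_pullback (𝟙 A ^ n).left (isInvertible_rep l))
    rw [h3, CurveRR.euler_eq_of_iso i, h]
    push_cast
    ring
  have hfin := hc2
  rw [hq, Polynomial.coeff_C_mul, mul_comm 2 g, Polynomial.coeff_X_pow_self, _root_.mul_one] at hfin
  rw [hpd, _root_.mul_one, one_pow, _root_.one_mul] at hc1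
  rw [← hp, hc1, show (Curv2.euler k A.left (rep l) : ℚ) = χ₀ from rfl, hfin, one_div, inv_pow]
  field_simp

end Groth.Agent.AVDeg
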