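import Groth.Agent.AVDeg.DegBC
import Groth.Agent.AVDeg.CharRoots
import Groth.Agent.AVDeg.FormOf
import Groth.Agent.FrobPic.Pow
import Groth.Agent.LinAlg.FormScale

/-!
The Riemann hypothesis for abelian varieties over finite fields.
-/

set_option autoImplicit false
set_option backward.isDefEq.respectTransparency false
set_option backward.isDefEq.respectTransparency.types false
set_option linter.style.haveILetI false
set_option linter.unusedSectionVars false
set_option synthInstance.maxHeartbeats 400000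
set_option maxHeartbeats 2000000

universe u

open CategoryTheory CategoryTheory.Limits MonoidalCategory CartesianMonoidalCategory MonObj AlgebraicGeometry
open TopologicalSpace

noncomputable section

namespace Groth.Agent.AVDeg

attribute [local instance] W7Cube.law
attribute [local instance] overInst

section Closed

variable {k : Type u} [Field k] [IsAlgClosed k] {A : Over (Spec (CommRingCat.of k))}
variable [GrpObj A] [IsProper A.hom] [GeometricallyIntegral A.hom] [IsCommMonObj A]

/-- An endomorphism scaling an ample class by `q` scales the associated form by `q`, and has degree `q^dim`. -/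
theorem deg_eq_pow_of_scale {r : ℕ} (hA : topologicalKrullDim A.left = (r : WithBot ℕ∞)) (F : A ⟶ A) [IsMonHom F]
    {H : A.left.Modules} (hH : CohB1.IsAmple H) (q : ℕ)
    (hF : W7Cube.pc (PicGrp.cls H hH.1) F = PicGrp.cls H hH.1 ^ q) : deg F = q ^ r := by
  have h := top_pc hA F (fun _ : Fin r => PicGrp.cls H hH.1)
  simp only [hF] at h
  have h2 := (topLin k hA.le).map_smul_univ (fun _ => (q : ℤ))
    (fun _ => Additive.ofMul (PicGrp.cls H hH.1))
  simp only [topLin_apply, toMul_zsmul, toMul_ofMul, zpow_natCast, Finset.prod_const, Finset.card_univ,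
    Fintype.card_fin, zsmul_eq_mul, Int.cast_pow, Int.cast_natCast] at h2
  rw [h2] at h
  exact_mod_cast (mul_right_cancel₀ (top_pos hA hH).ne' h).symm

/-- Roots of the characteristic polynomial of an endomorphism are roots of every polynomial killing it. -/
theorem aeval_root_eq_zero {r : ℕ} (hA : topologicalKrullDim A.left = (r : WithBot ℕ∞)) (φ : EndAV.End A)
    {P : Polynomial ℤ} (hP : P.Monic) (hPd : P.natDegree = 2 * r)
    (hPv : ∀ n : ℤ, P.eval n = deg (EndAV.End.toHom (φ - (n : EndAV.End A))))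
    (F : Polynomial ℤ) (hF : Polynomial.aeval φ F = 0) (K : Type*) [Field K] [IsAlgClosed K] [CharZero K]
    (ω : K) (hω : ω ∈ (P.map (Int.castRingHom K)).roots) : Polynomial.aeval ω F = 0 := by
  have hcard : (P.map (Int.castRingHom K)).roots.card = 2 * r := by
    rw [← (IsAlgClosed.splits _).natDegree_eq_card_roots, hP.natDegree_map, hPd]
  have hQv : ∀ n : ℤ, (Polynomial.X ^ (2 * r) : Polynomial ℤ).eval n =
      deg (EndAV.End.toHom (Polynomial.aeval φ F - (n : EndAV.End A))) := by
    intro n
    have h := deg_aeval hA φ hP hPd hPv K (-Polynomial.C n)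
    rw [map_neg, Polynomial.aeval_C, eq_intCast,
      Multiset.map_congr rfl (fun ω (_ : ω ∈ (P.map (Int.castRingHom K)).roots) =>
        show Polynomial.aeval ω (-Polynomial.C n) = -(n : K) by simp),
      Multiset.map_const', Multiset.prod_replicate, hcard, (even_two_mul r).neg_pow] at h
    rw [hF, zero_sub, Polynomial.eval_pow, Polynomial.eval_X]
    exact_mod_cast h.symm
  have hmem : Polynomial.aeval ω F ∈ ((Polynomial.X ^ (2 * r) : Polynomial ℤ).map (Int.castRingHom K)).roots := by
    rw [roots_charpoly_aeval hA φ F hP hPd hPv hQv K]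
    exact Multiset.mem_map_of_mem _ hω
  rw [Polynomial.map_pow, Polynomial.map_X, Polynomial.roots_pow, Polynomial.roots_X,
    Multiset.nsmul_singleton] at hmem
  exact Multiset.eq_of_mem_replicate hmem

/-- An endomorphism scaling a symmetric ample class by `q` has all characteristic roots of modulus `√q`. -/
theorem norm_root_of_scale {r : ℕ} (hA : topologicalKrullDim A.left = (r : WithBot ℕ∞)) (φ : EndAV.End A)
    {H : A.left.Modules} (hH : CohB1.IsAmple H)
    (hsym : W7Cube.pc (PicGrp.cls H hH.1) (𝟙 A)⁻¹ = PicGrp.cls H hH.1) (q : ℕ) (hq : q ≠ 0)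
    (hF : W7Cube.pc (PicGrp.cls H hH.1) (EndAV.End.toHom φ) = PicGrp.cls H hH.1 ^ q)
    {P : Polynomial ℤ} (hP : P.Monic) (hPd : P.natDegree = 2 * r)
    (hPv : ∀ n : ℤ, P.eval n = deg (EndAV.End.toHom (φ - (n : EndAV.End A))))
    (ω : ℂ) (hω : ω ∈ (P.map (Int.castRingHom ℂ)).roots) : ‖ω‖ = Real.sqrt q := by
  rcases r with _ | r
  · rw [Polynomial.eq_one_of_monic_natDegree_zero hP hPd, Polynomial.map_one, Polynomial.roots_one] at hω
    exact absurd hω (Multiset.notMem_zero _)
  obtain ⟨β, hs, hp, hv⟩ := exists_posDef_form_of hA H hH H hH hsym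
  obtain ⟨hfin, hfree⟩ := hom_finite_free (A := A) (B := A)
  let R : EndAV.Hom A A →ₗ[ℤ] EndAV.Hom A A :=
    (AddMonoidHom.mk' (fun f : EndAV.End A => (f * φ : EndAV.End A)) fun f g => add_mul f g φ).toIntLinearMap
  have hdeg := deg_eq_pow_of_scale hA (EndAV.End.toHom φ) hH q hF
  have hR : ∀ f : EndAV.Hom A A, β (R f) (R f) = q * β f f := by
    intro f
    apply Int.cast_injective (α := ℚ)
    rw [Int.cast_mul, hv, hv, Int.cast_natCast]
    set c₀ : Fin (r + 1) → PicLoc.PicSet A.left := fun _ => PicGrp.cls H hH.1 with hc₀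
    set C := W7Cube.pc (PicGrp.cls H hH.1) f.toHom with hC
    rw [show W7Cube.pc (PicGrp.cls H hH.1) (R f).toHom = W7Cube.pc C (EndAV.End.toHom φ) from
      (W7Cube.pull_pc (PicGrp.cls H hH.1) (EndAV.End.toHom φ) f.toHom).symm]
    have h := top_pc hA (EndAV.End.toHom φ) (Function.update c₀ 0 C)
    rw [hdeg] at h
    let C' := W7Cube.pc C (EndAV.End.toHom φ)
    have h2 := (topLin k hA.le).map_smul_univ (Function.update (fun _ => (q : ℤ)) (0 : Fin (r + 1)) 1)
      (fun i => Additive.ofMul (Function.update c₀ 0 C' i))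
    have hL : (fun i => Additive.toMul (Function.update (fun _ => (q : ℤ)) (0 : Fin (r + 1)) 1 i •
        Additive.ofMul (Function.update c₀ 0 C' i))) =
        fun i => W7Cube.pc (Function.update c₀ 0 C i) (EndAV.End.toHom φ) := by
      funext i
      rcases eq_or_ne i 0 with rfl | hi
      · simp [C']
      · simp [Function.update_of_ne hi, hc₀, hF]
    rw [topLin_apply, topLin_apply, hL, h, Fin.prod_univ_succ, Function.update_self] at h2
    simp only [Function.update_of_ne (Fin.succ_ne_zero _), Finset.prod_const, Finset.card_univ,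
      Fintype.card_fin, _root_.one_mul, zsmul_eq_mul, toMul_ofMul, Int.cast_pow, Int.cast_natCast, Nat.cast_pow] at h2
    rw [pow_succ, _root_.mul_assoc] at h2
    have h3 := mul_left_cancel₀ (pow_ne_zero r (Nat.cast_ne_zero.2 hq)) h2
    show 2 * top k (Function.update c₀ 0 C') = _
    rw [← h3]
    ring
  refine LinAlg.FormScale.norm_sq_eq β hs hp R q hR ω ?_
  refine aeval_root_eq_zero hA φ hP hPd hPv _ ?_ ℂ ω hω
  have hpow : ∀ (i : ℕ), (R ^ i) (1 : EndAV.End A) = φ ^ i := by
    intro i
    induction i with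
    | zero => rfl
    | succ i ih =>
      rw [pow_succ', Module.End.mul_apply, ih]
      exact (pow_succ φ i).symm
  have key : ∀ G : Polynomial ℤ, (Polynomial.aeval R G) (1 : EndAV.End A) = Polynomial.aeval φ G := by
    intro G
    induction G using Polynomial.induction_on' with
    | add p₁ p₂ h₁ h₂ => rw [map_add, map_add, LinearMap.add_apply, h₁, h₂]
    | monomial i c =>
      rw [← Polynomial.C_mul_X_pow_eq_monomial, map_mul, map_mul, Polynomial.aeval_C, Polynomial.aeval_C,
        Polynomial.aeval_X_pow, Polynomial.aeval_X_pow, eq_intCast, eq_intCast, ← zsmul_eq_mul, ← zsmul_eq_mul,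
        LinearMap.smul_apply, hpow]
  rw [← key, LinearMap.aeval_self_charpoly]
  rfl

end Closed

variable {k : Type u} [Field k] [Finite k] (Ω : Type u) [Field Ω] [Algebra k Ω] [IsAlgClosed Ω]
variable {A : Over (Spec (CommRingCat.of k))}
variable [GrpObj A] [IsProper A.hom] [GeometricallyIntegral A.hom] [IsCommMonObj A]

/-- The Riemann hypothesis. -/
theorem riemann_hypothesis (πA : A ⟶ A) [IsMonHom πA] (hb : πA.left.base = 𝟙 _)
    (hle : ∀ U : A.left.Opens, U ≤ πA.left ⁻¹ᵁ U)
    (happ : ∀ (U : A.left.Opens) (s : Γ(A.left, U)), (πA.left.appLE U U (hle U)).hom s = s ^ Nat.card k)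
    {r : ℕ} (hA : topologicalKrullDim A.left = (r : WithBot ℕ∞))
    {P : Polynomial ℤ} (hP : P.Monic) (hPd : P.natDegree = 2 * r)
    (hPv : ∀ n : ℤ, P.eval n =
      deg (EndAV.End.toHom (endBC Ω (EndAV.End.of πA) - (n : EndAV.End (bcK k Ω A)))))
    (ω : ℂ) (hω : ω ∈ (P.map (Int.castRingHom ℂ)).roots) : ‖ω‖ = Real.sqrt (Nat.card k) := by
  obtain ⟨L, hL, ⟨eL⟩⟩ := Groth.Agent.S8121.result k A
  have hLi : PicF.IsInvertible L := hL.1
  set c := PicGrp.cls L hLi with hc
  let g := pullback.fst A.hom (specMap k Ω)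
  haveI : IsAffineHom (specMap k Ω) := inferInstance
  haveI : IsAffineHom g := MorphismProperty.pullback_fst A.hom (specMap k Ω) ‹_›
  have hH : CohB1.IsAmple ((Scheme.Modules.pullback g).obj L) := TMul.isAmple_pullback_of_isAffineHom g hL
  have hcl : PicGrp.cls _ hH.1 = W7Cube.pull g c := (W7Cube.pull_cls g L hLi).symm
  have hbc : ∀ f : A ⟶ A, W7Cube.pc (W7Cube.pull g c) (bcMap Ω f) = W7Cube.pull g (W7Cube.pull f.left c) := by
    intro f
    show W7Cube.pull (bcMap Ω f).left (W7Cube.pull g c) = _
    exact ((W7Cube.pull_pull (bcMap Ω f).left g c).trans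
      (congrArg (fun m => W7Cube.pull m c) (pullback.lift_fst _ _ _))).trans (W7Cube.pull_pull g f.left c).symm
  refine norm_root_of_scale ((topologicalKrullDim_bcK Ω).trans hA) (endBC Ω (EndAV.End.of πA)) hH ?_
    (Nat.card k) Nat.card_pos.ne' ?_ hP hPd hPv ω hω
  · have hinv : (𝟙 (bcK k Ω A))⁻¹ = bcMap Ω (𝟙 A)⁻¹ :=
      (congrArg EndAV.End.toHom ((map_neg (endBC Ω) (1 : EndAV.End A)).trans (congrArg Neg.neg (map_one (endBC Ω))))).symm
    rw [hcl, hinv, hbc]
    refine congrArg _ ?_
    rw [hc, W7Cube.pull_cls]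
    exact ((PicGrp.cls_eq_cls_iff hLi _).2 ⟨eL⟩).symm
  · rw [hcl, show EndAV.End.toHom (endBC Ω (EndAV.End.of πA)) = bcMap Ω πA from rfl, hbc,
      FrobPic.pull_of_isFrob A.hom πA.left hb hle happ c, map_pow]

end Groth.Agent.AVDeg
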