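import Groth.Agent.AVDeg.HomBC
import Groth.Prelude.Def_SGA7a

/-!
The image of homomorphisms in maps of Tate modules is saturated.
-/

set_option autoImplicit false
set_option backward.isDefEq.respectTransparency false
set_option linter.style.haveILetI false
set_option linter.unusedSectionVars false
set_option synthInstance.maxHeartbeats 200000

universe u

open CategoryTheory CategoryTheory.Limits MonoidalCategory CartesianMonoidalCategory MonObj AlgebraicGeometry
open TopologicalSpace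
open scoped CategoryTheory.Obj

noncomputable section

namespace Groth.Agent.AVDeg

variable {k : Type u} (Ω : Type u) [Field k] [Field Ω] [Algebra k Ω]
variable {A B : Over (Spec (CommRingCat.of k))}

theorem bc_map_injective : Function.Injective ((Over.pullback (specMap k Ω)).map : (A ⟶ B) → _) := fun φ ψ h => by
  refine Over.OverMorphism.ext ?_
  haveI : Surjective (specMap k Ω) :=
    ⟨fun _ => ⟨IsLocalRing.closedPoint Ω, Subsingleton.elim (α := PrimeSpectrum k) _ _⟩⟩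
  haveI : Flat (specMap k Ω) :=
    (HasRingHomProperty.Spec_iff (P := @Flat)).2 (RingHom.flat_algebraMap_iff.2 inferInstance)
  haveI : Surjective (pullback.fst A.hom (specMap k Ω)) := MorphismProperty.pullback_fst _ _ ‹_›
  haveI : Flat (pullback.fst A.hom (specMap k Ω)) := MorphismProperty.pullback_fst _ _ ‹_›
  haveI := Flat.epi_of_flat_of_surjective (pullback.fst A.hom (specMap k Ω))
  have hfst : ∀ f : A ⟶ B, ((Over.pullback (specMap k Ω)).map f).left ≫ pullback.fst B.hom (specMap k Ω) =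
      pullback.fst A.hom (specMap k Ω) ≫ f.left := fun f => pullback.lift_fst _ _ _
  rw [← cancel_epi (pullback.fst A.hom (specMap k Ω)), ← hfst, ← hfst, h]

/-- The tautological point. -/
def unitPt : one' Ω ⟶ bcK k Ω (SGA7.pt (K := k) Ω) :=
  Over.homMk (pullback.lift (𝟙 _) (𝟙 _) (by simp)) (pullback.lift_snd _ _ _)

/-- `Ω`-points of `A` as points of the base change. -/
def ptsBC : (SGA7.pt (K := k) Ω ⟶ A) ≃ (one' Ω ⟶ bcK k Ω A) where
  toFun f := unitPt Ω ≫ (Over.pullback (specMap k Ω)).map f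
  invFun p := Over.homMk (p.left ≫ pullback.fst _ _) (by
    have hw : p.left ≫ pullback.snd A.hom (specMap k Ω) = 𝟙 _ := Over.w p
    show (p.left ≫ pullback.fst A.hom (specMap k Ω)) ≫ A.hom = specMap k Ω
    rw [Category.assoc, pullback.condition, ← Category.assoc, hw, Category.id_comp])
  left_inv f := Over.OverMorphism.ext (by
    have h1 : ((Over.pullback (specMap k Ω)).map f).left ≫ pullback.fst A.hom (specMap k Ω) =
        pullback.fst (SGA7.pt (K := k) Ω).hom (specMap k Ω) ≫ f.left := pullback.lift_fst _ _ _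
    show ((unitPt Ω).left ≫ ((Over.pullback (specMap k Ω)).map f).left) ≫ pullback.fst A.hom (specMap k Ω) = f.left
    rw [Category.assoc, h1, ← Category.assoc]
    exact (congrArg (· ≫ f.left) (pullback.lift_fst _ _ _)).trans (Category.id_comp _))
  right_inv p := Over.OverMorphism.ext (pullback.hom_ext (by
    refine (Category.assoc _ _ _).trans ?_
    refine (congrArg (_ ≫ ·) (pullback.lift_fst _ _ _)).trans ?_
    refine (Category.assoc _ _ _).symm.trans ?_
    exact (congrArg (· ≫ _) (pullback.lift_fst _ _ _)).trans (Category.id_comp _)) (by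
    have hw : ∀ {X : Over (Spec (CommRingCat.of Ω))} (g : X ⟶ bcK k Ω A),
        g.left ≫ pullback.snd A.hom (specMap k Ω) = X.hom := fun g => Over.w g
    exact (hw _).trans (hw p).symm))

variable [GrpObj A] [GrpObj B]

theorem ptsBC_mul (f g : SGA7.pt (K := k) Ω ⟶ A) : ptsBC Ω (f * g) = ptsBC Ω f * ptsBC Ω g := by
  show unitPt Ω ≫ (Over.pullback (specMap k Ω)).map (f * g) = _
  rw [Functor.map_mul, MonObj.comp_mul]
  rfl

/-- Additive form. -/
def ptsBCAdd : Additive (SGA7.pt (K := k) Ω ⟶ A) ≃+ Additive (one' Ω ⟶ bcK k Ω A) :=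
  MulEquiv.toAdditive { ptsBC Ω with map_mul' := ptsBC_mul Ω }

variable [IsProper A.hom] [GeometricallyIntegral A.hom] [IsCommMonObj A]
variable [IsProper B.hom] [GeometricallyIntegral B.hom] [IsCommMonObj B]
variable {l : ℕ} [Fact l.Prime]

/-- Tate modules under base change. -/
def tateBC : AbDual.TateMod A l (SGA7.pt (K := k) Ω) ≃ₗ[ℤ_[l]] AbDual.TateMod (bcK k Ω A) l (one' Ω) where
  toFun x := ⟨fun n => ptsBCAdd Ω ((x : ℕ → Additive (SGA7.pt (K := k) Ω ⟶ A)) n),
    fun n => by rw [← map_nsmul, x.torsion, map_zero], fun n => by rw [← map_nsmul, x.compat]⟩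
  invFun y := ⟨fun n => (ptsBCAdd Ω).symm ((y : ℕ → Additive (one' Ω ⟶ bcK k Ω A)) n),
    fun n => by rw [← map_nsmul, y.torsion, map_zero], fun n => by rw [← map_nsmul, y.compat]⟩
  left_inv x := AbDual.TateMod.ext fun n => (ptsBCAdd Ω).symm_apply_apply _
  right_inv y := AbDual.TateMod.ext fun n => (ptsBCAdd Ω).apply_symm_apply _
  map_add' x y := AbDual.TateMod.ext fun n => map_add (ptsBCAdd Ω) _ _
  map_smul' a x := AbDual.TateMod.ext fun n => by
    show ptsBCAdd Ω _ = _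
    rw [AbDual.smul_component, RingHom.id_apply, AbDual.smul_component, map_nsmul]

theorem tateBC_tateMap (φ : EndAV.Hom A B) (x : AbDual.TateMod A l (SGA7.pt (K := k) Ω)) :
    tateBC Ω (EndAV.Hom.tateMap l (SGA7.pt (K := k) Ω) φ x) =
      EndAV.Hom.tateMap l (one' Ω) (homBC Ω φ) (tateBC Ω x) :=
  AbDual.TateMod.ext fun n => congrArg Additive.ofMul (by
    show unitPt Ω ≫ (Over.pullback (specMap k Ω)).map (_ ≫ φ.toHom) = _
    rw [Functor.map_comp, ← Category.assoc]
    rfl)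

/-- Divisibility by an integer descends. -/
theorem exists_eq_nsmul_of_bc {n : ℕ} (hn : n ≠ 0) (ψ : EndAV.Hom A B) (f₁ : EndAV.Hom (bcK k Ω A) (bcK k Ω B))
    (h : homBC Ω ψ = n • f₁) : ∃ ψ₁ : EndAV.Hom A B, ψ = n • ψ₁ := by
  haveI := isIntegral_av A
  haveI := isMonHom_id_pow (A := A) n
  haveI := isFinite_pow_id (A := A) hn
  haveI : Surjective (𝟙 A ^ n).left := GrpField.surjective_of_isFinite (𝟙 A ^ n) rfl
  haveI : Flat (𝟙 A ^ n).left := GrpField.flat_of_surjective _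
  let R : Over (Spec (CommRingCat.of k)) := Over.mk (pullback.fst (𝟙 A ^ n).left (𝟙 A ^ n).left ≫ A.hom)
  let r₁ : R ⟶ A := Over.homMk (pullback.fst (𝟙 A ^ n).left (𝟙 A ^ n).left) rfl
  let r₂ : R ⟶ A := Over.homMk (pullback.snd (𝟙 A ^ n).left (𝟙 A ^ n).left) (by
    show pullback.snd (𝟙 A ^ n).left (𝟙 A ^ n).left ≫ A.hom = pullback.fst (𝟙 A ^ n).left (𝟙 A ^ n).left ≫ A.hom
    rw [← Over.w (𝟙 A ^ n), ← Category.assoc, ← pullback.condition, Category.assoc])
  have hr' : r₁ ≫ (𝟙 A ^ n) = r₂ ≫ (𝟙 A ^ n) := Over.OverMorphism.ext pullback.condition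
  have hψ : (Over.pullback (specMap k Ω)).map ψ.toHom =
      (Over.pullback (specMap k Ω)).map (𝟙 A ^ n) ≫ f₁.toHom := by
    have h1 : (Over.pullback (specMap k Ω)).map (𝟙 A ^ n) = (𝟙 (bcK k Ω A)) ^ n :=
      (map_pow (Functor.homMonoidHom (Over.pullback (specMap k Ω))) (𝟙 A) n).trans
        (congrArg (· ^ n) ((Over.pullback (specMap k Ω)).map_id A))
    rw [h1, MonObj.pow_comp, Category.id_comp, ← EndAV.Hom.toHom_nsmul, ← h, toHom_homBC]
  have hr : r₁ ≫ ψ.toHom = r₂ ≫ ψ.toHom := bc_map_injective Ω (by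
    rw [Functor.map_comp, Functor.map_comp, hψ, ← Category.assoc, ← Category.assoc, ← Functor.map_comp,
      ← Functor.map_comp, hr'])
  have hcond : ∀ {Z : Scheme.{u}} (g₁ g₂ : Z ⟶ A.left), g₁ ≫ (𝟙 A ^ n).left = g₂ ≫ (𝟙 A ^ n).left →
      g₁ ≫ ψ.toHom.left = g₂ ≫ ψ.toHom.left := by
    intro Z g₁ g₂ hg
    have hl := congrArg (fun m => pullback.lift g₁ g₂ hg ≫ m.left) hr
    simp only [Over.comp_left] at hl
    rw [show r₁.left = pullback.fst (𝟙 A ^ n).left (𝟙 A ^ n).left from rfl,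
      show r₂.left = pullback.snd (𝟙 A ^ n).left (𝟙 A ^ n).left from rfl,
      pullback.lift_fst_assoc, pullback.lift_snd_assoc] at hl
    exact hl
  haveI : EffectiveEpi (𝟙 A ^ n).left := inferInstance
  let ρl := EffectiveEpi.desc (𝟙 A ^ n).left ψ.toHom.left hcond
  have hfac : (𝟙 A ^ n).left ≫ ρl = ψ.toHom.left := EffectiveEpi.fac (𝟙 A ^ n).left ψ.toHom.left hcond
  let ρ : A ⟶ B := Over.homMk ρl (by
    rw [← cancel_epi (𝟙 A ^ n).left, ← Category.assoc, hfac, Over.w ψ.toHom, Over.w (𝟙 A ^ n)])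
  have hρ : (𝟙 A ^ n) ≫ ρ = ψ.toHom := Over.OverMorphism.ext hfac
  haveI : IsMonHom ρ := Rigid.isMonHom_of_unit (Rigid.goodFibres_of_geometricallyIntegral A.hom)
    (Rigid.isPreconnected_fibre_of_geometricallyIntegral A.hom) ρ (by
      conv_lhs => rw [← IsMonHom.one_hom (𝟙 A ^ n), Category.assoc, hρ, IsMonHom.one_hom ψ.toHom])
  refine ⟨EndAV.Hom.of ρ, EndAV.Hom.ext ?_⟩
  rw [EndAV.Hom.toHom_nsmul, EndAV.Hom.toHom_of, ← hρ, MonObj.pow_comp, Category.id_comp]

/-- Saturation. -/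
theorem mem_span_of_pow_smul_mem [IsAlgClosed Ω] (hl : (l : k) ≠ 0)
    (u : AbDual.TateMod A l (SGA7.pt (K := k) Ω) →ₗ[ℤ_[l]] AbDual.TateMod B l (SGA7.pt (K := k) Ω)) (n : ℕ)
    (hu : ((l : ℤ_[l]) ^ n) • u ∈
      Submodule.span ℤ_[l] (Set.range (EndAV.Hom.tateMap (A := A) (B := B) l (SGA7.pt (K := k) Ω)))) :
    u ∈ Submodule.span ℤ_[l] (Set.range (EndAV.Hom.tateMap (A := A) (B := B) l (SGA7.pt (K := k) Ω))) := by
  classical
  have hlΩ : (l : Ω) ≠ 0 := fun h0 => hl ((algebraMap k Ω).injective (by rw [map_natCast, h0, map_zero]))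
  haveI : Nonempty A.left := ⟨η[A].left (IsLocalRing.closedPoint k)⟩
  haveI : Nonempty B.left := ⟨η[B].left (IsLocalRing.closedPoint k)⟩
  obtain ⟨g, hg⟩ := exists_dim A
  obtain ⟨h, hh⟩ := exists_dim B
  obtain ⟨hfree, hfin, -⟩ := hom_lattice hg hh
  haveI := hfree
  haveI := hfin
  let a := Module.finBasis ℤ (EndAV.Hom A B)
  let σ := Fin (Module.finrank ℤ (EndAV.Hom A B))
  let T := EndAV.Hom.tateMap (A := A) (B := B) l (SGA7.pt (K := k) Ω)
  have hspan : Submodule.span ℤ_[l] (Set.range T) = Submodule.span ℤ_[l] (Set.range fun i => T (a i)) := by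
    refine le_antisymm (Submodule.span_le.2 ?_) (Submodule.span_mono (Set.range_comp_subset_range a T))
    rintro _ ⟨φ, rfl⟩
    rw [← a.sum_repr φ, map_sum]
    refine Submodule.sum_mem _ fun i _ => ?_
    rw [map_zsmul, ← Int.cast_smul_eq_zsmul ℤ_[l]]
    exact Submodule.smul_mem _ _ (Submodule.subset_span ⟨i, rfl⟩)
  rw [hspan] at hu
  obtain ⟨c, hc⟩ := (Submodule.mem_span_range_iff_exists_fun ℤ_[l]).1 hu
  let z : σ → ℤ := fun i => ((c i).appr n : ℤ)
  have hd : ∀ i, ∃ e, c i = (z i : ℤ_[l]) + (l : ℤ_[l]) ^ n * e := fun i => by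
    obtain ⟨e, he⟩ := Ideal.mem_span_singleton'.1 (PadicInt.appr_spec n (c i))
    exact ⟨e, by simp only [z, Int.cast_natCast]; rw [_root_.mul_comm, he, add_sub_cancel]⟩
  choose e he using hd
  let ψ : EndAV.Hom A B := ∑ i, z i • a i
  have hTψ : T ψ = ((l : ℤ_[l]) ^ n) • (u - ∑ i, e i • T (a i)) := by
    rw [smul_sub, ← hc, Finset.smul_sum, ← Finset.sum_sub_distrib, map_sum]
    refine Finset.sum_congr rfl fun i _ => ?_
    rw [map_zsmul, smul_smul, ← sub_smul, he i, add_sub_cancel_right, Int.cast_smul_eq_zsmul]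
  obtain ⟨f₁, hf₁⟩ := exists_smul_eq_of_dvd_tate hlΩ (homBC Ω ψ) n fun t => by
    refine ⟨tateBC Ω ((u - ∑ i, e i • T (a i)) ((tateBC Ω).symm t)), ?_⟩
    conv_lhs => rw [← (tateBC Ω).apply_symm_apply t]
    rw [← tateBC_tateMap]
    show tateBC Ω (T ψ _) = _
    rw [hTψ, LinearMap.smul_apply, map_smul]
  obtain ⟨ψ₁, hψ₁⟩ := exists_eq_nsmul_of_bc Ω (pow_ne_zero n (Fact.out : l.Prime).ne_zero) ψ f₁ hf₁
  have hu' : ((l : ℤ_[l]) ^ n) • (T ψ₁ + ∑ i, e i • T (a i)) = ((l : ℤ_[l]) ^ n) • u := by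
    rw [smul_add, eq_comm, ← sub_eq_iff_eq_add, ← smul_sub, ← hTψ, hψ₁, map_nsmul, ← Nat.cast_smul_eq_nsmul ℤ_[l],
      Nat.cast_pow]
  haveI := (moduleFinite_tate (A := bcK k Ω B) hlΩ).2
  haveI : Module.IsTorsionFree ℤ_[l] (AbDual.TateMod B l (SGA7.pt (K := k) Ω)) :=
    (tateBC (A := B) (l := l) Ω).injective.moduleIsTorsionFree _ (fun r x => map_smul _ r x)
  have heq : u = T ψ₁ + ∑ i, e i • T (a i) := LinearMap.ext fun x =>
    (smul_right_injective _ (pow_ne_zero n (Nat.cast_ne_zero.2 (Fact.out : l.Prime).ne_zero : (l : ℤ_[l]) ≠ 0))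
      (LinearMap.congr_fun hu' x)).symm
  rw [heq]
  exact Submodule.add_mem _ (Submodule.subset_span ⟨ψ₁, rfl⟩)
    (Submodule.sum_mem _ fun i _ => Submodule.smul_mem _ _ (Submodule.subset_span ⟨a i, rfl⟩))

end Groth.Agent.AVDeg
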