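import Groth.Agent.AVDeg.DegBC

/-!
The cokernel of an isogeny on Tate modules is the `l`-part of the kernel.
-/

set_option autoImplicit false
set_option backward.isDefEq.respectTransparency false
set_option linter.style.haveILetI false
set_option linter.unusedSectionVars false
set_option synthInstance.maxHeartbeats 400000

universe u

open CategoryTheory CategoryTheory.Limits MonoidalCategory CartesianMonoidalCategory MonObj AlgebraicGeometry
open TopologicalSpace

noncomputable section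

namespace Groth.Agent.AVDeg

section Algebra

variable {l : ℕ} [hlp : Fact l.Prime]

/-- The kernel of a diagonal map on `l ^ n`-torsion, as a group. -/
theorem exists_addEquiv_diag_ker {G H : Type*} [AddCommGroup G] [AddCommGroup H] {r : ℕ} {n : ℕ}
    (h : G →+ H) {x : Fin r → G} {z : Fin r → H} (hx : Good (l ^ n) x) (hz : Good (l ^ n) z)
    (hc : Nat.card (tors G (l ^ n)) = (l ^ n) ^ r)
    (a : Fin r → ℕ) (ha : ∀ i, a i ≤ n) (hh : ∀ i, h (x i) = ((l ^ a i : ℕ) : ℤ) • z i) :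
    Nonempty ((∀ i, ZMod (l ^ a i)) ≃+ ↥(tors G (l ^ n) ⊓ h.ker)) := by
  classical
  haveI : NeZero (l ^ n) := ⟨pow_ne_zero n hlp.out.ne_zero⟩
  haveI : ∀ i, NeZero (l ^ a i) := fun i => ⟨pow_ne_zero _ hlp.out.ne_zero⟩
  have hmem : ∀ i, (((l ^ (n - a i) : ℕ) : ℤ) • x i) ∈ tors G (l ^ n) ⊓ h.ker := fun i => by
    refine ⟨?_, ?_⟩
    · show (l ^ n) • (((l ^ (n - a i) : ℕ) : ℤ) • x i) = 0
      rw [smul_comm, hx.smul_eq_zero, smul_zero]
    · show h (((l ^ (n - a i) : ℕ) : ℤ) • x i) = 0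
      rw [map_zsmul, hh, smul_smul, ← Nat.cast_mul, ← pow_add, Nat.sub_add_cancel (ha i), natCast_zsmul,
        hz.smul_eq_zero]
  let v : Fin r → ↥(tors G (l ^ n) ⊓ h.ker) := fun i => ⟨_, hmem i⟩
  have hv : ∀ i, zmultiplesHom _ (v i) ((l ^ a i : ℕ) : ℤ) = 0 := fun i => Subtype.ext (by
    show ((l ^ a i : ℕ) : ℤ) • (((l ^ (n - a i) : ℕ) : ℤ) • x i) = 0
    rw [smul_smul, ← Nat.cast_mul, ← pow_add, Nat.add_sub_cancel' (ha i), natCast_zsmul, hx.smul_eq_zero])
  let ψ : (∀ i, ZMod (l ^ a i)) →+ ↥(tors G (l ^ n) ⊓ h.ker) :=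
    ∑ i, (ZMod.lift (l ^ a i) ⟨zmultiplesHom _ (v i), hv i⟩).comp (Pi.evalAddMonoidHom _ i)
  have hψ : ∀ d, ((ψ d : ↥(tors G (l ^ n) ⊓ h.ker)) : G) =
      ∑ i, (((d i).val : ℤ) * ((l ^ (n - a i) : ℕ) : ℤ)) • x i := fun d => by
    simp only [ψ, AddMonoidHom.finsetSum_apply, AddSubgroup.val_finsetSum]
    refine Finset.sum_congr rfl fun i _ => ?_
    show ((ZMod.lift (l ^ a i) ⟨zmultiplesHom _ (v i), hv i⟩ (d i)) : G) = _
    have e2 := ZMod.lift_coe (l ^ a i) ⟨zmultiplesHom _ (v i), hv i⟩ ((d i).val : ℤ)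
    rw [Int.cast_natCast, ZMod.natCast_zmod_val] at e2
    rw [e2, mul_smul]
    rfl
  have hinj : Function.Injective ψ := (injective_iff_map_eq_zero _).2 fun d hd => funext fun i => by
    have h1 := congrArg Subtype.val hd
    rw [hψ] at h1
    have h2 := (hx _).1 h1 i
    rw [show l ^ n = l ^ a i * l ^ (n - a i) by rw [← pow_add, Nat.add_sub_cancel' (ha i)], Nat.cast_mul] at h2
    have h3 := Int.dvd_of_mul_dvd_mul_right (Int.natCast_ne_zero.2 (pow_ne_zero _ hlp.out.ne_zero)) h2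
    rw [Int.natCast_dvd_natCast] at h3
    exact (ZMod.val_eq_zero _).1 (Nat.eq_zero_of_dvd_of_lt h3 (ZMod.val_lt _))
  have hcard : Nat.card ↥(tors G (l ^ n) ⊓ h.ker) = l ^ ∑ i, a i := by
    rw [← natCard_diag_ker h hx hz hc a ha hh]
    exact Nat.card_congr (Equiv.subtypeEquivRight fun y => Iff.rfl)
  haveI : Finite ↥(tors G (l ^ n) ⊓ h.ker) :=
    Nat.finite_of_card_ne_zero (by rw [hcard]; exact pow_ne_zero _ hlp.out.ne_zero)
  exact ⟨AddEquiv.ofBijective ψ ((Nat.bijective_iff_injective_and_card _).2 ⟨hinj, by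
    rw [hcard, Nat.card_pi]
    simp [Nat.card_zmod, Finset.prod_pow_eq_pow_sum]⟩)⟩

/-- The cokernel of a diagonal map. -/
theorem exists_addEquiv_coker {M N : Type*} [AddCommGroup M] [Module ℤ_[l] M] [AddCommGroup N] [Module ℤ_[l] N]
    {r : ℕ} (f : M →ₗ[ℤ_[l]] N) (e : Module.Basis (Fin r) ℤ_[l] M) (f' : Module.Basis (Fin r) ℤ_[l] N)
    (a : Fin r → ℕ) (he : ∀ i, f (e i) = ((l : ℤ_[l]) ^ a i) • f' i) :
    Nonempty ((N ⧸ LinearMap.range f) ≃+ ∀ i, ZMod (l ^ a i)) := by
  classical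
  let Φ : N →+ ∀ i, ZMod (l ^ a i) := AddMonoidHom.mk' (fun y i => PadicInt.toZModPow (a i) (f'.repr y i))
    fun y y' => funext fun i => by simp
  have hΦ : Function.Surjective Φ := fun d => by
    choose c hc using fun i => ZMod.ringHom_surjective (PadicInt.toZModPow (p := l) (a i)) (d i)
    exact ⟨∑ i, c i • f' i, funext fun i => by
      show PadicInt.toZModPow (a i) (f'.repr _ i) = d i
      rw [Module.Basis.repr_sum_self, hc]⟩
  have hfrepr : ∀ x i, f'.repr (f x) i = e.repr x i * (l : ℤ_[l]) ^ a i := fun x i => by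
    conv_lhs => rw [← e.sum_repr x]
    simp only [map_sum, map_smul, he, smul_smul]
    rw [Finsupp.finsetSum_apply]
    simp [Finsupp.single_apply, Finset.sum_ite_eq']
  have hker : Φ.ker = (LinearMap.range f).toAddSubgroup := by
    ext y
    refine ⟨fun hy => ?_, ?_⟩
    · have h1 : ∀ i, (l : ℤ_[l]) ^ a i ∣ f'.repr y i := fun i => by
        have h2 : f'.repr y i ∈ RingHom.ker (PadicInt.toZModPow (p := l) (a i)) := congrFun hy i
        rwa [PadicInt.ker_toZModPow, Ideal.mem_span_singleton] at h2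
      choose c hc using h1
      refine ⟨∑ i, c i • e i, ?_⟩
      rw [map_sum]
      conv_rhs => rw [← f'.sum_repr y]
      exact Finset.sum_congr rfl fun i _ => by rw [map_smul, he, smul_smul, hc, mul_comm]
    · rintro ⟨x, rfl⟩
      refine funext fun i => ?_
      show PadicInt.toZModPow (a i) (f'.repr (f x) i) = 0
      rw [hfrepr, map_mul, toZModPow_natCast_pow, mul_zero]
  exact ⟨(QuotientAddGroup.quotientAddEquivOfEq hker.symm).trans
    (QuotientAddGroup.quotientKerEquivOfSurjective Φ hΦ)⟩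

end Algebra

variable {k : Type u} [Field k] [IsAlgClosed k] {A B : Over (Spec (CommRingCat.of k))}
variable [GrpObj A] [IsProper A.hom] [GeometricallyIntegral A.hom] [IsCommMonObj A]
variable [GrpObj B] [IsProper B.hom] [GeometricallyIntegral B.hom] [IsCommMonObj B]
variable {l : ℕ} [Fact l.Prime]

/-- The cokernel on Tate modules, killed by a large power of `l` inside the kernel. -/
theorem exists_coker_equiv (hl : (l : k) ≠ 0) {r : ℕ} (hrA : topologicalKrullDim A.left = (r : WithBot ℕ∞))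
    (hrB : topologicalKrullDim B.left = (r : WithBot ℕ∞)) (φ : A ⟶ B) [IsMonHom φ] [IsFinite φ.left] :
    ∃ n₀ : ℕ, ∀ n, n₀ ≤ n → Nonempty ((AbDual.TateMod B l (one' k) ⧸
        LinearMap.range (AbDual.tateMapₗ (l := l) (T := one' k) φ)) ≃+
      Additive ↥((powMonoidHom (α := kerPts φ) (l ^ n)).ker)) := by
  classical
  obtain ⟨x₀, bA, -, -, -⟩ := exists_tate_basis_av hrA hl
  obtain ⟨y₀, bB, -, -, -⟩ := exists_tate_basis_av hrB hl
  obtain ⟨e, f, a, he, -⟩ := exists_diag_bases _ (injective_tate_of_isFinite (l := l) φ) bA bB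
  obtain ⟨C⟩ := exists_addEquiv_coker _ e f a he
  refine ⟨∑ i, a i, fun n hn => ?_⟩
  let h : Additive (one' k ⟶ A) →+ Additive (one' k ⟶ B) :=
    ⟨⟨fun y => Additive.ofMul (Additive.toMul y ≫ φ), congrArg Additive.ofMul (MonObj.one_comp φ)⟩,
      fun y z => congrArg Additive.ofMul (MonObj.mul_comp _ _ φ)⟩
  obtain ⟨D⟩ := exists_addEquiv_diag_ker h (good_component e n) (good_component f n)
    (natCard_tors hrA (natCast_pow_ne_zero' hl n)) a
    (fun i => (Finset.single_le_sum (fun j _ => Nat.zero_le (a j)) (Finset.mem_univ i)).trans hn)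
    fun i => by
      have h1 := congrArg (fun s : AbDual.TateMod B l (one' k) => (s : ℕ → Additive (one' k ⟶ B)) n) (he i)
      simp only [← Nat.cast_pow, Nat.cast_smul_eq_nsmul] at h1
      exact h1.trans (natCast_zsmul _ _).symm
  refine ⟨(C.trans D).trans ?_⟩
  exact
    { toFun := fun y => Additive.ofMul ⟨⟨Additive.toMul y.1, congrArg Additive.toMul y.2.2⟩,
        Subtype.ext (congrArg Additive.toMul y.2.1)⟩
      invFun := fun x => ⟨Additive.ofMul (Additive.toMul x).1.1,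
        congrArg Additive.ofMul (congrArg Subtype.val (Additive.toMul x).2),
        congrArg Additive.ofMul (Additive.toMul x).1.2⟩
      left_inv := fun _ => rfl
      right_inv := fun _ => rfl
      map_add' := fun _ _ => rfl }

/-- The `l`-primary component of a finite group is killed by a power of `l`. -/
theorem exists_primary_eq {G : Type*} [CommGroup G] [Finite G] :
    ∃ n₀ : ℕ, ∀ n, n₀ ≤ n → (powMonoidHom (α := G) (l ^ n)).ker = CommGroup.primaryComponent G l := by
  refine ⟨padicValNat l (Nat.card G), fun n hn => ?_⟩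
  ext x
  refine ⟨fun hx => ?_, fun ⟨m, hm⟩ => ?_⟩
  · obtain ⟨m, -, hm⟩ := (Nat.dvd_prime_pow (Fact.out : l.Prime)).1 (orderOf_dvd_of_pow_eq_one (show x ^ (l ^ n) = 1 from hx))
    exact ⟨m, hm ▸ pow_orderOf_eq_one x⟩
  · show x ^ (l ^ n) = 1
    rw [← orderOf_dvd_iff_pow_eq_one]
    obtain ⟨j, -, hj⟩ := (Nat.dvd_prime_pow (Fact.out : l.Prime)).1 (orderOf_dvd_of_pow_eq_one hm)
    have hle : j ≤ padicValNat l (Nat.card G) := by
      rw [← padicValNat_dvd_iff_le Nat.card_pos.ne', ← hj]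
      exact orderOf_dvd_natCard x
    rw [hj]
    exact pow_dvd_pow l (hle.trans hn)

end Groth.Agent.AVDeg
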