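import Groth.Agent.AVDeg.FiniteKer
import Groth.Agent.AVDeg.DegBC
import Groth.Agent.FieldPow.Tangent
import Mathlib.RingTheory.Filtration

/-!
The prime power torsion subschemes of an abelian variety are jointly scheme-theoretically dense.
-/

set_option autoImplicit false
set_option backward.isDefEq.respectTransparency false
set_option backward.isDefEq.respectTransparency.types false
set_option linter.style.haveILetI false
set_option linter.unusedSectionVars false

universe u

open CategoryTheory CategoryTheory.Limits MonoidalCategory CartesianMonoidalCategory MonObj GrpObj AlgebraicGeometry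
open TopologicalSpace
open Groth.Agent.GrpField.RatClosure (pt)

noncomputable section

namespace Groth.Agent.AVDeg

variable {k : Type u} [Field k] {X : Over (Spec (CommRingCat.of k))} [GrpObj X]

/-- A morphism to `X` killed by a power map lifts to the kernel. -/
theorem factor_of_torsion {p : ℕ} {Z : Scheme.{u}} {c : Z ⟶ X.left}
    (hc : ∀ m : ℕ, 0 < m →
      ∃ t : pullback η[X].left ((𝟙 X ^ (p ^ m)).left) ⟶ Z,
        t ≫ c = pullback.snd η[X].left ((𝟙 X ^ (p ^ m)).left))
    {T : Scheme.{u}} (q : T ⟶ X.left) {m : ℕ} (hm : 0 < m)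
    (hq : q ≫ (𝟙 X ^ (p ^ m)).left = (q ≫ X.hom) ≫ η[X].left) : ∃ w : T ⟶ Z, w ≫ c = q := by
  obtain ⟨t, ht⟩ := hc m hm
  refine ⟨pullback.lift (q ≫ X.hom) q hq.symm ≫ t, ?_⟩
  rw [Category.assoc, ht, pullback.lift_snd]

open IsLocalRing in
/-- In characteristic `p` the kernels contain all infinitesimal neighbourhoods of the origin. -/
theorem surjective_of_char {p : ℕ} (hp : (p : k) = 0) [LocallyOfFiniteType X.hom] [IsIntegral X.left]
    {Z : Scheme.{u}} (c : Z ⟶ X.left) [IsClosedImmersion c]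
    (hc : ∀ m : ℕ, 0 < m →
      ∃ t : pullback η[X].left ((𝟙 X ^ (p ^ m)).left) ⟶ Z,
        t ≫ c = pullback.snd η[X].left ((𝟙 X ^ (p ^ m)).left)) : Surjective c := by
  obtain ⟨ψ, hψ, hψi, hpt, hψn⟩ := FieldPow.exists_tangent_pow X (p : ℤ)
  rw [zpow_natCast] at hψ
  haveI : IsLocallyNoetherian X.left := LocallyOfFiniteType.isLocallyNoetherian X.hom
  let O := FieldPow.O X
  let st := X.left.fromSpecStalk (FieldPow.ept X)
  let εc := FieldPow.εc X
  let ic := FieldPow.ic X
  let m₀ := maximalIdeal O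
  have hp0 : (((p : ℤ)) : O) = 0 := by
    rw [← map_intCast ic.hom, Int.cast_natCast, hp, map_zero]
  have hstep : ∀ a ∈ m₀, ψ.hom a ∈ m₀ ^ 2 := fun a ha => by
    have := hψn a ha
    rwa [hp0, zero_mul, sub_zero] at this
  have hcpow : ∀ (j : ℕ) (a : O), a ∈ m₀ ^ j → ψ.hom a ∈ m₀ ^ (2 * j) := by
    intro j a ha
    have h1 : Ideal.map ψ.hom (m₀ ^ j) ≤ m₀ ^ (2 * j) := by
      rw [Ideal.map_pow, pow_mul]
      exact Ideal.pow_right_mono (Ideal.map_le_iff_le_comap.2 hstep) j
    exact h1 (Ideal.mem_map_of_mem _ ha)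
  have hiter : ∀ j : ℕ, ∃ χ : O ⟶ O, Spec.map χ ≫ st = st ≫ (𝟙 X ^ (p ^ j)).left ∧ ic ≫ χ = ic ∧
      ∀ a ∈ m₀, χ.hom a ∈ m₀ ^ (2 ^ j) := by
    intro j
    induction j with
    | zero => exact ⟨𝟙 _, by simp, Category.comp_id _, fun a ha => by simpa using ha⟩
    | succ j ih =>
      obtain ⟨χ, h1, h2, h3⟩ := ih
      refine ⟨χ ≫ ψ, ?_, ?_, fun a ha => ?_⟩
      · rw [Spec.map_comp, Category.assoc, h1, ← Category.assoc, hψ, Category.assoc, ← Over.comp_left,
          MonObj.comp_pow, Category.comp_id, ← pow_mul, ← pow_succ']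
      · rw [← Category.assoc, h2, hψi]
      · show ψ.hom (χ.hom a) ∈ _
        rw [pow_succ']
        exact hcpow _ _ (h3 a ha)
  -- the infinitesimal neighbourhoods
  have hker : ∀ j : ℕ, ∃ (z : Z) (e : c z = FieldPow.ept X), ∀ a : O,
      (c.stalkMap z).hom ((X.left.presheaf.stalkCongr (.of_eq e.symm)).hom.hom a) = 0 → a ∈ m₀ ^ (2 ^ (j + 1)) := by
    intro j
    obtain ⟨χ, h1, h2, h3⟩ := hiter (j + 1)
    let R := CommRingCat.of (O ⧸ m₀ ^ (2 ^ (j + 1)))
    let qR : O ⟶ R := CommRingCat.ofHom (Ideal.Quotient.mk _)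
    have hfac : χ ≫ qR = εc ≫ ic ≫ qR := by
      ext a : 2
      show Ideal.Quotient.mk _ (χ.hom a) = Ideal.Quotient.mk _ (ic.hom (εc.hom a))
      rw [Ideal.Quotient.eq, show ic.hom (εc.hom a) = χ.hom (ic.hom (εc.hom a)) from
        (congrArg (fun g => g.hom (εc.hom a)) h2).symm, ← map_sub]
      refine h3 _ ?_
      rw [show m₀ = _ from (FieldPow.ker_εc X).symm, RingHom.mem_ker, map_sub, FieldPow.εc_ic, sub_self]
    obtain ⟨w, hw⟩ := factor_of_torsion hc (Spec.map qR ≫ st) (Nat.succ_pos j) (by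
      rw [Category.assoc, ← h1, ← Category.assoc, ← Spec.map_comp, hfac, Spec.map_comp, Spec.map_comp,
        Category.assoc, Category.assoc, FieldPow.map_εc, FieldPow.map_ic]
      simp only [Category.assoc]
      rfl)
    have hne : m₀ ^ (2 ^ (j + 1)) ≠ ⊤ := fun h =>
      (maximalIdeal.isMaximal O).ne_top (top_le_iff.1 (h ▸ Ideal.pow_le_self (by positivity)))
    haveI : Nontrivial R := Ideal.Quotient.nontrivial_iff.2 hne
    haveI : IsLocalRing R := .of_surjective' (Ideal.Quotient.mk _) Ideal.Quotient.mk_surjective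
    haveI : IsLocalHom qR.hom := IsLocalHom.of_surjective _ Ideal.Quotient.mk_surjective
    have hcz : c (w (closedPoint R)) = FieldPow.ept X := by
      rw [← Scheme.Hom.comp_apply, hw, Scheme.Hom.comp_apply, Spec_closedPoint, Scheme.fromSpecStalk_closedPoint]
    obtain ⟨χZ, hχZ⟩ := Cartier.exists_Spec_map_fromSpecStalk w rfl
    refine ⟨w (closedPoint R), hcz, fun a ha => ?_⟩
    have key : (X.left.presheaf.stalkCongr (.of_eq hcz.symm)).hom ≫ c.stalkMap (w (closedPoint R)) ≫ χZ = qR := by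
      refine Spec.map_injective ((cancel_mono st).1 ?_)
      rw [Spec.map_comp, Spec.map_comp, Category.assoc, Category.assoc]
      conv_rhs => rw [← hw, ← hχZ, Category.assoc]
      congr 1
      rw [← Scheme.SpecMap_stalkMap_fromSpecStalk]
      congr 1
      exact Scheme.SpecMap_stalkSpecializes_fromSpecStalk (specializes_of_eq hcz)
    have := congrArg (fun g => g.hom a) key
    simp only [CommRingCat.hom_comp, RingHom.comp_apply, ha, map_zero] at this
    exact Ideal.Quotient.eq_zero_iff_mem.1 this.symm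
  obtain ⟨z, hz, -⟩ := hker 0
  let gam : O ⟶ Z.presheaf.stalk z := (X.left.presheaf.stalkCongr (.of_eq hz.symm)).hom ≫ c.stalkMap z
  have hinj : Function.Injective gam.hom := by
    refine (injective_iff_map_eq_zero _).2 fun a ha => ?_
    have hall : ∀ j, a ∈ m₀ ^ (2 ^ (j + 1)) := fun j => by
      obtain ⟨z', hz', h'⟩ := hker j
      obtain rfl : z' = z := c.isClosedEmbedding.injective (hz'.trans hz.symm)
      exact h' a ha
    have : a ∈ (⨅ i : ℕ, m₀ ^ i) := by
      rw [Submodule.mem_iInf]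
      intro i
      exact Ideal.pow_le_pow_right ((Nat.lt_two_pow_self).le.trans (Nat.pow_le_pow_right two_pos i.le_succ)) (hall i)
    rwa [Ideal.iInf_pow_eq_bot_of_isLocalRing _ (maximalIdeal.isMaximal O).ne_top] at this
  have hsurj : Function.Surjective gam.hom := by
    show Function.Surjective ((c.stalkMap z).hom ∘ (X.left.presheaf.stalkCongr (.of_eq hz.symm)).hom.hom)
    exact Function.Surjective.comp (c.stalkMap_surjective z)
      ((X.left.presheaf.stalkCongr (.of_eq hz.symm)).commRingCatIsoToRingEquiv).surjective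
  haveI : IsIso gam := (ConcreteCategory.isIso_iff_bijective gam).2 ⟨hinj, hsurj⟩
  have hst : Spec.map gam ≫ st = Z.fromSpecStalk z ≫ c := by
    rw [Spec.map_comp, Category.assoc, ← Scheme.SpecMap_stalkMap_fromSpecStalk]
    congr 1
    exact Scheme.SpecMap_stalkSpecializes_fromSpecStalk (specializes_of_eq hz)
  refine ⟨fun x => ?_⟩
  have hgen : genericPoint X.left ∈ Set.range c := by
    have h1 : genericPoint X.left ∈ Set.range st := by
      rw [Scheme.range_fromSpecStalk]
      exact genericPoint_specializes _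
    obtain ⟨y, hy⟩ := h1
    obtain ⟨y', rfl⟩ := (Spec.map gam).surjective y
    refine ⟨Z.fromSpecStalk z y', ?_⟩
    rw [← Scheme.Hom.comp_apply, ← hst, Scheme.Hom.comp_apply, hy]
  exact c.isClosedMap.isClosed_range.stableUnderSpecialization (genericPoint_specializes x) hgen

/-- In characteristic different from `p` the torsion points are dense. -/
theorem surjective_of_coprime [IsCommMonObj X] [IsProper X.hom] [GeometricallyIntegral X.hom] {p : ℕ} [Fact p.Prime]
    (hp : (p : k) ≠ 0) {Z : Scheme.{u}} (c : Z ⟶ X.left) [IsClosedImmersion c]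
    (hc : ∀ m : ℕ, 0 < m →
      ∃ t : pullback η[X].left ((𝟙 X ^ (p ^ m)).left) ⟶ Z,
        t ≫ c = pullback.snd η[X].left ((𝟙 X ^ (p ^ m)).left)) : Surjective c := by
  let Ω := AlgebraicClosure k
  let pr : (bcK k Ω X).left ⟶ X.left := pullback.fst X.hom (specMap k Ω)
  haveI : Surjective pr := surjective_fst_bcK Ω X
  have hcl : IsClosed (pr ⁻¹' Set.range c) := c.isClosedMap.isClosed_range.preimage pr.continuous
  have hsub : pt '' {a : one' Ω ⟶ bcK k Ω X | ∃ n : ℕ, a ^ (p ^ n) = 1} ⊆ pr ⁻¹' Set.range c := by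
    rintro _ ⟨a, ⟨n, hn⟩, rfl⟩
    have hn' : a ^ (p ^ (n + 1)) = 1 := by rw [pow_succ, pow_mul, hn, one_pow]
    obtain ⟨f, rfl⟩ := (ptsBC (A := X) Ω).surjective a
    have hf : f ^ (p ^ (n + 1)) = 1 := by
      have hmul : ∀ i : ℕ, ptsBC Ω (f ^ i) = ptsBC Ω f ^ i := fun i =>
        map_pow ({ ptsBC (A := X) Ω with map_mul' := ptsBC_mul Ω } : (SGA7.pt (K := k) Ω ⟶ X) ≃* _) f i
      refine (ptsBC (A := X) Ω).injective ?_
      rw [hmul, hn']
      exact (map_one ({ ptsBC (A := X) Ω with map_mul' := ptsBC_mul Ω } : (SGA7.pt (K := k) Ω ⟶ X) ≃* _)).symm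
    have he : f ≫ 𝟙 X ^ (p ^ (n + 1)) = toUnit _ ≫ η[X] := by
      rw [MonObj.comp_pow, Category.comp_id, hf, Hom.one_def]
    obtain ⟨w, hw⟩ := factor_of_torsion hc f.left (Nat.succ_pos n) (by
      rw [← Over.comp_left, he, Over.comp_left, Over.toUnit_left, Over.w f])
    refine ⟨w (IsLocalRing.closedPoint Ω), ?_⟩
    rw [← Scheme.Hom.comp_apply, hw]
    show _ = pr ((unitPt Ω ≫ (Over.pullback (specMap k Ω)).map f).left _)
    rw [← Scheme.Hom.comp_apply]
    refine congrArg (fun g : Spec (CommRingCat.of Ω) ⟶ X.left => g (IsLocalRing.closedPoint Ω)) ?_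
    have := congrArg (fun g => g.left) ((ptsBC (A := X) Ω).symm_apply_apply f)
    exact this.symm
  have huniv : pr ⁻¹' Set.range c = Set.univ :=
    Set.eq_univ_of_univ_subset (((dense_torsion (k := Ω) (A := bcK k Ω X) (l := p)
      (ne_zero_bc Ω hp)).closure_eq).ge.trans (closure_minimal hsub hcl))
  refine ⟨fun x => ?_⟩
  obtain ⟨y, rfl⟩ := pr.surjective x
  exact (huniv.ge trivial : y ∈ pr ⁻¹' Set.range c)

end Groth.Agent.AVDeg
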