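import Groth.Agent.AVDeg.Torsion
import Groth.Agent.Nakai.CurveOver
import Groth.Agent.Rigid.Smooth
import Groth.Agent.Rigid.Integral
import Groth.Agent.TMul.RelAmple
import Mathlib.AlgebraicGeometry.Sites.Fpqc

/-!
Homomorphisms killing torsion points.
-/

set_option autoImplicit false
set_option backward.isDefEq.respectTransparency false
set_option backward.isDefEq.respectTransparency.types false
set_option linter.style.haveILetI false
set_option linter.unusedSectionVars false

universe u

open CategoryTheory CategoryTheory.Limits MonoidalCategory CartesianMonoidalCategory MonObj AlgebraicGeometry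
open TopologicalSpace

noncomputable section

namespace Groth.Agent.AVDeg

attribute [local instance] W7Cube.law
attribute [local instance] overInst

variable {k : Type u} [Field k] [IsAlgClosed k] {A B : Over (Spec (CommRingCat.of k))}

theorem hom_ext_points [IsReduced A.left] [LocallyOfFiniteType A.hom] [IsSeparated B.hom]
    [LocallyOfFiniteType B.hom] {φ ψ : A ⟶ B} (h : ∀ a : one' k ⟶ A, a ≫ φ = a ≫ ψ) : φ = ψ := by
  refine Over.OverMorphism.ext ?_
  haveI : LocallyOfFiniteType (φ.left ≫ B.hom) := by rw [Over.w φ]; infer_instance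
  refine ext_of_apply_eq (K := k) B.hom Set.univ isOpen_univ.isLocallyClosed dense_univ (fun x _ hx => ?_)
    ((Over.w φ).trans (Over.w ψ).symm)
  let p := (pointEquivClosedPoint A.hom).symm ⟨x, hx⟩
  have hp : p.1 (IsLocalRing.closedPoint k) = x :=
    congrArg Subtype.val ((pointEquivClosedPoint A.hom).apply_symm_apply ⟨x, hx⟩)
  have h1 := congrArg (fun q : one' k ⟶ B => q.left (IsLocalRing.closedPoint k))
    (h (Over.homMk p.1 p.2))
  simp only [Over.comp_left, Scheme.Hom.comp_apply, Over.homMk_left] at h1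
  exact (congrArg φ.left hp.symm).trans (h1.trans (congrArg ψ.left hp))

section Factor

variable [GrpObj A] [GrpObj B] {C : Over (Spec (CommRingCat.of k))} [GrpObj C]

/-- A homomorphism killing the points of the kernel of an etale isogeny factors through it. -/
theorem exists_factor [IsProper A.hom] [GeometricallyIntegral A.hom] [IsProper B.hom] [GeometricallyIntegral B.hom]
    [IsProper C.hom] (φ : A ⟶ B) [IsMonHom φ] [IsFinite φ.left] [Surjective φ.left] [Etale φ.left]
    (ψ : A ⟶ C) [IsMonHom ψ] (h : ∀ a : one' k ⟶ A, a ≫ φ = η[B] → a ≫ ψ = η[C]) :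
    ∃ ρ : B ⟶ C, IsMonHom ρ ∧ φ ≫ ρ = ψ ∧ ∀ ρ' : B ⟶ C, φ ≫ ρ' = ψ → ρ' = ρ := by
  haveI : Smooth A.hom := by
    haveI : Flat A.hom := inferInstance
    haveI : LocallyOfFinitePresentation A.hom := inferInstance
    exact Groth.Agent.S7795.result A
  haveI := isIntegral_av B
  let R : Over (Spec (CommRingCat.of k)) := Over.mk (pullback.fst φ.left φ.left ≫ A.hom)
  haveI : Smooth R.hom := by
    show Smooth (pullback.fst φ.left φ.left ≫ A.hom)
    infer_instance
  haveI : IsReduced R.left := Groth.Agent.SmoothRed.isReduced_of_smooth_scheme (R := CommRingCat.of k) R.hom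
  let r₁ : R ⟶ A := Over.homMk (pullback.fst φ.left φ.left) rfl
  let r₂ : R ⟶ A := Over.homMk (pullback.snd φ.left φ.left) (by
    show pullback.snd φ.left φ.left ≫ A.hom = pullback.fst φ.left φ.left ≫ A.hom
    rw [← Over.w φ, ← Category.assoc, ← pullback.condition, Category.assoc])
  have hr : r₁ ≫ ψ = r₂ ≫ ψ := by
    refine hom_ext_points fun p => ?_
    have h1 : (p ≫ r₁) ≫ φ = (p ≫ r₂) ≫ φ := by
      simp only [Category.assoc]
      congr 1
      exact Over.OverMorphism.ext pullback.condition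
    have h2 : ((p ≫ r₁) * (p ≫ r₂)⁻¹) ≫ φ = η[B] := by
      rw [MonObj.mul_comp, GrpObj.inv_comp, h1, mul_inv_cancel, Hom.one_def, toUnit_unit, Category.id_comp]
    have h3 := h _ h2
    rw [MonObj.mul_comp, GrpObj.inv_comp] at h3
    have h4 : ((p ≫ r₁) ≫ ψ) * ((p ≫ r₂) ≫ ψ)⁻¹ = 1 := by
      rw [h3, Hom.one_def, toUnit_unit, Category.id_comp]
    simpa only [Category.assoc] using mul_inv_eq_one.1 h4
  have hcond : ∀ {Z : Scheme.{u}} (g₁ g₂ : Z ⟶ A.left), g₁ ≫ φ.left = g₂ ≫ φ.left → g₁ ≫ ψ.left = g₂ ≫ ψ.left := by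
    intro Z g₁ g₂ hg
    have hl := congrArg (fun m => pullback.lift g₁ g₂ hg ≫ m.left) hr
    simp only [Over.comp_left] at hl
    rw [show r₁.left = pullback.fst φ.left φ.left from rfl, show r₂.left = pullback.snd φ.left φ.left from rfl,
      pullback.lift_fst_assoc, pullback.lift_snd_assoc] at hl
    exact hl
  haveI : EffectiveEpi φ.left := inferInstance
  let ρl := EffectiveEpi.desc φ.left ψ.left hcond
  have hfac : φ.left ≫ ρl = ψ.left := EffectiveEpi.fac φ.left ψ.left hcond
  let ρ : B ⟶ C := Over.homMk ρl (by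
    rw [← cancel_epi φ.left, ← Category.assoc, hfac, Over.w ψ, Over.w φ])
  have hρ : φ ≫ ρ = ψ := Over.OverMorphism.ext hfac
  refine ⟨ρ, ?_, hρ, fun ρ' h' => ?_⟩
  · refine Rigid.isMonHom_of_unit (Rigid.goodFibres_of_geometricallyIntegral B.hom)
      (Rigid.isPreconnected_fibre_of_geometricallyIntegral B.hom) ρ ?_
    rw [← IsMonHom.one_hom φ, Category.assoc, hρ, IsMonHom.one_hom ψ]
  · exact Over.OverMorphism.ext ((cancel_epi φ.left).1 ((congrArg Over.Hom.left h').trans hfac.symm))

end Factor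

/-- A nonconstant map is finite on some curve. -/
theorem exists_curve_finite [IsProper A.hom] [IsProper B.hom] (φ : A ⟶ B) {a b : one' k ⟶ A}
    [IsIntegral A.left] (hab : a ≫ φ ≠ b ≫ φ) :
    ∃ (Z : Over (Spec (CommRingCat.of k))) (i : Z ⟶ A), IsProper Z.hom ∧ IsIntegral Z.left ∧
      topologicalKrullDim Z.left = ((1 : ℕ) : WithBot ℕ∞) ∧ IsFinite (i ≫ φ).left := by
  haveI := isProper_hom φ
  haveI := CurveRR.isNoetherian_of_proper k A.left
  haveI := CurveRR.isNoetherian_of_proper k B.left
  -- a curve in the image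
  let ξ₀ := φ.left (genericPoint A.left)
  have hmem : ∀ x : A.left, φ.left x ∈ closure ({ξ₀} : Set B.left) := fun x =>
    specializes_iff_mem_closure.1 ((genericPoint_specializes x).map φ.left.continuous)
  obtain ⟨e, he⟩ := Nakai.exists_dim_closure k ξ₀
  have he0 : e ≠ 0 := fun h0 => hab (point_ext (by
    rw [h0, Nat.cast_zero] at he
    haveI : T0Space (closure ({ξ₀} : Set B.left)) := Subtype.t0Space
    have key : ∀ c : one' k ⟶ A, (c ≫ φ).left (IsLocalRing.closedPoint k) = ξ₀ := fun c => by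
      have hcl := (pointEquivClosedPoint B.hom ⟨(c ≫ φ).left, point_comp_hom (c ≫ φ)⟩).2
      by_contra hne
      have h1 : (1 : WithBot ℕ∞) ≤ topologicalKrullDim (closure ({ξ₀} : Set B.left)) :=
        Intersect.le_dim_closed_of_chain isClosed_closure
          ![(c ≫ φ).left (IsLocalRing.closedPoint k), ξ₀]
          (fun i => by
            fin_cases i
            · rw [Over.comp_left]; exact hmem _
            · exact subset_closure rfl)
          (fun i j hij => by
            fin_cases i <;> fin_cases j <;> simp at hij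
            refine ⟨?_, hne⟩
            rw [Over.comp_left]
            exact (genericPoint_specializes _).map φ.left.continuous)
      rw [he] at h1
      exact absurd h1 (by simp)
    rw [key a, key b]))
  have hdown : ∀ (n : ℕ) (ξ : B.left), ξ ∈ closure ({ξ₀} : Set B.left) →
      topologicalKrullDim (closure ({ξ} : Set B.left)) = ((n + 1 : ℕ) : WithBot ℕ∞) →
      ∃ ζ ∈ closure ({ξ₀} : Set B.left), topologicalKrullDim (closure ({ζ} : Set B.left)) = ((1 : ℕ) : WithBot ℕ∞) := by
    intro n
    induction n with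
    | zero => exact fun ξ h1 h2 => ⟨ξ, h1, h2⟩
    | succ n ih =>
      intro ξ h1 h2
      obtain ⟨ζ, hζ, -, hd⟩ := Intersect.exists_mem_closure_dim h2
      exact ih ζ (closure_minimal (Set.singleton_subset_iff.2 h1) isClosed_closure hζ) hd
  obtain ⟨e, rfl⟩ := Nat.exists_eq_succ_of_ne_zero he0
  obtain ⟨ξ, hξ0, hξ⟩ := hdown e ξ₀ (subset_closure rfl) he
  let j := Devissage.Zi ξ
  letI : (Scheme.IdealSheafData.vanishingIdeal (Devissage.Zc ξ)).subscheme.Over (Spec (CommRingCat.of k)) :=
    ⟨j ≫ B.hom⟩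
  haveI : IsProper ((Scheme.IdealSheafData.vanishingIdeal (Devissage.Zc ξ)).subscheme ↘ Spec (CommRingCat.of k)) :=
    inferInstanceAs (IsProper (j ≫ B.hom))
  let g := pullback.snd φ.left j
  haveI : Surjective g := ⟨fun w => by
    obtain ⟨x, hx⟩ : j w ∈ Set.range φ.left :=
      closure_minimal (t := Set.range φ.left)
        (Set.singleton_subset_iff.2 (Set.mem_range_self (genericPoint A.left)))
        φ.left.isClosedMap.isClosed_range
        (closure_minimal (Set.singleton_subset_iff.2 hξ0) isClosed_closure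
          (specializes_iff_mem_closure.1 (Devissage.specializes_Zi ξ w)))
    obtain ⟨v, -, hv⟩ := Scheme.Pullback.exists_preimage_pullback (f := φ.left) (g := j) x w hx
    exact ⟨v, hv⟩⟩
  letI : (pullback φ.left j).Over (Spec (CommRingCat.of k)) := ⟨g ≫ j ≫ B.hom⟩
  haveI : IsProper ((pullback φ.left j) ↘ Spec (CommRingCat.of k)) := inferInstanceAs (IsProper (g ≫ j ≫ B.hom))
  obtain ⟨w, hw⟩ : ξ ∈ Set.range j := by rw [Devissage.range_Zi]; exact subset_closure rfl
  obtain ⟨v, hgv, hdv⟩ := Nakai.exists_over k g rfl w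
  have hwd : topologicalKrullDim (closure ({w} : Set _)) = ((1 : ℕ) : WithBot ℕ∞) := by
    rw [← hξ]
    have him : j '' closure ({w} : Set _) = closure {ξ} := by
      rw [← j.isClosedEmbedding.closure_image_eq, Set.image_singleton, hw]
    rw [← him]
    exact (j.isClosedEmbedding.isEmbedding.homeomorphImage _).isHomeomorph.topologicalKrullDim_eq
  let Zs := (Scheme.IdealSheafData.vanishingIdeal (Devissage.Zc v)).subscheme
  let iz : Zs ⟶ A.left := Devissage.Zi v ≫ pullback.fst φ.left j
  haveI : IsIntegral Zs := Devissage.Zi_isIntegral v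
  let Z : Over (Spec (CommRingCat.of k)) := Over.mk (iz ≫ A.hom)
  let i : Z ⟶ A := Over.homMk iz
  have hZd : topologicalKrullDim Z.left = ((1 : ℕ) : WithBot ℕ∞) := by
    rw [← hwd, ← hdv, ← Devissage.range_Zi v]
    exact IsHomeomorph.topologicalKrullDim_eq _
      (Devissage.Zi v).isClosedEmbedding.isEmbedding.toHomeomorph.isHomeomorph
  haveI : IsProper Z.hom := inferInstanceAs (IsProper ((Devissage.Zi v ≫ pullback.fst φ.left j) ≫ A.hom))
  haveI := isProper_hom (i ≫ φ)
  refine ⟨Z, i, inferInstance, inferInstanceAs (IsIntegral Zs), hZd, ?_⟩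
  haveI : IsIntegral Z.left := inferInstanceAs (IsIntegral Zs)
  haveI := CurveRR.isNoetherian_of_proper k Z.left
  haveI : JacobsonSpace Z.left := LocallyOfFiniteType.jacobsonSpace Z.hom
  let z := genericPoint Z.left
  have hz : (i ≫ φ).left z = ξ := by
    show (iz ≫ φ.left) z = ξ
    rw [show iz ≫ φ.left = (Devissage.Zi v ≫ g) ≫ j by simp [iz, g, pullback.condition],
      Scheme.Hom.comp_apply, Scheme.Hom.comp_apply,
      show Devissage.Zi v z = v from Devissage.genericPoint_Zi v, hgv, hw]
  haveI : LocallyQuasiFinite (i ≫ φ).left := by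
    refine .of_finite_preimage_singleton _ fun y => ?_
    by_cases hy : y = ξ
    · rw [hy]
      refine (Set.finite_singleton z).subset fun x hx => ?_
      by_contra hne
      have h1 := (i ≫ φ).left.isClosedMap _ (isClosed_closure (s := ({x} : Set Z.left)))
      have h2 : (i ≫ φ).left '' closure {x} = closure {ξ} := by
        refine Set.Subset.antisymm ?_ (closure_minimal
          (Set.singleton_subset_iff.2 ⟨x, subset_closure rfl, hx⟩) h1)
        refine (image_closure_subset_closure_image (i ≫ φ).left.continuous).trans ?_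
        rw [Set.image_singleton, show (i ≫ φ).left x = ξ from hx]
      have h3 : topologicalKrullDim (closure ({x} : Set Z.left)) < ((1 : ℕ) : WithBot ℕ∞) :=
        Intersect.dim_proper_lt (X := Z.left) (ξ := z) (by
            rw [genericPoint_closure]
            exact Intersect.lt_succ_of_le' ((topologicalKrullDim_subspace_le Z.left _).trans hZd.le))
          isClosed_closure (by rw [genericPoint_closure]; exact Set.subset_univ _)
          (fun h => hne ((genericPoint_specializes x).antisymm (specializes_iff_mem_closure.2 h)).eq.symm)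
      have h4 := Intersect.dim_image_le (i ≫ φ).left (isClosed_closure (s := ({x} : Set Z.left)))
      rw [h2, hξ] at h4
      exact absurd h3 h4.not_gt
    · by_cases hcl : ((i ≫ φ).left ⁻¹' {y}).Nonempty
      swap
      · rw [Set.not_nonempty_iff_eq_empty.1 hcl]; exact Set.finite_empty
      obtain ⟨x, hx⟩ := hcl
      have hyc : IsClosed ({y} : Set B.left) := by
        have hxc : IsClosed ({x} : Set Z.left) := by
          obtain ⟨c, hc, hcc⟩ := (isClosed_closure (s := ({x} : Set Z.left))).exists_closed_singleton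
            ⟨x, subset_closure rfl⟩
          by_contra hnc
          have hxz : x ≠ z := fun e => hy (by rw [← hz, ← e]; exact hx.symm)
          have hcx : c ≠ x := fun e => hnc (e ▸ hcc)
          have h2 : ((2 : ℕ) : WithBot ℕ∞) ≤ topologicalKrullDim (Set.univ : Set Z.left) :=
            Intersect.le_dim_closed_of_chain isClosed_univ ![c, x, z] (fun _ => trivial) (fun p q hpq => by
              fin_cases p <;> fin_cases q <;> simp at hpq
              · exact ⟨specializes_iff_mem_closure.2 hc, hcx⟩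
              · exact ⟨genericPoint_specializes c, fun e => hxz ((genericPoint_specializes x).antisymm
                  ((congrArg (x ⤳ ·) (show c = z from e)).mp (specializes_iff_mem_closure.2 hc))).eq.symm⟩
              · exact ⟨genericPoint_specializes x, hxz⟩)
          have h12 := h2.trans ((topologicalKrullDim_subspace_le Z.left Set.univ).trans hZd.le)
          norm_cast at h12
        have h1 := (i ≫ φ).left.isClosedMap _ hxc
        rwa [Set.image_singleton, show (i ≫ φ).left x = y from hx] at h1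
      refine (CurveRR.finite_of_dim_le_zero (k := k) (hyc.preimage (i ≫ φ).left.continuous) (Intersect.le_of_lt_succ' ?_))
      exact Intersect.dim_proper_lt (X := Z.left) (ξ := z) (n := 1) (by
            rw [genericPoint_closure]
            exact Intersect.lt_succ_of_le' ((topologicalKrullDim_subspace_le Z.left _).trans hZd.le))
          (hyc.preimage (i ≫ φ).left.continuous) (by rw [genericPoint_closure]; exact Set.subset_univ _)
          (fun h => hy (by rw [← hz]; exact h.symm))
  exact IsFinite.of_isProper_of_locallyQuasiFinite _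

/-- A homomorphism divisible by arbitrarily high powers of `l` is trivial. -/
theorem eq_one_of_divisible [GrpObj A] [IsProper A.hom] [GeometricallyIntegral A.hom] [IsCommMonObj A]
    [GrpObj B] [IsProper B.hom] [GeometricallyIntegral B.hom] [IsCommMonObj B]
    {l : ℕ} (hl : 1 < l) (φ : A ⟶ B) [IsMonHom φ]
    (h : ∀ n : ℕ, ∃ ψ : A ⟶ B, IsMonHom ψ ∧ φ = (𝟙 A ^ (l ^ n)) ≫ ψ) : φ = 1 := by
  haveI := isIntegral_av A
  by_contra hne
  obtain ⟨a, ha⟩ : ∃ a : one' k ⟶ A, a ≫ φ ≠ a ≫ (1 : A ⟶ B) := by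
    by_contra h'
    push_neg at h'
    exact hne (hom_ext_points h')
  have hab : a ≫ φ ≠ (1 : one' k ⟶ A) ≫ φ := by
    rwa [MonObj.one_comp φ, ← MonObj.comp_one (M := B) a]
  obtain ⟨Z, i, hZp, hZi, hZd, hfin⟩ := exists_curve_finite φ hab
  haveI := hZp
  obtain ⟨H, hH, ⟨eH⟩⟩ := Groth.Agent.S8121.result k B
  let c : PicLoc.PicSet B.left := PicGrp.cls H hH.1
  have hsym : W7Cube.pc c (𝟙 B)⁻¹ = c := by
    rw [W7Cube.pc, W7Cube.pull_cls]
    exact ((PicGrp.cls_eq_cls_iff hH.1 _).2 ⟨eH⟩).symm
  haveI := hfin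
  have hamp : CohB1.IsAmple ((Scheme.Modules.pullback (i ≫ φ).left).obj H) :=
    TMul.isAmple_pullback_of_isAffineHom _ hH
  have hc : W7Cube.pc c (i ≫ φ) = PicGrp.cls _ hamp.1 := W7Cube.pull_cls _ _ _
  have hpos : 0 < top k (fun _ : Fin 1 => W7Cube.pc c (i ≫ φ)) := by rw [hc]; exact top_pos hZd hamp
  obtain ⟨d, hd⟩ : ∃ d : ℤ, top k (fun _ : Fin 1 => W7Cube.pc c (i ≫ φ)) = (d : ℚ) := by
    obtain ⟨z, hz⟩ := Intersect.alt_int k (Coh.structureModule Z.left)
      (fun _ : Fin 1 => rep (W7Cube.pc c (i ≫ φ)))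
    exact ⟨(-1) ^ 1 * z, by rw [top, hz]; push_cast; ring⟩
  have hd0 : d ≠ 0 := fun h0 => hpos.ne' (by rw [hd, h0, Int.cast_zero])
  obtain ⟨n, hn⟩ : ∃ n : ℕ, d.natAbs < l ^ n := ⟨d.natAbs, Nat.lt_pow_self hl⟩
  obtain ⟨ψ, hψ, hψe⟩ := h n
  haveI := hψ
  let c' := W7Cube.pc c ψ
  have hsym' : W7Cube.pc c' (𝟙 A)⁻¹ = c' := by
    show W7Cube.pull (𝟙 A)⁻¹.left (W7Cube.pull ψ.left c) = W7Cube.pull ψ.left c
    have hi : (𝟙 A)⁻¹ ≫ ψ = ψ ≫ (𝟙 B)⁻¹ := by
      rw [GrpObj.inv_comp, Category.id_comp, GrpObj.comp_inv, Category.comp_id]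
    conv_rhs => rw [← hsym]
    show W7Cube.pull _ (W7Cube.pc c ψ) = W7Cube.pull _ (W7Cube.pc c (𝟙 B)⁻¹)
    rw [W7Cube.pull_pc, W7Cube.pull_pc, hi]
  have h2 : W7Cube.pc c (i ≫ φ) = W7Cube.pc c' i ^ ((l ^ n) * (l ^ n)) := by
    rw [hψe, ← W7Cube.pull_pc c i, ← W7Cube.pull_pc c (𝟙 A ^ l ^ n)]
    show W7Cube.pull i.left (W7Cube.pc c' (𝟙 A ^ l ^ n)) = W7Cube.pull i.left c' ^ _
    rw [W7Cube.pc_pow, hsym', ← pow_add, map_pow]
    congr 1
    generalize l ^ n = N
    obtain ⟨m, hm⟩ := Nat.even_mul_pred_self N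
    have hsucc : N * (N + 1) = N * (N - 1) + 2 * N := by cases N <;> simp [Nat.mul_add]; ring
    have hsq : N * N = N * (N - 1) + N := by cases N <;> simp [Nat.mul_add]
    rw [hsucc, hsq, hm]
    omega
  have h3 : ∀ N : ℕ, top k (fun _ : Fin 1 => W7Cube.pc c' i ^ N) =
      (N : ℚ) * top k (fun _ : Fin 1 => W7Cube.pc c' i) := fun N => by
    have := (topLin k hZd.le).map_smul_univ (fun _ => (N : ℤ))
      (fun _ => Additive.ofMul (W7Cube.pc c' i))
    simpa [topLin_apply, zsmul_eq_mul, toMul_zsmul, zpow_natCast] using this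
  obtain ⟨z, hz⟩ := Intersect.alt_int k (Coh.structureModule Z.left) (fun _ : Fin 1 => rep (W7Cube.pc c' i))
  rw [h2, h3, top, hz] at hd
  have hd' : d = ((l ^ n * l ^ n : ℕ) : ℤ) * ((-1) ^ 1 * z) := by exact_mod_cast hd.symm
  have hdvd : l ^ n ∣ d.natAbs := Int.natCast_dvd.1 ⟨(l ^ n : ℤ) * ((-1) ^ 1 * z), by rw [hd']; push_cast; ring⟩
  exact absurd (Nat.le_of_dvd (Int.natAbs_pos.2 hd0) hdvd) hn.not_ge

end Groth.Agent.AVDeg
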