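import Groth.Agent.AVDeg.PointCount
import Groth.Agent.AVDeg.Poincare
import Groth.Agent.FinHopf.FrobKill
import Groth.Agent.FinHopf.GrpScheme

/-!
`q/π` is an endomorphism.
-/

set_option autoImplicit false
set_option backward.isDefEq.respectTransparency false
set_option backward.isDefEq.respectTransparency.types false
set_option linter.style.haveILetI false
set_option linter.unusedSectionVars false
set_option synthInstance.maxHeartbeats 400000
set_option maxHeartbeats 1000000

universe u

open CategoryTheory CategoryTheory.Limits MonoidalCategory CartesianMonoidalCategory MonObj AlgebraicGeometry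
open TopologicalSpace TensorProduct

noncomputable section

namespace Groth.Agent.AVDeg

variable {k : Type u} [Field k] [Finite k] {p e : ℕ} [Fact p.Prime] [CharP k p] (hq : Nat.card k = p ^ e)

/-- Finite commutative group schemes with trivial Frobenius are killed by `q`. -/
theorem pow_eq_one_of_frobOver (N : Over (Spec (CommRingCat.of k))) [GrpObj N] [IsCommMonObj N] [IsFinite N.hom]
    (hN : frobOver p e hq N = 1) : (𝟙 N : N ⟶ N) ^ Nat.card k = 1 := by
  haveI : IsAffine N.left := isAffine_of_isAffineHom N.hom
  obtain ⟨C, hC, ee, hee⟩ := FinHopf.exists_hopf N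
  letI := hC
  haveI := hee
  haveI : IsIso ee.hom.left := inferInstanceAs (IsIso ((Over.forget _).map ee.hom))
  have hfin : (algebraMap k C).Finite := by
    have h0 : IsFinite (ee.hom.left ≫ N.hom) := inferInstance
    have : IsFinite (Spec.map (CommRingCat.ofHom (algebraMap k C))) := by
      rw [show Spec.map (CommRingCat.ofHom (algebraMap k C)) = ee.hom.left ≫ N.hom from (Over.w ee.hom).symm]
      exact h0
    exact (IsFinite.SpecMap_iff _).mp this
  haveI : Module.Finite k C := RingHom.finite_algebraMap.1 hfin
  haveI : Nontrivial C := FinHopf.nontrivial_of_hopf k C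
  haveI : CharP C p := charP_of_injective_algebraMap (algebraMap k C).injective p
  haveI : ExpChar C p := ExpChar.prime Fact.out
  haveI : Coalgebra.IsCocomm k C := by
    refine ⟨LinearMap.ext fun a => ?_⟩
    let i₁ : WithConv (C →ₐ[k] C ⊗[k] C) := WithConv.toConv Algebra.TensorProduct.includeLeft
    let i₂ : WithConv (C →ₐ[k] C ⊗[k] C) := WithConv.toConv Algebra.TensorProduct.includeRight
    have h : i₂ * i₁ = i₁ * i₂ := by
      apply (Spec.mapMulEquiv (R := k) (S := C) (T := C ⊗[k] C)).injective
      rw [map_mul, map_mul, ← cancel_mono ee.hom, MonObj.mul_comp, MonObj.mul_comp, _root_.mul_comm]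
    have h' := congr(($h).ofConv a)
    simp only [AlgHom.convMul_def, i₁, i₂, WithConv.ofConv_toConv, AlgHom.comp_apply,
      Bialgebra.comulAlgHom_apply] at h'
    show TensorProduct.comm k C C (Coalgebra.comul a) = Coalgebra.comul a
    have e₁ : ∀ t : C ⊗[k] C, TensorProduct.comm k C C t = Algebra.TensorProduct.lmul' k
        (Algebra.TensorProduct.map (Algebra.TensorProduct.includeRight : C →ₐ[k] C ⊗[k] C)
          Algebra.TensorProduct.includeLeft t) := fun t => by
      induction t using TensorProduct.induction_on with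
      | zero => simp
      | tmul x y => simp
      | add x y hx hy => simp only [map_add, hx, hy]
    have e₂ : ∀ t : C ⊗[k] C, Algebra.TensorProduct.lmul' k
        (Algebra.TensorProduct.map (Algebra.TensorProduct.includeLeft : C →ₐ[k] C ⊗[k] C)
          Algebra.TensorProduct.includeRight t) = t := fun t => by
      induction t using TensorProduct.induction_on with
      | zero => simp
      | tmul x y => simp
      | add x y hx hy => simp only [map_add, hx, hy]
    exact (e₁ _).trans (h'.trans (e₂ _))
  let S := (Spec C).asOver (Spec (CommRingCat.of k))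
  have hS : frobOver p e hq S = 1 := by
    rw [← cancel_mono ee.hom, frobOver_comp hq, hN, MonObj.comp_one, MonObj.one_comp]
  have hfrob : ∀ a : C, a ^ (p ^ e) = algebraMap k C (Coalgebra.counit (R := k) a ^ (p ^ e)) := by
    intro a
    have h1 : (frobOver p e hq S).left =
        Spec.map (CommRingCat.ofHom (iterateFrobenius C p e)) := WeilLib.frobPow_Spec p C e
    have h2 : Spec.map (CommRingCat.ofHom (iterateFrobenius C p e)) = Spec.map
        (CommRingCat.ofHom (1 : WithConv (C →ₐ[k] C)).ofConv.toRingHom) :=
      h1.symm.trans (congrArg CommaMorphism.left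
        (hS.trans (map_one (Spec.mapMulEquiv (R := k) (S := C) (T := C))).symm))
    have h3 := congr($(Spec.map_injective h2) a)
    refine (show a ^ (p ^ e) = algebraMap k C (Coalgebra.counit (R := k) a) from ?_).trans (congrArg _ ?_)
    · exact (iterateFrobenius_def p e a).symm.trans (h3.trans (by simp [AlgHom.convOne_def]))
    · rw [← hq]
      haveI := Fintype.ofFinite k
      rw [Nat.card_eq_fintype_card, FiniteField.pow_card]
  have h := congr_arg (Spec.mapMulEquiv (R := k) (S := C) (T := C))
    (FinHopf.id_pow_eq_one_of_frob (A := C) p e hfrob)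
  rw [map_pow, map_one, show Spec.mapMulEquiv (R := k) (S := C) (T := C) (WithConv.toConv (AlgHom.id k C)) =
    𝟙 S from Over.OverMorphism.ext (Spec.map_id C)] at h
  rw [hq, ← cancel_epi ee.hom, MonObj.comp_pow, Category.comp_id, MonObj.comp_one,
    ← Category.id_comp ee.hom, ← MonObj.pow_comp, h, MonObj.one_comp]

variable {A : Over (Spec (CommRingCat.of k))} [GrpObj A] [IsProper A.hom] [GeometricallyIntegral A.hom] [IsCommMonObj A]

/-- `q/π`. -/
theorem exists_verschiebung (πA : A ⟶ A) [IsMonHom πA] (hπ : πA = frobOver p e hq A) :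
    ∃ (v : A ⟶ A) (_ : IsMonHom v), πA ≫ v = 𝟙 A ^ Nat.card k ∧ v ≫ πA = 𝟙 A ^ Nat.card k := by
  haveI := isIntegral_av A
  haveI : FrobSch.IsCharP A.left p := FrobSch.IsCharP.of_hom A.hom p
  have hb : ∀ x, πA.left x = x := fun x => by rw [hπ]; exact WeilLib.frobPow_apply p e x
  haveI : Surjective πA.left := ⟨fun x => ⟨x, hb x⟩⟩
  haveI := isProper_hom πA
  haveI : LocallyQuasiFinite πA.left := .of_finite_preimage_singleton _ fun b =>
    (Set.finite_singleton b).subset fun a ha => by rw [Set.mem_singleton_iff, ← hb a]; exact ha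
  haveI : IsFinite πA.left := IsFinite.of_isProper_of_locallyQuasiFinite _
  haveI : Flat πA.left := GrpField.flat_of_surjective πA
  haveI : IsMonHom (𝟙 A ^ Nat.card k : A ⟶ A) := isMonHom_id_pow _
  obtain ⟨N, hG, i, hi, hmono, hpb, hmem⟩ := AgIsog.exists_kernel πA
  haveI : IsFinite N.hom := MorphismProperty.of_isPullback hpb ‹IsFinite πA.left›
  haveI := hi
  haveI := hmono
  haveI : IsCommMonObj N := by
    have h1 : (snd N N * fst N N : N ⊗ N ⟶ N) = fst N N * snd N N := by
      rw [← cancel_mono i, MonObj.mul_comp, MonObj.mul_comp]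
      exact _root_.mul_comm _ _
    refine ⟨?_⟩
    rw [Hom.mul_def, Hom.mul_def, lift_fst_snd, Category.id_comp] at h1
    rw [show (β_ N N).hom = lift (snd N N) (fst N N) from by ext1 <;> simp]
    exact h1
  have hN : frobOver p e hq N = 1 := by
    rw [← cancel_mono i, frobOver_comp hq, ← hπ, (hmem N i).1 ⟨𝟙 N, Category.id_comp i⟩, MonObj.one_comp]
  obtain ⟨v, hv⟩ := AgIsog.exists_factor πA (e := 𝟙 A ^ Nat.card k) (fun T x hx => by
    obtain ⟨z, rfl⟩ := (hmem T x).2 hx
    rw [MonObj.comp_pow, Category.comp_id, ← MonObj.pow_comp, ← Category.comp_id z, ← MonObj.comp_pow,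
      pow_eq_one_of_frobOver hq N hN, MonObj.comp_one, MonObj.one_comp])
  haveI : GeometricallyConnected A.hom := W7See.geometricallyConnected_of_geometricallyIntegral A.hom
  haveI hvm : IsMonHom v := Rigid.isMonHom_of_unit (Rigid.goodFibres_of_geometrically A.hom)
    (Rigid.isPreconnected_fibre (X := A)) v (by
      conv_lhs => rw [← IsMonHom.one_hom (f := πA), Category.assoc, hv]
      exact IsMonHom.one_hom _)
  refine ⟨v, hvm, hv, Over.OverMorphism.ext ((cancel_epi πA.left).1 ?_)⟩
  rw [← Over.comp_left, ← Over.comp_left]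
  congr 1
  rw [← Category.assoc, hv, MonObj.pow_comp, Category.id_comp, MonObj.comp_pow, Category.comp_id]

theorem eq_frobOver (πA : A ⟶ A) (hb : πA.left.base = 𝟙 _) (hle : ∀ U : A.left.Opens, U ≤ πA.left ⁻¹ᵁ U)
    (happ : ∀ (U : A.left.Opens) (s : Γ(A.left, U)), (πA.left.appLE U U (hle U)).hom s = s ^ Nat.card k) :
    πA = frobOver p e hq A := by
  haveI : FrobSch.IsCharP A.left p := FrobSch.IsCharP.of_hom A.hom p
  exact Over.OverMorphism.ext (WeilLib.eq_frobPow p e πA.left hb hle fun U s => by rw [happ U s, hq])

end Groth.Agent.AVDeg
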