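import Groth.Agent.AVDeg.RiemannHyp
import Groth.Agent.LinAlg.WeilNumbers

/-!
The roots of the characteristic polynomial of Frobenius on the Tate module.
-/

set_option autoImplicit false
set_option backward.isDefEq.respectTransparency false
set_option backward.isDefEq.respectTransparency.types false
set_option linter.style.haveILetI false
set_option linter.unusedSectionVars false
set_option synthInstance.maxHeartbeats 400000
set_option maxHeartbeats 1000000

universe u

open CategoryTheory CategoryTheory.Limits MonoidalCategory CartesianMonoidalCategory MonObj AlgebraicGeometry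
open TopologicalSpace

noncomputable section

namespace Groth.Agent.AVDeg

variable {k : Type u} [Field k] (Ω : Type u) [Field Ω] [Algebra k Ω] [IsAlgClosed Ω]
variable {A : Over (Spec (CommRingCat.of k))}
variable [GrpObj A] [IsProper A.hom] [GeometricallyIntegral A.hom] [IsCommMonObj A]

/-- An integer polynomial which is the characteristic polynomial on a Tate module is the degree polynomial. -/
theorem charpoly_tate_data {l : ℕ} [Fact l.Prime] (hl : (l : k) ≠ 0) {r : ℕ}
    (hA : topologicalKrullDim A.left = (r : WithBot ℕ∞)) (φ : A ⟶ A) [IsMonHom φ]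
    [Module.Free ℤ_[l] (AbDual.TateMod A l (SGA7.pt (K := k) Ω))]
    [Module.Finite ℤ_[l] (AbDual.TateMod A l (SGA7.pt (K := k) Ω))]
    {P : Polynomial ℤ}
    (hP : (AbDual.tateMapₗ (l := l) (T := SGA7.pt (K := k) Ω) φ).charpoly = P.map (Int.castRingHom ℤ_[l])) :
    P.Monic ∧ P.natDegree = 2 * r ∧
      ∀ n : ℤ, P.eval n = deg (EndAV.End.toHom (endBC Ω (EndAV.End.of φ) - (n : EndAV.End (bcK k Ω A)))) := by
  obtain ⟨P', h1, h2, h3, h4⟩ := exists_charpoly_tate Ω hl hA (EndAV.End.of φ)
  have e : P' = P := Polynomial.map_injective (Int.castRingHom ℤ_[l]) Int.cast_injective (h4.symm.trans hP)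
  subst e
  refine ⟨h1, h2, fun n => ?_⟩
  rw [h3, ← map_intCast (endBC Ω : EndAV.End A →+* _) n, ← map_sub, toHom_endBC, deg_bcMap Ω hA]

/-- Products over the roots are degrees, in particular integers. -/
theorem exists_int_prod_roots {r : ℕ} (hA : topologicalKrullDim A.left = (r : WithBot ℕ∞))
    (ψ : EndAV.End (bcK k Ω A)) {P : Polynomial ℤ} (hP : P.Monic) (hPd : P.natDegree = 2 * r)
    (hPv : ∀ n : ℤ, P.eval n = deg (EndAV.End.toHom (ψ - (n : EndAV.End (bcK k Ω A))))) (F : Polynomial ℤ) :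
    ∃ N : ℤ, ((LinAlg.WeilNumbers.rts P).map fun ω => Polynomial.aeval ω F).prod = N :=
  ⟨(deg (EndAV.End.toHom (Polynomial.aeval ψ F)) : ℕ),
    (deg_aeval ((topologicalKrullDim_bcK Ω).trans hA) ψ hP hPd hPv ℂ F).symm.trans (Int.cast_natCast _).symm⟩

theorem exists_dim' : ∃ r : ℕ, topologicalKrullDim A.left = (r : WithBot ℕ∞) :=
  haveI : Nonempty A.left := ⟨η[A].left (IsLocalRing.closedPoint k)⟩
  exists_dim A

/-- Everything known about the roots of the characteristic polynomial of Frobenius. -/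
theorem frobenius_data [Finite k] {l : ℕ} [Fact l.Prime] (hl : (l : k) ≠ 0)
    (πA : A ⟶ A) [IsMonHom πA] (hb : πA.left.base = 𝟙 _)
    (hle : ∀ U : A.left.Opens, U ≤ πA.left ⁻¹ᵁ U)
    (happ : ∀ (U : A.left.Opens) (s : Γ(A.left, U)), (πA.left.appLE U U (hle U)).hom s = s ^ Nat.card k)
    [Module.Free ℤ_[l] (AbDual.TateMod A l (SGA7.pt (K := k) Ω))]
    [Module.Finite ℤ_[l] (AbDual.TateMod A l (SGA7.pt (K := k) Ω))]
    {P : Polynomial ℤ}
    (hP : (AbDual.tateMapₗ (l := l) (T := SGA7.pt (K := k) Ω) πA).charpoly = P.map (Int.castRingHom ℤ_[l]))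
    {r : ℕ} (hA : topologicalKrullDim A.left = (r : WithBot ℕ∞)) :
    P.Monic ∧ P.natDegree = 2 * r ∧ 0 ≤ P.eval 0 ∧
      (∀ ω ∈ LinAlg.WeilNumbers.rts P, ‖ω‖ = Real.sqrt (Nat.card k)) ∧
      ∀ F : Polynomial ℤ, ∃ N : ℤ, ((LinAlg.WeilNumbers.rts P).map fun ω => Polynomial.aeval ω F).prod = N := by
  obtain ⟨h1, h2, h3⟩ := charpoly_tate_data Ω hl hA πA hP
  refine ⟨h1, h2, ?_, riemann_hypothesis Ω πA hb hle happ hA h1 h2 h3, exists_int_prod_roots Ω hA _ h1 h2 h3⟩
  have := h3 0
  rw [this]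
  exact Int.natCast_nonneg _

end Groth.Agent.AVDeg
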