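import Groth.Agent.AVDeg.PointCount
import Groth.Agent.LinAlg.AltProd

/-!
The zeta function of an abelian variety.
-/

set_option autoImplicit false
set_option backward.isDefEq.respectTransparency false
set_option backward.isDefEq.respectTransparency.types false
set_option linter.style.haveILetI false
set_option linter.unusedSectionVars false
set_option synthInstance.maxHeartbeats 400000

universe u

open CategoryTheory CategoryTheory.Limits MonoidalCategory CartesianMonoidalCategory MonObj AlgebraicGeometry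
open TopologicalSpace

noncomputable section

namespace Groth.Agent.AVDeg

variable {k : Type u} [Field k] (Ω : Type u) [Field Ω] [Algebra k Ω] [IsAlgClosed Ω]
variable {A : Over (Spec (CommRingCat.of k))}
variable [GrpObj A] [IsProper A.hom] [GeometricallyIntegral A.hom] [IsCommMonObj A]

/-- The symmetric functions of powers of the roots are integers. -/
theorem exists_int_esymm_pow {r : ℕ} (hA : topologicalKrullDim A.left = (r : WithBot ℕ∞))
    (ψ : EndAV.End (bcK k Ω A)) {P : Polynomial ℤ} (hP : P.Monic) (hPd : P.natDegree = 2 * r)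
    (hPv : ∀ n : ℤ, P.eval n = deg (EndAV.End.toHom (ψ - (n : EndAV.End (bcK k Ω A))))) (j m : ℕ) :
    ∃ N : ℤ, ((((P.map (Int.castRingHom ℂ)).roots.powersetCard j).map Multiset.prod).map
      fun c => c ^ m).sum = (N : ℂ) := by
  rw [Multiset.map_map]
  have hcard : (P.map (Int.castRingHom ℂ)).roots.card = 2 * r := by
    rw [← (IsAlgClosed.splits _).natDegree_eq_card_roots, hP.natDegree_map, hPd]
  rcases lt_or_ge (2 * r) j with hj | hj
  · exact ⟨0, by rw [Multiset.powersetCard_eq_empty j (hcard.le.trans_lt hj)]; simp⟩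
  have hrΩ := (topologicalKrullDim_bcK (A := A) Ω).trans hA
  obtain ⟨Q, hQ, hQd, hQv⟩ := exists_charpoly hrΩ (Polynomial.aeval ψ (Polynomial.X ^ m : Polynomial ℤ))
  have hroots := roots_charpoly_aeval hrΩ ψ (Polynomial.X ^ m) hP hPd hPv hQv ℂ
  simp only [map_pow, Polynomial.aeval_X] at hroots
  have hQdeg : (Q.map (Int.castRingHom ℂ)).natDegree = 2 * r := (hQ.natDegree_map _).trans hQd
  have hc := Polynomial.coeff_eq_esymm_roots_of_card (p := Q.map (Int.castRingHom ℂ))
    (by rw [hQdeg, hroots, Multiset.card_map, hcard]) (k := 2 * r - j) (by omega)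
  rw [hQdeg, Nat.sub_sub_self hj, (hQ.map _).leadingCoeff, _root_.one_mul, hroots, Polynomial.coeff_map,
    eq_intCast, ← LinAlg.AltProd.esymm_map_pow] at hc
  refine ⟨(-1) ^ j * Q.coeff (2 * r - j), ?_⟩
  rw [Int.cast_mul, Int.cast_pow, Int.cast_neg, Int.cast_one, hc, ← _root_.mul_assoc, ← mul_pow, neg_one_mul, neg_neg,
    one_pow, _root_.one_mul]
  rfl

/-- `P_j` has integer coefficients. -/
theorem exists_int_Pj {r : ℕ} (hA : topologicalKrullDim A.left = (r : WithBot ℕ∞))
    (ψ : EndAV.End (bcK k Ω A)) {P : Polynomial ℤ} (hP : P.Monic) (hPd : P.natDegree = 2 * r)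
    (hPv : ∀ n : ℤ, P.eval n = deg (EndAV.End.toHom (ψ - (n : EndAV.End (bcK k Ω A))))) (j : ℕ) :
    ∃ Q : Polynomial ℤ, Q.map (Int.castRingHom ℂ) = LinAlg.AltProd.Pj (P.map (Int.castRingHom ℂ)).roots j := by
  obtain ⟨Q, hQ⟩ := LinAlg.AltProd.exists_int_poly
    (((P.map (Int.castRingHom ℂ)).roots.powersetCard j).map Multiset.prod) (fun c hc => by
      obtain ⟨I, hI, rfl⟩ := Multiset.mem_map.1 hc
      refine IsIntegral.multiset_prod fun ω hω => ⟨P, hP, ?_⟩
      have hω' := Multiset.mem_of_le (Multiset.mem_powersetCard.1 hI).1 hω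
      rw [Polynomial.mem_roots (hP.map _).ne_zero, Polynomial.IsRoot.def, Polynomial.eval_map] at hω'
      rwa [show (algebraMap ℤ ℂ) = Int.castRingHom ℂ from RingHom.ext_int _ _])
    fun m => exists_int_esymm_pow Ω hA ψ hP hPd hPv j (m + 1)
  exact ⟨Q, hQ.trans (by rw [Multiset.map_map]; rfl)⟩

end Groth.Agent.AVDeg
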